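import Cfsg.Agent.H583.DPi.Eng_m3
import Cfsg.Agent.H553.RV.LinG_m3
import Mathlib
import Cfsg.Agent.H892.EP.Cusp
import Cfsg.Agent.H331.BFChev
import Cfsg.Agent.H233.RC.RedA
import Cfsg.Agent.KFacts.Unit.OutHom
import Cfsg.Agent.H933.MonBound
import Cfsg.Agent.H817.PD.Final_m3
import Cfsg.Agent.H953.Rank
import Cfsg.Agent.ClassicalGeometry.HermOrtho
import Cfsg.Agent.ClassicalGeometry.PSUAutCount
import Cfsg.Agent.H553.OddHall_m3
import Cfsg.Agent.S0280
import Cfsg.Agent.ClassicalGeometry.PSUAutMain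
import Cfsg.Agent.H38.NP.Dim
import Cfsg.Agent.H907.FieldAdj
import Cfsg.Agent.S0071
import Cfsg.Agent.Lib.NilpotentCoprime
import Cfsg.Agent.CpAutU.Fixed
import Cfsg.Agent.H382.FieldAction
import Cfsg.Agent.S2536
import Cfsg.Agent.H77.Step2_mg
import Cfsg.Agent.H77.Final
import Cfsg.Agent.S2148
import Cfsg.Agent.H556.HallSURow_m3
import Cfsg.Agent.Lib.NormalAbelian
import Cfsg.Agent.H167.RV.Hall_m3
import Cfsg.Agent.S0205
import Cfsg.Agent.S2535
import Cfsg.Agent.Cit.TypeDet.Mathieu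
import Cfsg.Agent.SporadicA.MathieuRecog
import Cfsg.Agent.S0243
import Cfsg.Agent.H807.El.Mathieu
import Cfsg.Agent.H729.PairMathieu
import Cfsg.Agent.H481.TBound
import Cfsg.Agent.S0249
import Cfsg.Agent.S0813
import Cfsg.Agent.S2060
import Cfsg.Agent.S2063
import Cfsg.Agent.ClassicalGeometry.PSL2Basic
import Cfsg.Agent.H394.SqPsu3
import Cfsg.Agent.ClassicalGeometry.PSL2ElemOrder
import Cfsg.Agent.SmallSimple.PSLTwoPart
import Cfsg.Agent.H127.PSUThree
import Cfsg.Agent.H160.PSLTwo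
import Cfsg.Agent.S0044
import Cfsg.Agent.S0005
import Cfsg.Agent.S1069
import Cfsg.Agent.S1159
import Cfsg.Agent.OddHalf.Known
import Cfsg.Agent.FastGrp
import Cfsg.Agent.Prune
set_option linter.all false

section
prune_inst 0x7ffcacf82bb8a9deffff7e77f6d0cffc39901fffe6dff9433fe021cf0b9f030009c52b8509e000fe0ee2621400b87843f97eceffe06bdc7ffffd5df45ffbee0fe5f6bd08519488340fbc0ff603f077886f1ffffffffcffffffffffffffffffaeffbfffffffff

-- part: H506/DPL/Defs2_mg
section
prune_inst 0x101009000500100000000000800000202c00000000400800a08000000801200000028000090000000002008000000000000000000000000000000000000401001000000020400000020000000000000200000000000000000000000000010000000000000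
set_option linter.all false
open scoped Cfsg.Agent.FastGrp

-- part: H506/DPL/Defs
section
/-!
# S4247, row `[L]` (`PSL_n(q)`, `n ≥ 3`, `p ∉ π`): definitions and statements (helper506)

`V = F ^ n`.  `GamL F n` : the semilinear permutations of `V`; `Ind h α` : `h` induces the automorphism `α` of `PSL_n(F)`;
`hat X` : the semilinear permutations which induce elements of `X ≤ Aut PSL_n(F)`.

`Lift P P'` : `P' ≤ GL_n(F)` is a Hall `π`-subgroup and `P` is the image of `P' ∩ SL_n(F)`.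

`Fr π P' t m f` : `t ∈ π` a prime with `2 e(t) < t`, `f` a frame of `P'` for `t` (`H553.RV.Fm`) whose supports
`Rg ρ (f i)` are permuted by `P'`.
-/

set_option autoImplicit false
set_option linter.unusedSectionVars false

namespace Cfsg.Agent.H506.DPL

open Matrix Module Cfsg Cfsg.Agent.H167.OP Cfsg.Agent.H170.HL Cfsg.Agent.H556.HallRowAbs Cfsg.Agent.H553.RV
open Cfsg.Agent.H817.DPi

universe u

/-- the semilinear permutations of `F ^ n` -/
def GamL (F : Type) [Field F] (n : ℕ) : Subgroup (Equiv.Perm (Fin n → F)) where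
  carrier := {h | (∀ v w, h (v + w) = h v + h w) ∧ ∃ σ : F ≃+* F, ∀ (c : F) (v : Fin n → F), h (c • v) = σ c • h v}
  mul_mem' := by
    rintro a b ⟨ha, σ, hσ⟩ ⟨hb, τ, hτ⟩
    refine ⟨fun v w => ?_, τ.trans σ, fun c v => ?_⟩
    · rw [Equiv.Perm.mul_apply, hb, ha]; rfl
    · rw [Equiv.Perm.mul_apply, hτ, hσ]; rfl
  one_mem' := ⟨fun _ _ => rfl, RingEquiv.refl F, fun _ _ => rfl⟩
  inv_mem' := by
    rintro a ⟨ha, σ, hσ⟩
    refine ⟨fun v w => a.injective ?_, σ.symm, fun c v => a.injective ?_⟩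
    · rw [ha]; simp only [_root_.Equiv.Perm.coe_inv, _root_.Equiv.apply_symm_apply]
    · rw [hσ]; simp only [_root_.Equiv.Perm.coe_inv, _root_.Equiv.apply_symm_apply, _root_.RingEquiv.apply_symm_apply]

section
variable {F : Type} [Field F] {n : ℕ}

/-- `h` induces `α` -/
def Ind (h : Equiv.Perm (Fin n → F)) (α : MulAut (ProjectiveSpecialLinearGroup (Fin n) F)) : Prop :=
  ∀ s s' : _root_.Matrix.SpecialLinearGroup (Fin n) F, (∀ v, h (s.1 *ᵥ v) = s'.1 *ᵥ (h v)) →
    α (QuotientGroup.mk s : ProjectiveSpecialLinearGroup (Fin n) F) = QuotientGroup.mk s'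

/-- the semilinear permutations inducing elements of `X` -/
def hat (X : Subgroup (MulAut (ProjectiveSpecialLinearGroup (Fin n) F))) : Subgroup (Equiv.Perm (Fin n → F)) :=
  Subgroup.closure {h | h ∈ GamL F n ∧ ∃ α ∈ X, Ind h α}

/-- the group `P × K` -/
def AA (P : Subgroup (ProjectiveSpecialLinearGroup (Fin n) F))
    (K : Subgroup (MulAut (ProjectiveSpecialLinearGroup (Fin n) F))) :
    Subgroup (MulAut (ProjectiveSpecialLinearGroup (Fin n) F)) :=
  P.map MulAut.conj ⊔ K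

/-- no element of `hat X` maps `x` into the line of `y` -/
def Sep (X : Subgroup (MulAut (ProjectiveSpecialLinearGroup (Fin n) F))) (x y : Fin n → F) : Prop :=
  ∀ h ∈ hat X, ∀ c : F, h x ≠ c • y

/-- the representation of `GL_n(F)` -/
noncomputable abbrev rg (F : Type) [Field F] (n : ℕ) : Representation F (Matrix (Fin n) (Fin n) F)ˣ (Fin n → F) :=
  rep (Units.coeHom (Matrix (Fin n) (Fin n) F))

/-- the order of `q` modulo `t` -/
noncomputable abbrev eo (F : Type) [Field F] [Fintype F] (t : ℕ) : ℕ := orderOf (Fintype.card F : ZMod t)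

/-- the unit of a matrix of determinant one -/
def toU : _root_.Matrix.SpecialLinearGroup (Fin n) F →* (Matrix (Fin n) (Fin n) F)ˣ := SpecialLinearGroup.toGL

/-- `P'` lifts `P` -/
structure Lift [Fintype F] (π : Set ℕ) (P : Subgroup (ProjectiveSpecialLinearGroup (Fin n) F))
    (P' : Subgroup (Matrix (Fin n) (Fin n) F)ˣ) : Prop where
  hall : IsPiHall π P'
  down : ∀ s : _root_.Matrix.SpecialLinearGroup (Fin n) F, toU s ∈ P' → (QuotientGroup.mk s : ProjectiveSpecialLinearGroup (Fin n) F) ∈ P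
  up : ∀ x ∈ P, ∃ s : _root_.Matrix.SpecialLinearGroup (Fin n) F, toU s ∈ P' ∧ (QuotientGroup.mk s : ProjectiveSpecialLinearGroup (Fin n) F) = x

/-- the frame -/
structure Fr [Fintype F] (π : Set ℕ) (P' : Subgroup (Matrix (Fin n) (Fin n) F)ˣ) (t m : ℕ)
    (f : Fin m → (Matrix (Fin n) (Fin n) F)ˣ) : Prop where
  prime : t.Prime
  mem : t ∈ π
  gen : 2 * eo F t < t
  exc : ¬ (n = 3 ∧ t = 3)
  pos : 0 < m
  fm : Fm (rg F n) (eo F) P' t m f
  perm : ∀ g ∈ P', ∀ i, ∃ j, (Rg (rg F n) (f i)).map (rg F n g) = Rg (rg F n) (f j)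
  hc : HC F P'

/-- the common fixed space of the frame -/
noncomputable def V0 {m : ℕ} (f : Fin m → (Matrix (Fin n) (Fin n) F)ˣ) : Submodule F (Fin n → F) :=
  ⨅ i, LinearMap.ker (rg F n (f i) - 1)

end

/-! ## The statements -/

/-- L1a -/
def StHat : Prop := ∀ (F : Type) [Field F] [Fintype F] (n : ℕ)
  (X : Subgroup (MulAut (ProjectiveSpecialLinearGroup (Fin n) F))) (h : Equiv.Perm (Fin n → F)),
  2 ≤ n → (h ∈ hat X ↔ h ∈ GamL F n ∧ ∃ α ∈ X, Ind h α)

/-- L1b: `|B ∩ S|` divides `|hat B|` -/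
def StHatCard : Prop := ∀ (F : Type) [Field F] [Fintype F] (n : ℕ)
  (X : Subgroup (MulAut (ProjectiveSpecialLinearGroup (Fin n) F))), 2 ≤ n →
  Nat.card (X.comap MulAut.conj) ∣ Nat.card (hat X)

/-- L1c: transitivity of `hat B` on the points -/
def StTrans : Prop := ∀ (π : Set ℕ) (F : Type) [Field F] [Fintype F] (n : ℕ)
  (P : Subgroup (ProjectiveSpecialLinearGroup (Fin n) F))
  (K B : Subgroup (MulAut (ProjectiveSpecialLinearGroup (Fin n) F))),
  3 ≤ n → Cfg π P K B → ∀ x y z : Fin n → F, x ≠ 0 → y ≠ 0 → z ≠ 0 →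
  Sep (AA P K) x y → Sep (AA P K) x z → Sep (AA P K) y z →
  ∀ v w : Fin n → F, v ≠ 0 → w ≠ 0 → ∃ h ∈ hat B, ∃ c : F, h v = c • w

/-- L1d: `hat B` does not contain `SL_n(F)` -/
def StNoSL : Prop := ∀ (π : Set ℕ) (F : Type) [Field F] [Fintype F] (n : ℕ)
  (P : Subgroup (ProjectiveSpecialLinearGroup (Fin n) F))
  (K B : Subgroup (MulAut (ProjectiveSpecialLinearGroup (Fin n) F))),
  3 ≤ n → Cfg π P K B →
  ¬ ∀ g : (Fin n → F) ≃ₗ[F] (Fin n → F), LinearEquiv.det g = 1 → ∃ h ∈ hat B, ∀ v, h v = g v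

/-- L1e: the elements of `hat (P × K)` : `h = c s k`, `s ∈ P'`, `k` induces an element of `K` -/
def StForm : Prop := ∀ (π : Set ℕ) (F : Type) [Field F] [Fintype F] (n : ℕ)
  (P : Subgroup (ProjectiveSpecialLinearGroup (Fin n) F)) (P' : Subgroup (Matrix (Fin n) (Fin n) F)ˣ)
  (K : Subgroup (MulAut (ProjectiveSpecialLinearGroup (Fin n) F))),
  3 ≤ n → (∀ k ∈ K, ∀ x ∈ P, k x = x) → Lift π P P' → ∀ h ∈ hat (AA P K),
  ∃ (s : _root_.Matrix.SpecialLinearGroup (Fin n) F) (k : Equiv.Perm (Fin n → F)) (α : MulAut (ProjectiveSpecialLinearGroup (Fin n) F)),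
    toU s ∈ P' ∧ k ∈ GamL F n ∧ α ∈ K ∧ Ind k α ∧ ∀ v, h v = s.1 *ᵥ (k v)

/-- L1f: the lift of the Hall subgroup (S4350) -/
def StLift : Prop := ∀ (π : Set ℕ) (p : ℕ) (F : Type) [Field F] [Fintype F] [CharP F p] (n : ℕ)
  (P : Subgroup (ProjectiveSpecialLinearGroup (Fin n) F)), p.Prime → p ∉ π → 2 ∉ π → 2 ≤ n → IsPiHall π P →
  ∃ P' : Subgroup (Matrix (Fin n) (Fin n) F)ˣ, Lift π P P'

/-- L2a: existence of the frame -/
def StFr : Prop := ∀ (π : Set ℕ) (p : ℕ) (F : Type) [Field F] [Fintype F] [CharP F p] (n : ℕ)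
  (P' : Subgroup (Matrix (Fin n) (Fin n) F)ˣ), p.Prime → p ∉ π → 2 ∉ π → 3 ≤ n → IsPiHall π P' →
  ¬ Group.IsNilpotent P' → ∃ (t m : ℕ) (f : Fin m → (Matrix (Fin n) (Fin n) F)ˣ), Fr π P' t m f

/-- L2b: the decomposition `V = V_0 ⊕ W_1 ⊕ ... ⊕ W_m` -/
def StDec : Prop := ∀ (π : Set ℕ) (p : ℕ) (F : Type) [Field F] [Fintype F] [CharP F p] (n : ℕ)
  (P' : Subgroup (Matrix (Fin n) (Fin n) F)ˣ) (t m : ℕ) (f : Fin m → (Matrix (Fin n) (Fin n) F)ˣ),
  p.Prime → p ∉ π → Fr π P' t m f →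
  finrank F (V0 f) + m * eo F t = n ∧ finrank F (V0 f) < eo F t ∧
  (∀ g ∈ P', ∀ v ∈ V0 f, rg F n g v ∈ V0 f) ∧
  (∀ v : Fin n → F, ∃ v0 ∈ V0 f, ∃ w : Fin m → (Fin n → F), (∀ i, w i ∈ Rg (rg F n) (f i)) ∧ v = v0 + ∑ i, w i) ∧
  (∀ i, ∀ w ∈ Rg (rg F n) (f i), rg F n (f i) w = w → w = 0)

/-- L2c: the semilinear maps inducing elements centralising `P` -/
def StCen : Prop := ∀ (π : Set ℕ) (p : ℕ) (F : Type) [Field F] [Fintype F] [CharP F p] (n : ℕ)
  (P : Subgroup (ProjectiveSpecialLinearGroup (Fin n) F)) (P' : Subgroup (Matrix (Fin n) (Fin n) F)ˣ)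
  (t m : ℕ) (f : Fin m → (Matrix (Fin n) (Fin n) F)ˣ),
  p.Prime → p ∉ π → 3 ≤ n → Lift π P P' → Fr π P' t m f →
  ∀ (k : Equiv.Perm (Fin n → F)) (α : MulAut (ProjectiveSpecialLinearGroup (Fin n) F)), k ∈ GamL F n → Ind k α →
    (∀ x ∈ P, α x = x) →
    (∀ i, ∀ w ∈ Rg (rg F n) (f i), k w ∈ Rg (rg F n) (f i)) ∧ (∀ v ∈ V0 f, k v ∈ V0 f) ∧
    (2 ≤ eo F t → ∀ i v, k (rg F n (f i) v) = rg F n (f i) (k v))

/-- L2d: the `p`-part of `C_S(P)` -/
def StPPart : Prop := ∀ (π : Set ℕ) (p : ℕ) (F : Type) [Field F] [Fintype F] [CharP F p] (n : ℕ)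
  (P : Subgroup (ProjectiveSpecialLinearGroup (Fin n) F)) (P' : Subgroup (Matrix (Fin n) (Fin n) F)ˣ)
  (t m : ℕ) (f : Fin m → (Matrix (Fin n) (Fin n) F)ˣ),
  p.Prime → p ∉ π → 3 ≤ n → Lift π P P' → Fr π P' t m f →
  ∀ (K' : Subgroup (ProjectiveSpecialLinearGroup (Fin n) F)), (∀ x ∈ P, ∀ k ∈ K', x * k = k * x) →
  ∀ j : ℕ, p ^ j ∣ Nat.card K' →
    p ^ j ≤ Fintype.card F ^ (finrank F (V0 f) * (finrank F (V0 f) - 1) / 2)

/-- L4: Hering elimination -/
def StLH : Prop := ∀ (p a : ℕ) (F : Type) [Field F] [Fintype F] (n n0 j : ℕ) (H : Subgroup (Equiv.Perm (Fin n → F))),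
  p.Prime → Fintype.card F = p ^ a → 3 ≤ n → 2 * n0 + 1 ≤ n → H ≤ GamL F n →
  (∀ v w : Fin n → F, v ≠ 0 → w ≠ 0 → ∃ h ∈ H, ∃ c : F, h v = c • w) →
  (¬ ∀ g : (Fin n → F) ≃ₗ[F] (Fin n → F), LinearEquiv.det g = 1 → ∃ h ∈ H, ∀ v, h v = g v) →
  p ^ j ∣ Nat.card H →
  p ^ j * Fintype.card F ^ (n0 * (n0 - 1) / 2) * (2 * a) < Fintype.card F ^ (n * (n - 1) / 2)

/-- L6: the counting `|S|_p ≤ |B ∩ S|_p |C_S(P)|_p |Out S|_p` -/
def StCnt : Prop := ∀ (π : Set ℕ) (p a : ℕ) (F : Type) [Field F] [Fintype F] (n : ℕ)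
  (P : Subgroup (ProjectiveSpecialLinearGroup (Fin n) F))
  (K B : Subgroup (MulAut (ProjectiveSpecialLinearGroup (Fin n) F))),
  p.Prime → p ∉ π → Fintype.card F = p ^ a → 3 ≤ n → Cfg π P K B →
  ∃ i j : ℕ, p ^ i ∣ Nat.card (B.comap MulAut.conj) ∧ p ^ j ∣ Nat.card (K.comap MulAut.conj) ∧
    Fintype.card F ^ (n * (n - 1) / 2) ≤ p ^ i * p ^ j * (2 * a)

/-- L7: the input of `la_prime` (case `V_0 = 0`, `m = 1`, `e t = n`) -/
def StNum : Prop := ∀ (π : Set ℕ) (p : ℕ) (F : Type) [Field F] [Fintype F] [CharP F p] (n : ℕ)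
  (P' : Subgroup (Matrix (Fin n) (Fin n) F)ˣ) (t m : ℕ) (f : Fin m → (Matrix (Fin n) (Fin n) F)ˣ),
  p.Prime → p ∉ π → 2 ∉ π → 3 ≤ n → IsPiHall π P' → ¬ Group.IsNilpotent P' → Fr π P' t m f → eo F t = n →
  n.Prime ∧ n ∈ π ∧ eo F n = n - 1 ∧ ¬ n ^ 2 ∣ Fintype.card F ^ (n - 1) - 1 ∧
    ∀ r ∈ π, r.Prime → r ∣ Nat.card (Matrix (Fin n) (Fin n) F)ˣ → r ≠ n → eo F r = n

end Cfsg.Agent.H506.DPL
end

-- part: H506/DPL/Defs2
section
/-! # S4247, row `[L]`: three more statements (helper506) -/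

set_option autoImplicit false
set_option linter.unusedSectionVars false

namespace Cfsg.Agent.H506.DPL

open Matrix Module Cfsg Cfsg.Agent.H167.OP Cfsg.Agent.H170.HL Cfsg.Agent.H556.HallRowAbs Cfsg.Agent.H553.RV
open Cfsg.Agent.H817.DPi

/-- L8: three separated points (inputs: `StForm`, `StDec`, `StCen`) -/
def StThree : Prop := ∀ (π : Set ℕ) (p : ℕ) (F : Type) [Field F] [Fintype F] [CharP F p] (n : ℕ)
  (P : Subgroup (ProjectiveSpecialLinearGroup (Fin n) F)) (P' : Subgroup (Matrix (Fin n) (Fin n) F)ˣ)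
  (K : Subgroup (MulAut (ProjectiveSpecialLinearGroup (Fin n) F)))
  (t m : ℕ) (f : Fin m → (Matrix (Fin n) (Fin n) F)ˣ),
  p.Prime → p ∉ π → 2 ∉ π → 3 ≤ n → (∀ k ∈ K, ∀ x ∈ P, k x = x) → Lift π P P' → Fr π P' t m f →
  (0 < finrank F (V0 f) ∨ 2 ≤ m) →
  ∃ x y z : Fin n → F, x ≠ 0 ∧ y ≠ 0 ∧ z ≠ 0 ∧ Sep (AA P K) x y ∧ Sep (AA P K) x z ∧ Sep (AA P K) y z

/-- L9: `n = 2` : the odd `p'`-subgroups of `PSL_2(q)` are nilpotent (cyclic) -/
def StTwo : Prop := ∀ (π : Set ℕ) (p : ℕ) (F : Type) [Field F] [Fintype F] [CharP F p]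
  (P : Subgroup (ProjectiveSpecialLinearGroup (Fin 2) F)), p.Prime → p ∉ π → 2 ∉ π → IsPiHall π P →
  Group.IsNilpotent P

end Cfsg.Agent.H506.DPL
end

-- part: H159/DPi/Num
section
/-!
# S4247 (A'): arithmetic (helper159)
-/

set_option autoImplicit false

namespace Cfsg.Agent.H159.DPi

section ord

variable {n q : ℕ}

theorem dvd_pow_sub_one_iff {t i : ℕ} (hq : 0 < q) : t ∣ q ^ i - 1 ↔ ((q : ZMod t) ^ i = 1) := by
  rw [← CharP.cast_eq_zero_iff (ZMod t) t, Nat.cast_sub (Nat.one_le_pow _ _ hq), Nat.cast_pow, Nat.cast_one, sub_eq_zero]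

theorem dvd_pow_sub_one_iff_orderOf {t i : ℕ} (hq : 0 < q) : t ∣ q ^ i - 1 ↔ orderOf (q : ZMod t) ∣ i := by
  rw [dvd_pow_sub_one_iff hq, orderOf_dvd_iff_pow_eq_one]

theorem odd_f (hn : n.Prime) (hn3 : 3 ≤ n) {r f : ℕ} (ho : orderOf ((r ^ f : ℕ) : ZMod n) = n - 1) : Odd f := by
  have : Fact n.Prime := ⟨hn⟩
  by_contra hf
  rw [Nat.not_odd_iff_even] at hf
  obtain ⟨g, rfl⟩ := hf
  obtain ⟨k, hk⟩ := hn.odd_of_ne_two (by omega)
  have h1 : ((r ^ g : ℕ) : ZMod n) ≠ 0 := by
    intro h0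
    have h2 : ((r ^ (g + g) : ℕ) : ZMod n) = 0 := by
      rw [pow_add, Nat.cast_mul, h0, zero_mul]
    rw [h2, orderOf_zero] at ho
    omega
  have h2 : ((r ^ g : ℕ) : ZMod n) ^ (n - 1) = 1 := ZMod.pow_card_sub_one_eq_one h1
  have h3 : ((r ^ (g + g) : ℕ) : ZMod n) ^ k = 1 := by
    have e : n - 1 = 2 * k := by omega
    rw [e] at h2
    rw [pow_add, Nat.cast_mul, mul_pow, ← pow_add, ← two_mul, h2]
  have h4 := orderOf_dvd_of_pow_eq_one h3
  rw [ho] at h4
  have := Nat.le_of_dvd (by omega) h4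
  omega

theorem not_dvd_sub_one (hn3 : 3 ≤ n) (hq : 0 < q) (ho : orderOf (q : ZMod n) = n - 1) : ¬ n ∣ q - 1 := by
  intro h
  have h1 : n ∣ q ^ 1 - 1 := by rwa [pow_one]
  rw [dvd_pow_sub_one_iff_orderOf hq, ho, Nat.dvd_one] at h1
  omega

theorem not_dvd_pow_sub_one {t : ℕ} (hq : 0 < q) (ho : orderOf (q : ZMod t) = n) (i : ℕ) (h0 : 0 < i) (hi : i < n) :
    ¬ t ∣ q ^ i - 1 := by
  rw [dvd_pow_sub_one_iff_orderOf hq, ho]
  intro h
  have := Nat.le_of_dvd h0 h
  omega

end ord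

/-- geometric sums -/
theorem geom_eq {q n : ℕ} (hq : 2 ≤ q) : (q ^ n - 1) / (q - 1) = ∑ i ∈ Finset.range n, q ^ i :=
  (Nat.geomSum_eq hq n).symm

theorem geom_ge {q n : ℕ} (hq : 2 ≤ q) (hn : 3 ≤ n) :
    q ^ (n - 1) + q ^ (n - 2) + q ^ (n - 3) ≤ (q ^ n - 1) / (q - 1) := by
  rw [geom_eq hq]
  obtain ⟨m, rfl⟩ : ∃ m, n = m + 3 := ⟨n - 3, by omega⟩
  rw [Finset.sum_range_succ, Finset.sum_range_succ, Finset.sum_range_succ]
  have e1 : m + 3 - 1 = m + 2 := by omega
  have e2 : m + 3 - 2 = m + 1 := by omega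
  have e3 : m + 3 - 3 = m := by omega
  rw [e1, e2, e3]
  have := Nat.zero_le (∑ i ∈ Finset.range m, q ^ i)
  omega

theorem geom_lt {q n : ℕ} (hq : 2 ≤ q) (hn : 0 < n) : (q ^ n - 1) / (q - 1) < 2 * q ^ (n - 1) := by
  have h1 : (q ^ n - 1) < 2 * q ^ (n - 1) * (q - 1) := by
    obtain ⟨m, rfl⟩ : ∃ m, n = m + 1 := ⟨n - 1, by omega⟩
    obtain ⟨c, rfl⟩ : ∃ c, q = c + 2 := ⟨q - 2, by omega⟩
    rw [pow_succ, Nat.add_sub_cancel]
    have e : c + 2 - 1 = c + 1 := by omega
    rw [e]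
    have h0 : 0 < (c + 2) ^ m := by positivity
    have h1 : 0 < (c + 2) ^ m * (c + 2) := by positivity
    have : (c + 2) ^ m * (c + 2) ≤ 2 * (c + 2) ^ m * (c + 1) := by nlinarith only [h0]
    omega
  exact Nat.div_lt_of_lt_mul (by rwa [mul_comm])

theorem three_mul_le {f : ℕ} (hf : 3 ≤ f) : 3 * f ≤ 2 ^ f + 1 := by
  induction f, hf using Nat.le_induction with
  | base => norm_num
  | succ f hf ih =>
    rw [pow_succ]
    have : 3 ≤ 2 ^ f := by
      calc 3 ≤ 2 ^ 3 := by norm_num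
        _ ≤ 2 ^ f := Nat.pow_le_pow_right (by norm_num) hf
    omega

/-- `(n f)^3 ≤ 2^(f (2 n - 3))` for `n ≥ 5`, `f ≥ 3` -/
theorem cube_le {n f : ℕ} (hn : 5 ≤ n) (hf : 3 ≤ f) : (n * f) ^ 3 ≤ 2 ^ (f * (2 * n - 3)) := by
  have h1 : ∀ m : ℕ, 1 ≤ m → m ≤ 2 ^ (m - 1) := by
    intro m hm
    have := Nat.lt_two_pow_self (n := m - 1)
    omega
  have h2 : n * f ≤ 2 ^ ((n - 1) + (f - 1)) := by
    rw [pow_add]
    exact Nat.mul_le_mul (h1 n (by omega)) (h1 f (by omega))
  calc (n * f) ^ 3 ≤ (2 ^ ((n - 1) + (f - 1))) ^ 3 := Nat.pow_le_pow_left h2 3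
    _ = 2 ^ (((n - 1) + (f - 1)) * 3) := (pow_mul _ _ _).symm
    _ ≤ 2 ^ (f * (2 * n - 3)) := by
      apply Nat.pow_le_pow_right (by norm_num)
      obtain ⟨a, rfl⟩ : ∃ a, n = a + 5 := ⟨n - 5, by omega⟩
      obtain ⟨b, rfl⟩ : ∃ b, f = b + 3 := ⟨f - 3, by omega⟩
      have e1 : 2 * (a + 5) - 3 = 2 * a + 7 := by omega
      have e2 : a + 5 - 1 = a + 4 := by omega
      have e3 : b + 3 - 1 = b + 2 := by omega
      rw [e1, e2, e3]
      nlinarith only []

/-- the inequality for `K ≠ 1` -/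
theorem num_K {n f q Q : ℕ} (hn : 3 ≤ n) (hn4 : n ≠ 4) (hf : 3 ≤ f) (hq : 2 ^ f ≤ q) (hQ : Q ^ 3 ≤ q ^ n) :
    n * (Q - 1) * f < (q ^ n - 1) / (q - 1) := by
  have hq8 : 8 ≤ q := by
    have : 2 ^ 3 ≤ 2 ^ f := Nat.pow_le_pow_right (by norm_num) hf
    omega
  refine lt_of_lt_of_le ?_ (geom_ge (by omega) hn)
  rcases Nat.eq_or_lt_of_le hn with rfl | hn
  · -- `n = 3`
    have h1 : Q ≤ q := by
      by_contra h
      push Not at h
      exact absurd hQ (not_le.2 (Nat.pow_lt_pow_left h (by norm_num)))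
    have h2 := three_mul_le hf
    have h3 : 3 * f ≤ q + 1 := by omega
    have h4 : 3 * (Q - 1) * f ≤ (q - 1) * (q + 1) := by
      calc 3 * (Q - 1) * f = (Q - 1) * (3 * f) := by ring
        _ ≤ (q - 1) * (q + 1) := Nat.mul_le_mul (by omega) h3
    obtain ⟨c, rfl⟩ : ∃ c, q = c + 1 := ⟨q - 1, by omega⟩
    rw [Nat.add_sub_cancel] at h4
    norm_num
    linarith only [h4]
  · have hn5 : 5 ≤ n := by omega
    have h1 : n * Q * f ≤ q ^ (n - 1) := by
      by_contra h
      push Not at h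
      have h2 : (q ^ (n - 1)) ^ 3 < (n * Q * f) ^ 3 := Nat.pow_lt_pow_left h (by norm_num)
      have h3 : (n * Q * f) ^ 3 ≤ (n * f) ^ 3 * q ^ n := by
        calc (n * Q * f) ^ 3 = (n * f) ^ 3 * Q ^ 3 := by ring
          _ ≤ _ := Nat.mul_le_mul_left _ hQ
      have h4 : (n * f) ^ 3 ≤ q ^ (2 * n - 3) := by
        calc (n * f) ^ 3 ≤ 2 ^ (f * (2 * n - 3)) := cube_le hn5 hf
          _ = (2 ^ f) ^ (2 * n - 3) := pow_mul _ _ _
          _ ≤ _ := Nat.pow_le_pow_left hq _
      have h5 : (q ^ (n - 1)) ^ 3 = q ^ (2 * n - 3) * q ^ n := by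
        rw [← pow_mul, ← pow_add]
        congr 1
        omega
      have h6 := Nat.mul_le_mul_right (q ^ n) h4
      omega
    have h2 : n * (Q - 1) * f ≤ n * Q * f := by
      apply Nat.mul_le_mul_right
      apply Nat.mul_le_mul_left
      omega
    have h3 : 0 < q ^ (n - 2) := by positivity
    omega

/-- subspaces of dimension `2 ≤ k ≤ n - 2` -/
theorem num_k {n q k : ℕ} (hn : n.Prime) (hq : 2 ≤ q) (hk : 2 ≤ k) (hkn : k + 2 ≤ n)
    (h : q ^ (k * (n - k)) ≤ n * ((q ^ n - 1) / (q - 1))) : n = 5 ∧ q = 2 := by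
  have hn5 : 5 ≤ n := by
    have : n ≠ 4 := by rintro rfl; exact absurd hn (by norm_num)
    omega
  have h1 : 2 * (n - 2) ≤ k * (n - k) := by
    obtain ⟨a, rfl⟩ : ∃ a, k = a + 2 := ⟨k - 2, by omega⟩
    obtain ⟨b, rfl⟩ : ∃ b, n = a + 2 + 2 + b := ⟨n - (a + 2 + 2), by omega⟩
    have e1 : a + 2 + 2 + b - 2 = a + b + 2 := by omega
    have e2 : a + 2 + 2 + b - (a + 2) = b + 2 := by omega
    rw [e1, e2]
    nlinarith only []
  have h2 : q ^ (2 * (n - 2)) ≤ n * ((q ^ n - 1) / (q - 1)) := (Nat.pow_le_pow_right (by omega) h1).trans h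
  have h3 := geom_lt (n := n) hq (by omega)
  rcases Nat.eq_or_lt_of_le hn5 with rfl | hn6
  · refine ⟨rfl, ?_⟩
    by_contra hq2
    have hq3 : 3 ≤ q := by omega
    rw [geom_eq hq] at h2
    simp only [Finset.sum_range_succ, Finset.sum_range_zero] at h2
    norm_num at h2
    obtain ⟨c, rfl⟩ : ∃ c, q = c + 3 := ⟨q - 3, by omega⟩
    ring_nf at h2
    linarith only [h2, Nat.zero_le (c ^ 3), Nat.zero_le (c ^ 4), Nat.zero_le (c ^ 5), Nat.zero_le (c ^ 6), _root_.sq_nonneg (↑c : ℤ), _root_.Nat.cast_nonneg (α := ℤ) (c)]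
  · exfalso
    have hn7 : 7 ≤ n := by
      have : n ≠ 6 := by rintro rfl; exact absurd hn (by norm_num)
      omega
    have h4 : q ^ (2 * (n - 2)) < n * (2 * q ^ (n - 1)) :=
      h2.trans_lt ((Nat.mul_lt_mul_left (by omega)).2 h3)
    have h5 : q ^ (2 * (n - 2)) = q ^ (n - 3) * q ^ (n - 1) := by
      rw [← pow_add]
      congr 1
      omega
    rw [h5, ← mul_assoc, mul_comm n 2] at h4
    have h6 : q ^ (n - 3) < 2 * n := lt_of_mul_lt_mul_right h4 (Nat.zero_le _)
    have h7 : 2 ^ (n - 3) < 2 * n := (Nat.pow_le_pow_left hq _).trans_lt h6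
    obtain ⟨m, rfl⟩ : ∃ m, n = m + 7 := ⟨n - 7, by omega⟩
    have h8 : ∀ m : ℕ, 2 * (m + 7) ≤ 2 ^ (m + 4) := by
      intro m
      induction m with
      | zero => norm_num
      | succ m ih =>
        rw [show m + 1 + 4 = (m + 4) + 1 by ring, pow_succ]
        omega
    have h9 := h8 m
    rw [show m + 7 - 3 = m + 4 by omega] at h7
    omega

/-- prime powers dividing factorials -/
theorem num_fact {m r f : ℕ} (hr : r.Prime) (hf : 0 < f) (hm : 2 ≤ m) (hm3 : m ≠ 3)
    (h : (r ^ f) ^ (m * (m - 1) / 2) ∣ (m + 1).factorial) : m = 2 ∧ (r ^ f = 2 ∨ r ^ f = 3) := by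
  have : Fact r.Prime := ⟨hr⟩
  rcases Nat.eq_or_lt_of_le hm with rfl | hm
  · refine ⟨rfl, ?_⟩
    have e : 2 * (2 - 1) / 2 = 1 := by norm_num
    rw [e, pow_one] at h
    have h1 : (2 + 1).factorial = 6 := by decide
    rw [h1] at h
    have h2 : r ^ f ∈ Nat.divisors 6 := Nat.mem_divisors.2 ⟨h, by norm_num⟩
    have h3 : Nat.divisors 6 = {1, 2, 3, 6} := by decide +kernel
    rw [h3] at h2
    simp only [Finset.mem_insert, Finset.mem_singleton] at h2
    rcases h2 with h2 | h2 | h2 | h2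
    · exact absurd h2 (Nat.one_lt_pow hf.ne' hr.one_lt).ne'
    · exact Or.inl h2
    · exact Or.inr h2
    · exfalso
      have h4 : 2 ∣ r ^ f := by rw [h2]; norm_num
      have h5 : 3 ∣ r ^ f := by rw [h2]; norm_num
      have h6 := (Nat.prime_dvd_prime_iff_eq Nat.prime_two hr).1 (Nat.prime_two.dvd_of_dvd_pow h4)
      have h7 := (Nat.prime_dvd_prime_iff_eq Nat.prime_three hr).1 (Nat.prime_three.dvd_of_dvd_pow h5)
      omega
  · exfalso
    rw [← pow_mul] at h
    have h1 := (padicValNat_dvd_iff_le (p := r) (Nat.factorial_ne_zero (m + 1))).1 h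
    have h2 : padicValNat r (m + 1).factorial < m + 1 := padicValNat_factorial_lt_of_ne_zero r (by omega)
    have h3 : m * 3 / 2 ≤ m * (m - 1) / 2 := Nat.div_le_div_right (Nat.mul_le_mul_left _ (by omega))
    have h4 : m * (m - 1) / 2 ≤ f * (m * (m - 1) / 2) := Nat.le_mul_of_pos_left _ hf
    omega

end Cfsg.Agent.H159.DPi
end

-- part: H159/DPi/Fld
section
/-!
# S4247 (A'): the centraliser of an irreducible matrix is a field (helper159)
-/

set_option autoImplicit false
set_option linter.unusedSectionVars false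

namespace Cfsg.Agent.H159.DPi

/-- the fixed points of an automorphism of a finite field -/
theorem card_fix {E : Type*} [Field E] [Finite E] (τ : RingAut E) :
    Nat.card {x : E // τ x = x} ^ orderOf τ = Nat.card E := by
  classical
  have hfin : Finite (RingAut E) := Finite.of_injective (fun (g : E ≃+* E) => (g : E → E)) DFunLike.coe_injective
  let G : Subgroup (RingAut E) := Subgroup.zpowers τ
  have := Fintype.ofFinite G
  have h1 := FixedPoints.finrank_eq_card G E
  have h2 := Module.natCard_eq_pow_finrank (K := FixedPoints.subfield G E) (V := E)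
  rw [h1] at h2
  rw [h2, ← Nat.card_eq_fintype_card, Nat.card_zpowers]
  congr 1
  refine Nat.card_congr (Equiv.subtypeEquivRight fun x => ?_)
  constructor
  · intro hx g
    have h3 : Subgroup.zpowers τ ≤ MulAction.stabilizer (RingAut E) x := by
      rw [Subgroup.zpowers_le]
      exact hx
    exact h3 g.2
  · intro hx
    exact hx ⟨τ, Subgroup.mem_zpowers τ⟩

section Mat

open Matrix

variable {F : Type} [Field F] [Fintype F] {n : ℕ}

/-- no invariant subspaces -/
def Irr (z : Matrix (Fin n) (Fin n) F) : Prop :=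
  ∀ W : Submodule F (Fin n → F), W ≤ W.comap (Matrix.toLin' z) → W ≠ ⊥ → W = ⊤

/-- the polynomials in `z` act transitively -/
theorem Irr.exists_mulVec {z : Matrix (Fin n) (Fin n) F} (h : Irr z) {v : Fin n → F} (hv : v ≠ 0) (w : Fin n → F) :
    ∃ c ∈ Algebra.adjoin F {z}, c *ᵥ v = w := by
  let W : Submodule F (Fin n → F) :=
    (Subalgebra.toSubmodule (Algebra.adjoin F {z})).map
      ((LinearMap.applyₗ v).comp (Matrix.toLin' : Matrix (Fin n) (Fin n) F ≃ₗ[F] _).toLinearMap)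
  have hW : ∀ w, w ∈ W ↔ ∃ c ∈ Algebra.adjoin F {z}, c *ᵥ v = w := by
    intro w
    constructor
    · rintro ⟨c, hc, rfl⟩
      exact ⟨c, hc, rfl⟩
    · rintro ⟨c, hc, rfl⟩
      exact ⟨c, hc, rfl⟩
  have h1 : W = ⊤ := by
    refine h W ?_ ?_
    · intro x hx
      obtain ⟨c, hc, rfl⟩ := (hW x).1 hx
      show Matrix.toLin' z (c *ᵥ v) ∈ W
      rw [hW]
      refine ⟨z * c, Subalgebra.mul_mem _ (Algebra.self_mem_adjoin_singleton F z) hc, ?_⟩
      rw [Matrix.toLin'_apply, Matrix.mulVec_mulVec]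
    · intro h0
      apply hv
      have h2 : v ∈ W := (hW v).2 ⟨1, Subalgebra.one_mem _, Matrix.one_mulVec v⟩
      rw [h0] at h2
      exact (Submodule.mem_bot F).1 h2
  have h2 : w ∈ W := by rw [h1]; trivial
  exact (hW w).1 h2

/-- a matrix commuting with `z` is zero or has no kernel -/
theorem Irr.eq_zero_of_mulVec {z : Matrix (Fin n) (Fin n) F} (h : Irr z) {x : Matrix (Fin n) (Fin n) F}
    (hx : x * z = z * x) {v : Fin n → F} (hv : v ≠ 0) (h0 : x *ᵥ v = 0) : x = 0 := by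
  have h1 : LinearMap.ker (Matrix.toLin' x) = ⊤ := by
    refine h _ ?_ ?_
    · intro w hw
      rw [LinearMap.mem_ker, Matrix.toLin'_apply] at hw
      rw [Submodule.mem_comap, LinearMap.mem_ker, Matrix.toLin'_apply, Matrix.toLin'_apply, Matrix.mulVec_mulVec, hx,
        ← Matrix.mulVec_mulVec, hw, Matrix.mulVec_zero]
    · intro h1
      apply hv
      have h2 : v ∈ LinearMap.ker (Matrix.toLin' x) := by
        rw [LinearMap.mem_ker, Matrix.toLin'_apply]
        exact h0
      rw [h1] at h2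
      exact (Submodule.mem_bot F).1 h2
  apply Matrix.toLin'.injective
  rw [map_zero]
  exact LinearMap.ker_eq_top.1 h1

theorem comm_of_mem_adjoin {z x c : Matrix (Fin n) (Fin n) F} (hx : x * z = z * x) (hc : c ∈ Algebra.adjoin F {z}) :
    x * c = c * x := by
  have h1 : Algebra.adjoin F {z} ≤ Subalgebra.centralizer F {x} := by
    rw [Algebra.adjoin_le_iff, Set.singleton_subset_iff, SetLike.mem_coe, Subalgebra.mem_centralizer_iff]
    intro y hy
    rw [Set.mem_singleton_iff] at hy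
    rw [hy, hx]
  have h2 := (Subalgebra.mem_centralizer_iff F).1 (h1 hc) x rfl
  exact h2

/-- the centraliser consists of the polynomials -/
theorem Irr.mem_adjoin {z : Matrix (Fin n) (Fin n) F} (hn : 0 < n) (h : Irr z) {x : Matrix (Fin n) (Fin n) F}
    (hx : x * z = z * x) : x ∈ Algebra.adjoin F {z} := by
  have hv : (fun _ => 1 : Fin n → F) ≠ 0 := fun h0 => one_ne_zero (congrFun h0 ⟨0, hn⟩)
  obtain ⟨c, hc, h1⟩ := h.exists_mulVec hv (x *ᵥ fun _ => 1)
  have hcz : c * z = z * c := (comm_of_mem_adjoin rfl hc).symm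
  have h2 : x - c = 0 := h.eq_zero_of_mulVec (by rw [sub_mul, mul_sub, hx, hcz]) hv
    (by rw [Matrix.sub_mulVec, h1, sub_self])
  rw [sub_eq_zero.1 h2]
  exact hc

/-- the centraliser as a field `E` -/
structure FZ (z : Matrix (Fin n) (Fin n) F) {E : Type} [Field E] (ψ : E →+* Matrix (Fin n) (Fin n) F) : Prop where
  irr : Irr z
  inj : Function.Injective ψ
  card : Nat.card E = Fintype.card F ^ n
  mem : ∀ x, x * z = z * x → ∃ a, ψ a = x
  comm : ∀ a, ψ a * z = z * ψ a

theorem exists_field {z : Matrix (Fin n) (Fin n) F} (hn : 0 < n) (h : Irr z) :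
    ∃ (E : Type) (_ : Field E) (_ : Finite E) (ψ : E →+* Matrix (Fin n) (Fin n) F), FZ z ψ := by
  classical
  let C : Subalgebra F (Matrix (Fin n) (Fin n) F) := Subalgebra.centralizer F {z}
  have hC : ∀ x, x ∈ C ↔ x * z = z * x := by
    intro x
    rw [Subalgebra.mem_centralizer_iff]
    exact ⟨fun h => (h z rfl).symm, fun h y hy => by rw [Set.mem_singleton_iff] at hy; rw [hy, h]⟩
  have : Nontrivial (Matrix (Fin n) (Fin n) F) := by
    have : Nonempty (Fin n) := ⟨⟨0, hn⟩⟩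
    infer_instance
  have hv : (fun _ => 1 : Fin n → F) ≠ 0 := fun h0 => one_ne_zero (congrFun h0 ⟨0, hn⟩)
  have hF : IsField C := by
    refine ⟨⟨0, 1, zero_ne_one⟩, ?_, ?_⟩
    · intro x y
      apply Subtype.ext
      exact comm_of_mem_adjoin ((hC _).1 x.2) (h.mem_adjoin hn ((hC _).1 y.2))
    · intro x hx
      have hx0 : (x : Matrix (Fin n) (Fin n) F) ≠ 0 := fun h0 => hx (Subtype.ext h0)
      have h1 : IsUnit (x : Matrix (Fin n) (Fin n) F) := by
        rw [← Matrix.mulVec_injective_iff_isUnit]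
        have h0 : Function.Injective (Matrix.mulVecLin (x : Matrix (Fin n) (Fin n) F)) := by
          rw [injective_iff_map_eq_zero]
          intro v h2
          by_contra hv
          exact hx0 (h.eq_zero_of_mulVec ((hC _).1 x.2) hv h2)
        exact h0
      obtain ⟨u, hu⟩ := h1
      have h2 : (u⁻¹ : (Matrix (Fin n) (Fin n) F)ˣ).1 * z = z * (u⁻¹ : (Matrix (Fin n) (Fin n) F)ˣ).1 := by
        have h3 : u.1 * z = z * u.1 := by rw [hu]; exact (hC _).1 x.2
        have h4 : Commute u.1 z := h3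
        exact h4.units_inv_left
      refine ⟨⟨(u⁻¹ : (Matrix (Fin n) (Fin n) F)ˣ).1, (hC _).2 h2⟩, Subtype.ext ?_⟩
      show (x : Matrix (Fin n) (Fin n) F) * (u⁻¹ : (Matrix (Fin n) (Fin n) F)ˣ).1 = 1
      rw [← hu, Units.mul_inv]
  let _ : Field C := hF.toField
  refine ⟨C, hF.toField, inferInstance, C.toSubring.subtype, ?_⟩
  refine ⟨h, Subtype.val_injective, ?_, fun x hx => ⟨⟨x, (hC x).2 hx⟩, rfl⟩, fun a => (hC _).1 a.2⟩
  have h1 : Function.Bijective (fun c : C => (c : Matrix (Fin n) (Fin n) F) *ᵥ (fun _ => 1 : Fin n → F)) := by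
    constructor
    · intro a b hab
      have h2 : (a : Matrix (Fin n) (Fin n) F) - b = 0 := by
        refine h.eq_zero_of_mulVec ?_ hv ?_
        · rw [sub_mul, mul_sub, (hC _).1 a.2, (hC _).1 b.2]
        · rw [Matrix.sub_mulVec, sub_eq_zero]
          exact hab
      exact Subtype.ext (sub_eq_zero.1 h2)
    · intro w
      obtain ⟨c, hc, h1⟩ := h.exists_mulVec hv w
      exact ⟨⟨c, (hC c).2 (comm_of_mem_adjoin rfl hc).symm⟩, h1⟩
  rw [Nat.card_congr (Equiv.ofBijective _ h1), Nat.card_fun, Nat.card_eq_fintype_card, Nat.card_eq_fintype_card,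
    Fintype.card_fin]

/-- elements of prime order `t` with `ord_t(q) = n` -/
theorem irr_of_pow {r t : ℕ} [Fact r.Prime] [CharP F r] [Fact t.Prime] (htr : t ≠ r)
    (h2 : ∀ i, 0 < i → i < n → ¬ t ∣ Fintype.card F ^ i - 1) {z : Matrix (Fin n) (Fin n) F} (hz : z ^ t = 1)
    (hz1 : z ≠ 1) : Irr z := by
  intro W hW h0
  refine Cfsg.Agent.H892.EP.invariant_eq_top (T := Matrix.toLin' z) (p := t) (r := r) (d := n) htr
    (by rwa [Nat.card_eq_fintype_card]) (by rw [Module.finrank_fin_fun]) ?_ ?_ W hW h0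
  · rw [← Matrix.toLin'_pow, hz, Matrix.toLin'_one]
    rfl
  · intro h
    apply hz1
    apply Matrix.toLin'.injective
    rw [h, Matrix.toLin'_one]
    rfl

variable {z : Matrix (Fin n) (Fin n) F} {E : Type} [Field E] [Finite E] {ψ : E →+* Matrix (Fin n) (Fin n) F}

theorem FZ.exists_tau (D : FZ z ψ) (κ : Matrix (Fin n) (Fin n) F → Matrix (Fin n) (Fin n) F)
    (hadd : ∀ x y, κ (x + y) = κ x + κ y) (h1 : κ 1 = 1)
    (hmul : ∀ x y, x * y = y * x → κ (x * y) = κ x * κ y)
    (hz : ∀ x, x * z = z * x → κ x * z = z * κ x) : ∃ τ : RingAut E, ∀ a, ψ (τ a) = κ (ψ a) := by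
  have h2 : ∀ a : E, ∃ b : E, ψ b = κ (ψ a) := fun a => D.mem _ (hz _ (D.comm a))
  choose f hf using h2
  have h0 : κ 0 = 0 := by
    have h3 := hadd 0 0
    rw [add_zero] at h3
    exact left_eq_add.1 h3
  let τ : E →+* E :=
    { toFun := f
      map_one' := D.inj (by rw [hf, map_one, h1])
      map_zero' := D.inj (by rw [hf, map_zero, h0])
      map_add' := fun a b => D.inj (by rw [hf, map_add, map_add, hadd, hf, hf])
      map_mul' := fun a b => D.inj (by
        rw [hf, map_mul, map_mul, hf, hf, hmul]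
        rw [← map_mul, ← map_mul, mul_comm]) }
  have h3 : Function.Bijective τ := Finite.injective_iff_bijective.1 τ.injective
  exact ⟨RingEquiv.ofBijective τ h3, fun a => hf a⟩

theorem FZ.exists_iota (D : FZ z ψ) : ∃ ι : F →+* E, ∀ c, ψ (ι c) = algebraMap F (Matrix (Fin n) (Fin n) F) c := by
  have h2 : ∀ c : F, ∃ b : E, ψ b = algebraMap F (Matrix (Fin n) (Fin n) F) c := fun c =>
    D.mem _ (Algebra.commutes c z)
  choose f hf using h2
  exact ⟨{ toFun := f
           map_one' := D.inj (by rw [hf, map_one, map_one])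
           map_zero' := D.inj (by rw [hf, map_zero, map_zero])
           map_add' := fun a b => D.inj (by rw [hf, map_add, map_add, hf, hf])
           map_mul' := fun a b => D.inj (by rw [hf, map_mul, map_mul, hf, hf]) }, fun c => hf c⟩

/-- the order of the induced automorphism -/
theorem FZ.orderOf_tau (D : FZ z ψ) (hn : 0 < n) {τ : RingAut E} {σ : RingAut F} {ι : F →+* E}
    (hι : ∀ c, ψ (ι c) = algebraMap F (Matrix (Fin n) (Fin n) F) c) (hσ : ∀ c, τ (ι c) = ι (σ c)) {a₀ : E}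
    (ha : ψ a₀ = z) (hτ : τ a₀ = a₀) : orderOf τ = orderOf σ := by
  have h1 : ∀ (m : ℕ) (c : F), (τ ^ m) (ι c) = ι ((σ ^ m) c) := by
    intro m
    induction m with
    | zero => intro c; rfl
    | succ m ih =>
      intro c
      rw [pow_succ, pow_succ]
      show (τ ^ m) (τ (ι c)) = ι ((σ ^ m) (σ c))
      rw [hσ, ih]
  have h2 : ∀ m : ℕ, (τ ^ m) a₀ = a₀ := by
    intro m
    induction m with
    | zero => rfl
    | succ m ih =>
      rw [pow_succ]
      show (τ ^ m) (τ a₀) = a₀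
      rw [hτ, ih]
  refine Nat.dvd_antisymm (orderOf_dvd_of_pow_eq_one ?_) (orderOf_dvd_of_pow_eq_one ?_)
  · refine RingEquiv.ext fun a => ?_
    show (τ ^ orderOf σ) a = a
    have h3 : ∀ x ∈ Algebra.adjoin F {z}, ∃ a, ψ a = x ∧ (τ ^ orderOf σ) a = a := by
      intro x hx
      induction hx using Algebra.adjoin_induction with
      | mem y hy =>
        rw [Set.mem_singleton_iff] at hy
        exact ⟨a₀, by rw [ha, hy], h2 _⟩
      | algebraMap c =>
        refine ⟨ι c, hι c, ?_⟩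
        rw [h1, pow_orderOf_eq_one]
        rfl
      | add x y _ _ hx hy =>
        obtain ⟨a, rfl, h3⟩ := hx
        obtain ⟨b, rfl, h4⟩ := hy
        exact ⟨a + b, map_add _ _ _, by rw [map_add, h3, h4]⟩
      | mul x y _ _ hx hy =>
        obtain ⟨a, rfl, h3⟩ := hx
        obtain ⟨b, rfl, h4⟩ := hy
        exact ⟨a * b, map_mul _ _ _, by rw [map_mul, h3, h4]⟩
    obtain ⟨b, h4, h5⟩ := h3 _ (D.irr.mem_adjoin hn (D.comm a))
    rw [← D.inj h4]
    exact h5
  · refine RingEquiv.ext fun c => ?_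
    show (σ ^ orderOf τ) c = c
    apply ι.injective
    rw [← h1, pow_orderOf_eq_one]
    rfl

/-- an automorphism of odd order does not invert an element of odd order -/
theorem false_of_inv {τ : RingAut E} (hτ : Odd (orderOf τ)) {a : E} {t : ℕ} (ht : Odd t) (ha : a ^ t = 1) (ha1 : a ≠ 1)
    (h : τ a = a⁻¹) : False := by
  have h1 : ∀ m : ℕ, (τ ^ (2 * m)) a = a := by
    intro m
    induction m with
    | zero => rfl
    | succ m ih =>
      have e : 2 * (m + 1) = 2 * m + 1 + 1 := by ring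
      rw [e, pow_succ, pow_succ]
      show (τ ^ (2 * m)) (τ (τ a)) = a
      rw [h, map_inv₀, h, inv_inv, ih]
  obtain ⟨k, hk⟩ := hτ
  have h2 : (τ ^ (2 * k + 1)) a = a := by
    rw [← hk, pow_orderOf_eq_one]
    rfl
  have h3 : τ a = a := by
    rw [pow_succ'] at h2
    have h4 : τ ((τ ^ (2 * k)) a) = a := h2
    rwa [h1] at h4
  rw [h3] at h
  have ha0 : a ≠ 0 := by
    rintro rfl
    obtain ⟨j, rfl⟩ := ht
    rw [pow_succ, mul_zero] at ha
    exact zero_ne_one ha
  have h4 : a ^ 2 = 1 := by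
    rw [pow_two]
    nth_rewrite 2 [h]
    exact mul_inv_cancel₀ ha0
  obtain ⟨j, rfl⟩ := ht
  rw [pow_succ, pow_mul, h4, one_pow, one_mul] at ha
  exact ha1 ha

/-- an element of a field extension of prime degree which is not a scalar generates it -/
theorem FZ.comm_of (D : FZ z ψ) (hn : n.Prime) {g x : Matrix (Fin n) (Fin n) F} (hg : g * z = z * g)
    (hs : ∀ c : F, g ≠ algebraMap F (Matrix (Fin n) (Fin n) F) c) (hx : x * g = g * x) : x * z = z * x := by
  obtain ⟨ι, hι⟩ := D.exists_iota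
  obtain ⟨b, hb⟩ := D.mem g hg
  obtain ⟨a₀, ha₀⟩ := D.mem z rfl
  let _ : Algebra F E := ι.toAlgebra
  have hfr : Module.finrank F E = n := by
    have h1 := Module.natCard_eq_pow_finrank (K := F) (V := E)
    rw [D.card, Nat.card_eq_fintype_card] at h1
    exact (Nat.pow_right_injective (Fintype.one_lt_card (α := F)) h1).symm
  have hfd : FiniteDimensional F E := Module.finite_of_finrank_pos (by rw [hfr]; exact hn.pos)
  have h1 : Module.finrank F (IntermediateField.adjoin F {b}) ∣ n := by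
    rw [← hfr]
    exact ⟨_, (Module.finrank_mul_finrank F (IntermediateField.adjoin F {b}) E).symm⟩
  have h2 : IntermediateField.adjoin F {b} = ⊤ := by
    rcases (Nat.dvd_prime hn).1 h1 with h3 | h3
    · exfalso
      rw [IntermediateField.finrank_eq_one_iff] at h3
      have h4 : b ∈ IntermediateField.adjoin F {b} := IntermediateField.mem_adjoin_simple_self F b
      rw [h3, IntermediateField.mem_bot] at h4
      obtain ⟨c, hc⟩ := h4
      apply hs c
      rw [← hb, ← hc]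
      exact hι c
    · apply IntermediateField.eq_of_le_of_finrank_eq le_top
      rw [h3, IntermediateField.finrank_top', hfr]
  have h3 : a₀ ∈ Algebra.adjoin F {b} := by
    rw [← IntermediateField.adjoin_simple_toSubalgebra_of_isAlgebraic (Algebra.IsAlgebraic.isAlgebraic b), h2]
    exact trivial
  have h4 : ∀ a ∈ Algebra.adjoin F {b}, x * ψ a = ψ a * x := by
    intro a ha
    induction ha using Algebra.adjoin_induction with
    | mem y hy => rw [Set.mem_singleton_iff] at hy; rw [hy, hb, hx]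
    | algebraMap c =>
      have h5 : ψ (algebraMap F E c) = algebraMap F (Matrix (Fin n) (Fin n) F) c := hι c
      rw [h5]
      exact (Algebra.commutes c x).symm
    | add a b _ _ ha hb => rw [map_add, mul_add, add_mul, ha, hb]
    | mul a b _ _ ha hb => rw [map_mul, ← mul_assoc, ha, mul_assoc, hb, mul_assoc]
  rw [← ha₀]
  exact h4 _ h3

/-- orders of subgroups -/
theorem FZ.card_dvd (D : FZ z ψ) (E₀ : Subfield E) (R : Subgroup (GL (Fin n) F))
    (hR : ∀ x ∈ R, ∃ a ∈ E₀, ψ a = (x : Matrix (Fin n) (Fin n) F)) : Nat.card R ∣ Nat.card E₀ - 1 := by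
  have := Fintype.ofFinite E₀
  let φ : E₀ˣ →* GL (Fin n) F := Units.map ((ψ.comp E₀.subtype : E₀ →+* Matrix (Fin n) (Fin n) F) : E₀ →* _)
  have hφ : Function.Injective φ := Units.map_injective (fun a b h => Subtype.ext (D.inj h))
  have h1 : R ≤ φ.range := by
    intro x hx
    obtain ⟨a, ha, h2⟩ := hR x hx
    have ha0 : (⟨a, ha⟩ : E₀) ≠ 0 := by
      intro h0
      have h3 : a = 0 := congrArg Subtype.val h0
      rw [h3, map_zero] at h2
      have h4 : a = 0 := h3
      have h5 : (x : Matrix (Fin n) (Fin n) F) = 0 := h2.symm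
      have h6 : Nontrivial (Matrix (Fin n) (Fin n) F) := ⟨ψ 0, ψ 1, fun h => zero_ne_one (D.inj h)⟩
      exact x.ne_zero h5
    refine ⟨Units.mk0 _ ha0, Units.ext ?_⟩
    exact h2
  have h2 : Nat.card φ.range = Nat.card E₀ - 1 := by
    rw [← Nat.card_units E₀]
    exact (Nat.card_congr (MonoidHom.ofInjective hφ).toEquiv).symm
  rw [← h2]
  exact Subgroup.card_dvd_of_le h1

end Mat

end Cfsg.Agent.H159.DPi
end

-- part: H206/DPi/TwoTrans
section
/-!
# 2-transitive groups which are the union of at most two double cosets (helper206, S4247, task 5881)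

* `two_trans`, `two_trans'`.
-/

set_option autoImplicit false
set_option linter.unusedSectionVars false

namespace Cfsg.Agent.H206.DPi

open MulAction

section

variable {G Ω : Type*} [Group G] [Fintype G] [MulAction G Ω] [Fintype Ω]

/-- `⟨f, g h⟩` -/
def ph (f h : Ω → ℚ) (g : G) : ℚ := ∑ w, f w * h (g⁻¹ • w)

theorem ph_mul {M B : Subgroup G} {f h : Ω → ℚ} (hf : ∀ m ∈ M, ∀ w, f (m • w) = f w)
    (hh : ∀ b ∈ B, ∀ w, h (b • w) = h w) {m b : G} (hm : m ∈ M) (hb : b ∈ B) (g : G) :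
    ph f h (m * g * b) = ph f h g := by
  unfold ph
  rw [← Equiv.sum_comp (MulAction.toPerm m)]
  refine Finset.sum_congr rfl fun w _ => ?_
  rw [MulAction.toPerm_apply, hf m hm, mul_inv_rev, mul_smul, hh _ (B.inv_mem hb), mul_inv_rev, mul_smul,
    inv_smul_smul]

/-- transitivity -/
theorem trans_of_two (h2 : ∀ a b c d : Ω, a ≠ b → c ≠ d → ∃ g : G, g • a = c ∧ g • b = d) (a b : Ω) :
    ∃ g : G, g • a = b := by
  by_cases hab : a = b
  · exact ⟨1, by rw [one_smul, hab]⟩
  · obtain ⟨g, hg, _⟩ := h2 a b b a hab (Ne.symm hab)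
    exact ⟨g, hg⟩

/-- the sum over the group -/
theorem sum_ph (h2 : ∀ a b c d : Ω, a ≠ b → c ≠ d → ∃ g : G, g • a = c ∧ g • b = d) (f h : Ω → ℚ)
    (h0 : ∑ w, h w = 0) : ∑ g : G, ph f h g = 0 := by
  unfold ph
  rw [Finset.sum_comm]
  have h1 : ∀ a b : Ω, ∑ g : G, h (g⁻¹ • a) = ∑ g : G, h (g⁻¹ • b) := by
    intro a b
    obtain ⟨s, hs⟩ := trans_of_two h2 a b
    rw [← Equiv.sum_comp (Equiv.mulLeft s) (fun g : G => h (g⁻¹ • b))]
    refine Finset.sum_congr rfl fun g _ => ?_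
    rw [Equiv.coe_mulLeft, mul_inv_rev, mul_smul, ← hs, inv_smul_smul]
  have h3 : ∀ a : Ω, ∑ g : G, h (g⁻¹ • a) = 0 := by
    intro a
    have h4 : ∑ b : Ω, ∑ g : G, h (g⁻¹ • b) = 0 := by
      rw [Finset.sum_comm]
      refine Finset.sum_eq_zero fun g _ => ?_
      have h5 := Equiv.sum_comp (MulAction.toPerm (g⁻¹) : Equiv.Perm Ω) h
      rw [h0] at h5
      exact h5
    rw [Finset.sum_congr rfl fun b _ => h1 b a, Finset.sum_const, nsmul_eq_mul] at h4
    rcases mul_eq_zero.1 h4 with h5 | h5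
    · exfalso
      have : Nonempty Ω := ⟨a⟩
      exact (Finset.card_pos.2 Finset.univ_nonempty).ne' (Nat.cast_eq_zero.1 h5 : (Finset.univ : Finset Ω).card = 0)
    · exact h5
  refine Finset.sum_eq_zero fun w _ => ?_
  rw [← Finset.mul_sum, h3, mul_zero]

/-- the permutation module is irreducible -/
theorem irred (h2 : ∀ a b c d : Ω, a ≠ b → c ≠ d → ∃ g : G, g • a = c ∧ g • b = d) {f h : Ω → ℚ}
    (f0 : ∑ w, f w = 0) (h0 : ∑ w, h w = 0) (hne : h ≠ 0) (hph : ∀ g : G, ph f h g = 0) : f = 0 := by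
  classical
  obtain ⟨a, ha⟩ := Function.ne_iff.1 hne
  rw [Pi.zero_apply] at ha
  obtain ⟨a', ha'⟩ : ∃ a', a' ≠ a := by
    by_contra hcon
    push Not at hcon
    apply ha
    rw [← h0, Finset.sum_eq_single a (fun b _ hb => absurd (hcon b) hb) (fun h => absurd (Finset.mem_univ _) h)]
  funext w₀
  rw [Pi.zero_apply]
  obtain ⟨g₀, hg₀⟩ := trans_of_two h2 a w₀
  -- a point different from `w₀`
  obtain ⟨w₁, hw₁⟩ : ∃ w₁, w₁ ≠ w₀ := by
    by_cases h : a = w₀
    · exact ⟨a', by rw [← h]; exact ha'⟩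
    · exact ⟨a, h⟩
  let H : Ω → ℚ := fun w => ∑ g : stabilizer G w₀, h (g₀⁻¹ • (g : G)⁻¹ • w)
  have hH0 : H w₀ = Fintype.card (stabilizer G w₀) * h a := by
    change ∑ g : stabilizer G w₀, h (g₀⁻¹ • (g : G)⁻¹ • w₀) = _
    have : ∀ g : stabilizer G w₀, h (g₀⁻¹ • (g : G)⁻¹ • w₀) = h a := by
      intro g
      have h3 : (g : G)⁻¹ • w₀ = w₀ := (stabilizer G w₀).inv_mem g.2
      rw [h3, ← hg₀, inv_smul_smul]
    rw [Finset.sum_congr rfl fun g _ => this g, Finset.sum_const, nsmul_eq_mul, Finset.card_univ]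
  have hHc : ∀ w, w ≠ w₀ → H w = H w₁ := by
    intro w hw
    obtain ⟨s, hs1, hs2⟩ := h2 w₀ w w₀ w₁ hw.symm hw₁.symm
    change _ = ∑ g : stabilizer G w₀, h (g₀⁻¹ • (g : G)⁻¹ • w₁)
    rw [← Equiv.sum_comp (Equiv.mulLeft (⟨s, hs1⟩ : stabilizer G w₀))]
    refine Finset.sum_congr rfl fun g _ => ?_
    rw [Equiv.coe_mulLeft, Subgroup.coe_mul, mul_inv_rev, mul_smul, ← hs2, inv_smul_smul]
  have hHs : ∑ w, H w = 0 := by
    change ∑ w, ∑ g : stabilizer G w₀, h (g₀⁻¹ • (g : G)⁻¹ • w) = 0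
    rw [Finset.sum_comm]
    refine Finset.sum_eq_zero fun g _ => ?_
    have h5 := Equiv.sum_comp (MulAction.toPerm (g₀⁻¹ * (g : G)⁻¹) : Equiv.Perm Ω) h
    rw [h0] at h5
    rw [← h5]
    refine Finset.sum_congr rfl fun w _ => ?_
    rw [MulAction.toPerm_apply, mul_smul]
  have hfH : ∑ w, f w * H w = 0 := by
    change ∑ w, f w * ∑ g : stabilizer G w₀, h (g₀⁻¹ • (g : G)⁻¹ • w) = 0
    rw [Finset.sum_congr rfl fun w _ => Finset.mul_sum _ _ _, Finset.sum_comm]
    refine Finset.sum_eq_zero fun g _ => ?_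
    have h3 := hph ((g : G) * g₀)
    unfold ph at h3
    rw [← h3]
    refine Finset.sum_congr rfl fun w _ => ?_
    rw [mul_inv_rev, mul_smul]
  have hsplit : ∀ F : Ω → ℚ, ∑ w, F w = F w₀ + ∑ w ∈ Finset.univ.erase w₀, F w :=
    fun F => (Finset.add_sum_erase _ _ (Finset.mem_univ w₀)).symm
  have e1 : ∑ w ∈ Finset.univ.erase w₀, H w = (Finset.univ.erase w₀).card * H w₁ := by
    rw [Finset.sum_congr rfl fun w hw => hHc w (Finset.ne_of_mem_erase hw), Finset.sum_const, nsmul_eq_mul]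
  have e2 : ∑ w ∈ Finset.univ.erase w₀, f w * H w = (∑ w ∈ Finset.univ.erase w₀, f w) * H w₁ := by
    rw [Finset.sum_congr rfl fun w hw => by rw [hHc w (Finset.ne_of_mem_erase hw)], ← Finset.sum_mul]
  rw [hsplit, e1] at hHs
  rw [hsplit (fun w => f w * H w), e2] at hfH
  rw [hsplit] at f0
  have e3 : f w₀ * (H w₀ - H w₁) = 0 := by linear_combination hfH - f0 * H w₁
  rcases mul_eq_zero.1 e3 with h4 | h4
  · exact h4
  · exfalso
    have h5 : H w₀ = H w₁ := sub_eq_zero.1 h4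
    have h6 : ((Finset.univ.erase w₀).card + 1 : ℚ) * H w₀ = 0 := by
      rw [← h5] at hHs
      linear_combination hHs
    rcases mul_eq_zero.1 h6 with h7 | h7
    · have : (0 : ℚ) < ((Finset.univ.erase w₀).card + 1 : ℚ) := by (clear * -; positivity)
      exact this.ne' h7
    · rw [hH0] at h7
      rcases mul_eq_zero.1 h7 with h8 | h8
      · exact Fintype.card_ne_zero (Nat.cast_eq_zero.1 h8)
      · exact ha h8

open Classical in
/-- the centred indicator function of an orbit -/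
noncomputable def ind (M : Subgroup G) (a : Ω) (w : Ω) : ℚ :=
  (if ∃ g ∈ M, g • a = w then 1 else 0) -
    (Finset.univ.filter fun w : Ω => ∃ g ∈ M, g • a = w).card / Fintype.card Ω

theorem ind_inv (M : Subgroup G) (a : Ω) : ∀ m ∈ M, ∀ w, ind M a (m • w) = ind M a w := by
  classical
  intro m hm w
  unfold ind
  have : (∃ g ∈ M, g • a = m • w) ↔ ∃ g ∈ M, g • a = w := by
    constructor
    · rintro ⟨g, hg, h⟩
      exact ⟨m⁻¹ * g, M.mul_mem (M.inv_mem hm) hg, by rw [mul_smul, h, inv_smul_smul]⟩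
    · rintro ⟨g, hg, h⟩
      exact ⟨m * g, M.mul_mem hm hg, by rw [mul_smul, h]⟩
  simp only [this]

theorem ind_sum (M : Subgroup G) (a : Ω) : ∑ w, ind M a w = 0 := by
  classical
  unfold ind
  rw [Finset.sum_sub_distrib, Finset.sum_boole, Finset.sum_const, nsmul_eq_mul, Finset.card_univ]
  have : Nonempty Ω := ⟨a⟩
  have h : (Fintype.card Ω : ℚ) ≠ 0 := Nat.cast_ne_zero.2 Fintype.card_ne_zero
  rw [mul_div_cancel₀ _ h, sub_self]

theorem ind_self_sub (M : Subgroup G) {a b : Ω} (h : ∀ g ∈ M, g • a ≠ b) : ind M a a - ind M a b = 1 := by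
  classical
  unfold ind
  rw [if_pos ⟨1, M.one_mem, one_smul _ _⟩, if_neg (fun ⟨g, hg, h'⟩ => h g hg h')]
  ring

theorem ind_sub_ne (M : Subgroup G) {a b c : Ω} (h : ∀ g ∈ M, g • a ≠ b) (h' : ∀ g ∈ M, g • a ≠ c) :
    ind M a b - ind M a c = 0 := by
  classical
  unfold ind
  rw [if_neg (fun ⟨g, hg, h1⟩ => h g hg h1), if_neg (fun ⟨g, hg, h1⟩ => h' g hg h1)]
  ring

end

section main

variable {G Ω : Type*} [Group G] [Finite G] [MulAction G Ω] [Finite Ω]

theorem two_trans' (h2 : ∀ a b c d : Ω, a ≠ b → c ≠ d → ∃ g : G, g • a = c ∧ g • b = d) (M B : Subgroup G) (g₀ : G)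
    (hcov : ∀ g : G, (∃ m ∈ M, ∃ b ∈ B, g = m * b) ∨ ∃ m ∈ M, ∃ b ∈ B, g = m * g₀ * b) (x y z : Ω)
    (hxy : ∀ g ∈ M, g • x ≠ y) (hxz : ∀ g ∈ M, g • x ≠ z) (hyz : ∀ g ∈ M, g • y ≠ z) :
    ∀ a b : Ω, ∃ g ∈ B, g • a = b := by
  have := Fintype.ofFinite G
  have := Fintype.ofFinite Ω
  by_contra hcon
  push Not at hcon
  obtain ⟨c, d, hcd⟩ := hcon
  have hyx : ∀ g ∈ M, g • y ≠ x := by
    intro g hg h
    exact hxy g⁻¹ (M.inv_mem hg) (by rw [← h, inv_smul_smul])
  set h := ind B c with hh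
  have hh0 : h ≠ 0 := by
    intro h'
    have := ind_self_sub B hcd
    rw [← hh, h'] at this
    norm_num at this
  have hhs : ∑ w, h w = 0 := ind_sum B c
  have hhi : ∀ b ∈ B, ∀ w, h (b • w) = h w := ind_inv B c
  -- an invariant function orthogonal to `h`
  have key : ∀ α β : ℚ, ph (fun w => α * ind M x w + β * ind M y w) h (1 : G) = 0 → α = 0 ∧ β = 0 := by
    intro α β h1
    set f : Ω → ℚ := fun w => α * ind M x w + β * ind M y w with hf
    have hfi : ∀ m ∈ M, ∀ w, f (m • w) = f w := by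
      intro m hm w
      rw [hf]
      change α * ind M x (m • w) + β * ind M y (m • w) = α * ind M x w + β * ind M y w
      rw [ind_inv M x m hm, ind_inv M y m hm]
    have hfs : ∑ w, f w = 0 := by
      rw [hf, Finset.sum_add_distrib, ← Finset.mul_sum, ← Finset.mul_sum, ind_sum, ind_sum, mul_zero, mul_zero,
        add_zero]
    have h3 : ∀ g : G, ph f h g = 0 ∨ ph f h g = ph f h g₀ := by
      intro g
      rcases hcov g with ⟨m, hm, b, hb, rfl⟩ | ⟨m, hm, b, hb, rfl⟩
      · left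
        have := ph_mul hfi hhi hm hb 1
        rw [mul_one] at this
        rw [this, h1]
      · right
        exact ph_mul hfi hhi hm hb g₀
    have h4 := sum_ph h2 f h hhs
    have h5 : ∀ g : G, ph f h g = 0 := by
      rcases le_total 0 (ph f h g₀) with h6 | h6
      · have h7 := (Finset.sum_eq_zero_iff_of_nonneg (s := Finset.univ) (f := fun g : G => ph f h g) (fun g _ => by
          rcases h3 g with h8 | h8
          · change 0 ≤ ph f h g
            rw [h8]
          · change 0 ≤ ph f h g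
            rw [h8]
            exact h6)).1 h4
        exact fun g => h7 g (Finset.mem_univ _)
      · have h7 := (Finset.sum_eq_zero_iff_of_nonpos (s := Finset.univ) (f := fun g : G => ph f h g) (fun g _ => by
          rcases h3 g with h8 | h8
          · change ph f h g ≤ 0
            rw [h8]
          · change ph f h g ≤ 0
            rw [h8]
            exact h6)).1 h4
        exact fun g => h7 g (Finset.mem_univ _)
    have h6 := irred h2 hfs hhs hh0 h5
    have ex : α * ind M x x + β * ind M y x = 0 := congrFun h6 x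
    have ey : α * ind M x y + β * ind M y y = 0 := congrFun h6 y
    have ez : α * ind M x z + β * ind M y z = 0 := congrFun h6 z
    have i1 := ind_self_sub M hxz
    have i2 := ind_sub_ne M hyx hyz
    have i3 := ind_self_sub M hyz
    have i4 := ind_sub_ne M hxy hxz
    constructor
    · linear_combination ex - ez - α * i1 - β * i2
    · linear_combination ey - ez - β * i3 - α * i4
  have hlin : ∀ α β : ℚ, ph (fun w => α * ind M x w + β * ind M y w) h (1 : G) =
      α * ph (ind M x) h (1 : G) + β * ph (ind M y) h (1 : G) := by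
    intro α β
    unfold ph
    rw [Finset.mul_sum, Finset.mul_sum, ← Finset.sum_add_distrib]
    refine Finset.sum_congr rfl fun w _ => ?_
    ring
  have h1 := key (ph (ind M y) h (1 : G)) (-ph (ind M x) h (1 : G)) (by rw [hlin]; ring)
  have h3 := key 1 0 (by rw [hlin, neg_eq_zero.1 h1.2]; ring)
  exact one_ne_zero h3.1

end main

end Cfsg.Agent.H206.DPi
end

-- part: H125/DPi/Sem
section
/-!
# S4247, row L (`PSL_n`), L1: semilinear lifts of automorphisms of `PSL_n(F)` (helper125)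

* `Sem F V` : the semilinear bijections of `V`, a subgroup of `Equiv.Perm V`;
* `Th e : Sem F (Fin n → F) →* MulAut S` for `e : S ≃* PSL_n(F)`; `Th_apply`, `Th_SL`, `Th_ker`, `Th_index`;
* `hat e D` : the preimage of `D : Subgroup (MulAut S)` in `Equiv.Perm (Fin n → F)`.
-/

set_option autoImplicit false
set_option linter.unusedSectionVars false

namespace Cfsg.Agent.H125.DPi

open Module Cfsg Cfsg.Agent.H233.RC Cfsg.Agent.H202.RC Cfsg.Agent.H988.CPi Cfsg.Agent.H571.RV Cfsg.Agent.H817.DPi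

universe u

/-- the semilinear bijections -/
def Sem (F V : Type) [Field F] [AddCommGroup V] [Module F V] : Subgroup (Equiv.Perm V) where
  carrier := {g | (∀ v w, g (v + w) = g v + g w) ∧ ∃ σ : F ≃+* F, ∀ (c : F) v, g (c • v) = σ c • g v}
  mul_mem' := by
    rintro a b ⟨ha, σ, hσ⟩ ⟨hb, τ, hτ⟩
    refine ⟨fun v w => ?_, τ.trans σ, fun c v => ?_⟩
    · rw [Equiv.Perm.mul_apply, hb, ha]; rfl
    · rw [Equiv.Perm.mul_apply, hτ, hσ]; rfl
  one_mem' := ⟨fun _ _ => rfl, RingEquiv.refl F, fun _ _ => rfl⟩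
  inv_mem' := by
    rintro a ⟨ha, σ, hσ⟩
    have h : ∀ v, a (a⁻¹ v) = v := a.apply_symm_apply
    refine ⟨fun v w => ?_, σ.symm, fun c v => ?_⟩
    · apply a.injective
      rw [ha, h, h, h]
    · apply a.injective
      rw [hσ, h, h, σ.apply_symm_apply]

section

variable {F V : Type} [Field F] [AddCommGroup V] [Module F V]

/-- the additive bijection -/
def adE {g : Equiv.Perm V} (h : g ∈ Sem F V) : V ≃+ V := { g with map_add' := h.1 }

theorem adE_SL {g : Equiv.Perm V} (h : g ∈ Sem F V) : ∃ σ : F ≃+* F, SL σ (adE h) := h.2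

theorem mem_Sem_of {f : V ≃+ V} {σ : F ≃+* F} (h : SL σ f) : f.toEquiv ∈ Sem F V :=
  ⟨fun v w => f.map_add v w, σ, h⟩

/-- scalars -/
theorem Sem_of_linear (f : V ≃ₗ[F] V) : f.toEquiv ∈ Sem F V :=
  ⟨fun v w => f.map_add v w, RingEquiv.refl F, fun c v => f.map_smul c v⟩

end

section mat

variable {F : Type} [Field F] {n : ℕ}

theorem mulVec_eq {A B : Matrix.SpecialLinearGroup (Fin n) F} (h : ∀ v, A.1.mulVec v = B.1.mulVec v) : A = B := by
  apply Subtype.ext
  apply Matrix.toLin'.injective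
  apply LinearMap.ext
  intro v
  rw [Matrix.toLin'_apply, Matrix.toLin'_apply]
  exact h v

theorem exists_cj (g : Sem F (Fin n → F)) (S : Matrix.SpecialLinearGroup (Fin n) F) :
    ∃ S' : Matrix.SpecialLinearGroup (Fin n) F, ∀ v, S'.1.mulVec (g.1 v) = g.1 (S.1.mulVec v) := by
  obtain ⟨σ, h⟩ := adE_SL g.2
  exact exists_conj h S

/-- conjugation -/
noncomputable def cjS (g : Sem F (Fin n → F)) (S : Matrix.SpecialLinearGroup (Fin n) F) :
    Matrix.SpecialLinearGroup (Fin n) F := (exists_cj g S).choose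

theorem cjS_apply (g : Sem F (Fin n → F)) (S : Matrix.SpecialLinearGroup (Fin n) F) (v : Fin n → F) :
    (cjS g S).1.mulVec (g.1 v) = g.1 (S.1.mulVec v) := (exists_cj g S).choose_spec v

theorem cjS_eq {g : Sem F (Fin n → F)} {S S' : Matrix.SpecialLinearGroup (Fin n) F}
    (h : ∀ v, S'.1.mulVec (g.1 v) = g.1 (S.1.mulVec v)) : cjS g S = S' := by
  apply mulVec_eq
  intro v
  obtain ⟨w, rfl⟩ := g.1.surjective v
  rw [cjS_apply, h]

theorem cjS_mul (g : Sem F (Fin n → F)) (S T : Matrix.SpecialLinearGroup (Fin n) F) :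
    cjS g (S * T) = cjS g S * cjS g T := by
  apply cjS_eq
  intro v
  rw [Matrix.SpecialLinearGroup.coe_mul, Matrix.SpecialLinearGroup.coe_mul, ← Matrix.mulVec_mulVec,
    ← Matrix.mulVec_mulVec, cjS_apply, cjS_apply]

theorem cjS_comp (g h : Sem F (Fin n → F)) (S : Matrix.SpecialLinearGroup (Fin n) F) :
    cjS (g * h) S = cjS g (cjS h S) := by
  apply cjS_eq
  intro v
  rw [show (g * h).1 v = g.1 (h.1 v) from rfl, cjS_apply, cjS_apply]
  rfl

theorem cjS_one (S : Matrix.SpecialLinearGroup (Fin n) F) : cjS (1 : Sem F (Fin n → F)) S = S :=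
  cjS_eq fun _ => rfl

/-- conjugation on `SL_n` -/
noncomputable def cjE (g : Sem F (Fin n → F)) :
    Matrix.SpecialLinearGroup (Fin n) F ≃* Matrix.SpecialLinearGroup (Fin n) F where
  toFun := cjS g
  invFun := cjS g⁻¹
  left_inv S := by rw [← cjS_comp, inv_mul_cancel, cjS_one]
  right_inv S := by rw [← cjS_comp, mul_inv_cancel, cjS_one]
  map_mul' := cjS_mul g

theorem cjE_center (g : Sem F (Fin n → F)) : (Subgroup.center (Matrix.SpecialLinearGroup (Fin n) F)).map
    (cjE g : Matrix.SpecialLinearGroup (Fin n) F →* Matrix.SpecialLinearGroup (Fin n) F) =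
    Subgroup.center (Matrix.SpecialLinearGroup (Fin n) F) := by
  apply le_antisymm
  · rintro _ ⟨z, hz, rfl⟩
    rw [SetLike.mem_coe, Subgroup.mem_center_iff] at hz
    rw [Subgroup.mem_center_iff]
    intro y
    obtain ⟨x, rfl⟩ := (cjE g).surjective y
    have := congrArg (cjE g) (hz x)
    rw [map_mul, map_mul] at this
    exact this
  · intro z hz
    obtain ⟨x, rfl⟩ := (cjE g).surjective z
    refine ⟨x, ?_, rfl⟩
    rw [SetLike.mem_coe, Subgroup.mem_center_iff]
    rw [Subgroup.mem_center_iff] at hz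
    intro y
    apply (cjE g).injective
    rw [map_mul, map_mul]
    exact hz _

/-- the automorphism of `PSL_n` -/
noncomputable def pE (g : Sem F (Fin n → F)) : MulAut (Matrix.ProjectiveSpecialLinearGroup (Fin n) F) :=
  QuotientGroup.congr _ _ (cjE g) (cjE_center g)

theorem pE_mk (g : Sem F (Fin n → F)) (S : Matrix.SpecialLinearGroup (Fin n) F) :
    pE g (QuotientGroup.mk S) = QuotientGroup.mk (cjS g S) := rfl

/-- the homomorphism to `Aut PSL_n(F)` -/
noncomputable def pH : Sem F (Fin n → F) →* MulAut (Matrix.ProjectiveSpecialLinearGroup (Fin n) F) where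
  toFun := pE
  map_one' := by
    apply MulEquiv.ext
    intro t
    obtain ⟨S, rfl⟩ := QuotientGroup.mk_surjective t
    rw [pE_mk, cjS_one]
    rfl
  map_mul' g h := by
    apply MulEquiv.ext
    intro t
    obtain ⟨S, rfl⟩ := QuotientGroup.mk_surjective t
    rw [pE_mk, cjS_comp, MulAut.mul_apply, pE_mk, pE_mk]

variable {S : Type u} [Group S]

/-- **the action on `S ≃* PSL_n(F)`** -/
noncomputable def Th (e : S ≃* Matrix.ProjectiveSpecialLinearGroup (Fin n) F) : Sem F (Fin n → F) →* MulAut S :=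
  (MulAut.congr e.symm).toMonoidHom.comp pH

theorem Th_e (e : S ≃* Matrix.ProjectiveSpecialLinearGroup (Fin n) F) (g : Sem F (Fin n → F)) (s : S) :
    Th e g s = e.symm (pE g (e s)) := rfl

theorem Th_mk (e : S ≃* Matrix.ProjectiveSpecialLinearGroup (Fin n) F) (g : Sem F (Fin n → F))
    (x : Matrix.SpecialLinearGroup (Fin n) F) :
    Th e g (e.symm (QuotientGroup.mk x)) = e.symm (QuotientGroup.mk (cjS g x)) := by
  rw [Th_e, e.apply_symm_apply, pE_mk]

/-- the defining property -/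
theorem Th_apply (e : S ≃* Matrix.ProjectiveSpecialLinearGroup (Fin n) F) (g : Sem F (Fin n → F))
    {x x' : Matrix.SpecialLinearGroup (Fin n) F} (h : ∀ v, x'.1.mulVec (g.1 v) = g.1 (x.1.mulVec v)) :
    Th e g (e.symm (QuotientGroup.mk x)) = e.symm (QuotientGroup.mk x') := by
  rw [Th_mk, cjS_eq h]

/-- the permutation given by a matrix -/
noncomputable def mp (x : Matrix.SpecialLinearGroup (Fin n) F) : Equiv.Perm (Fin n → F) :=
  (slE (Pi.basisFun F (Fin n)) x : (Fin n → F) ≃ₗ[F] (Fin n → F)).toEquiv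

theorem mp_apply (x : Matrix.SpecialLinearGroup (Fin n) F) (v : Fin n → F) : mp x v = x.1.mulVec v := slE_std x v

theorem mp_mem (x : Matrix.SpecialLinearGroup (Fin n) F) : mp x ∈ Sem F (Fin n → F) := Sem_of_linear _

theorem Th_SL (e : S ≃* Matrix.ProjectiveSpecialLinearGroup (Fin n) F) (g : Sem F (Fin n → F))
    {x : Matrix.SpecialLinearGroup (Fin n) F} (h : ∀ v, g.1 v = x.1.mulVec v) :
    Th e g = MulAut.conj (e.symm (QuotientGroup.mk x)) := by
  apply MulEquiv.ext
  intro s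
  obtain ⟨y, hy⟩ := QuotientGroup.mk_surjective (e s)
  have hs : s = e.symm (QuotientGroup.mk y) := by rw [hy, e.symm_apply_apply]
  rw [hs, MulAut.conj_apply, Th_apply e g (x' := x * y * x⁻¹)]
  · rw [← map_inv, ← map_mul, ← map_mul]
    rfl
  · intro v
    have h2 : (x * y * x⁻¹ : Matrix.SpecialLinearGroup (Fin n) F).1 * x.1 = x.1 * y.1 := by
      rw [← Matrix.SpecialLinearGroup.coe_mul, inv_mul_cancel_right, Matrix.SpecialLinearGroup.coe_mul]
    rw [h, h, Matrix.mulVec_mulVec, Matrix.mulVec_mulVec, h2]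

theorem center_scalar {z : Matrix.SpecialLinearGroup (Fin n) F} (hz : z ∈ Subgroup.center _) :
    ∃ ζ : F, ζ ^ n = 1 ∧ ∀ v, z.1.mulVec v = ζ • v := by
  obtain ⟨r, hr, h⟩ := Matrix.SpecialLinearGroup.mem_center_iff.1 hz
  rw [Fintype.card_fin] at hr
  refine ⟨r, hr, fun v => ?_⟩
  rw [← h, Matrix.scalar_apply, ← Matrix.smul_one_eq_diagonal, Matrix.smul_mulVec, Matrix.one_mulVec]

/-- elements which fix `e⁻¹ (x)` commute with `x` up to scalars -/
theorem comm_of_fix (e : S ≃* Matrix.ProjectiveSpecialLinearGroup (Fin n) F) (g : Sem F (Fin n → F))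
    {x : Matrix.SpecialLinearGroup (Fin n) F}
    (h : Th e g (e.symm (QuotientGroup.mk x)) = e.symm (QuotientGroup.mk x)) :
    ∃ ζ : F, ζ ^ n = 1 ∧ ∀ v, g.1 (x.1.mulVec v) = ζ • x.1.mulVec (g.1 v) := by
  rw [Th_mk] at h
  have h1 := e.symm.injective h
  have h2 : (x⁻¹ * cjS g x) ∈ Subgroup.center (Matrix.SpecialLinearGroup (Fin n) F) :=
    QuotientGroup.eq.1 h1.symm
  obtain ⟨ζ, hζ, h3⟩ := center_scalar h2
  refine ⟨ζ, hζ, fun v => ?_⟩
  rw [← cjS_apply]
  have h4 : cjS g x = x * (x⁻¹ * cjS g x) := by rw [mul_inv_cancel_left]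
  rw [h4, Matrix.SpecialLinearGroup.coe_mul, ← Matrix.mulVec_mulVec, h3, Matrix.mulVec_smul]

theorem Th_ker (hn : 2 ≤ n) (e : S ≃* Matrix.ProjectiveSpecialLinearGroup (Fin n) F) (g : Sem F (Fin n → F)) :
    Th e g = 1 ↔ ∃ c : F, c ≠ 0 ∧ ∀ v, g.1 v = c • v := by
  constructor
  · intro h
    obtain ⟨σ, hσ⟩ := adE_SL g.2
    have hd : finrank F (Fin n → F) = n := by rw [finrank_fintype_fun_eq_card, Fintype.card_fin]
    refine scalar_of_comm (by rw [hd]; exact hn) hσ fun s => ?_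
    obtain ⟨x, rfl⟩ := (slE (Pi.basisFun F (Fin n))).surjective s
    obtain ⟨ζ, -, h1⟩ := comm_of_fix e g (x := x) (by rw [h]; rfl)
    refine ⟨ζ, fun v => ?_⟩
    rw [slE_std, slE_std]
    exact h1 v
  · rintro ⟨c, hc, h⟩
    apply MulEquiv.ext
    intro s
    obtain ⟨y, hy⟩ := QuotientGroup.mk_surjective (e s)
    have hs : s = e.symm (QuotientGroup.mk y) := by rw [hy, e.symm_apply_apply]
    rw [hs]
    refine Th_apply e g fun v => ?_
    rw [h, h, Matrix.mulVec_smul]

theorem mem_range_of_gamma {β : MulAut (Matrix.ProjectiveSpecialLinearGroup (Fin n) F)}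
    (hβ : β ∈ Cfsg.gammaPSL n F) : β ∈ (pH (F := F) (n := n)).range := by
  obtain ⟨f, σ, hf, hl⟩ := exists_liftAut hβ
  refine ⟨⟨f.toEquiv, mem_Sem_of hf⟩, ?_⟩
  apply MulEquiv.ext
  intro t
  obtain ⟨x, rfl⟩ := QuotientGroup.mk_surjective t
  change pE _ _ = _
  rw [pE_mk]
  symm
  apply hl
  intro v
  exact cjS_apply (⟨f.toEquiv, mem_Sem_of hf⟩ : Sem F (Fin n → F)) x v

/-- **index at most two** -/
theorem Th_index [Fintype F] (hn : 3 ≤ n) (e : S ≃* Matrix.ProjectiveSpecialLinearGroup (Fin n) F) {a b : MulAut S}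
    (ha : a ∉ (Th e).range) (hb : b ∉ (Th e).range) : a * b ∈ (Th e).range := by
  have key : ∀ c : MulAut S, c ∉ (Th e).range → MulAut.congr e c ∉ Cfsg.gammaPSL n F := by
    intro c hc h
    apply hc
    obtain ⟨g, hg⟩ := mem_range_of_gamma h
    refine ⟨g, ?_⟩
    change MulAut.congr e.symm (pH g) = c
    rw [hg]
    apply MulEquiv.ext
    intro s
    simp
  have h1 := gamma_index (by omega) (by omega) (key a ha) (key b hb)
  rw [← map_mul] at h1
  obtain ⟨g, hg⟩ := mem_range_of_gamma h1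
  refine ⟨g, ?_⟩
  change MulAut.congr e.symm (pH g) = _
  rw [hg]
  apply MulEquiv.ext
  intro s
  simp

/-- the preimage of a group of automorphisms in the group of permutations of `V` -/
noncomputable def hat (e : S ≃* Matrix.ProjectiveSpecialLinearGroup (Fin n) F) (D : Subgroup (MulAut S)) :
    Subgroup (Equiv.Perm (Fin n → F)) :=
  (D.comap (Th e)).map (Sem F (Fin n → F)).subtype

theorem mem_hat {e : S ≃* Matrix.ProjectiveSpecialLinearGroup (Fin n) F} {D : Subgroup (MulAut S)}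
    {g : Equiv.Perm (Fin n → F)} : g ∈ hat e D ↔ ∃ h : g ∈ Sem F (Fin n → F), Th e ⟨g, h⟩ ∈ D := by
  constructor
  · rintro ⟨x, hx, rfl⟩
    exact ⟨x.2, hx⟩
  · rintro ⟨h, h1⟩
    exact ⟨⟨g, h⟩, h1, rfl⟩

theorem mp_mem_hat {e : S ≃* Matrix.ProjectiveSpecialLinearGroup (Fin n) F} {D : Subgroup (MulAut S)}
    {x : Matrix.SpecialLinearGroup (Fin n) F} :
    mp x ∈ hat e D ↔ MulAut.conj (e.symm (QuotientGroup.mk x)) ∈ D := by
  rw [mem_hat]
  constructor
  · rintro ⟨h, h1⟩
    rwa [Th_SL e ⟨mp x, h⟩ (x := x) (mp_apply x)] at h1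
  · intro h
    exact ⟨mp_mem x, by rwa [Th_SL e ⟨mp x, mp_mem x⟩ (x := x) (mp_apply x)]⟩

end mat

end Cfsg.Agent.H125.DPi
end
end

-- part: H715/DPU/Def
section
set_option linter.all false

/-!
# S4247, row PSU: definitions (helper715)

`Up π P H` : `P` is the image of `H ∩ SU_n(q)` in `PSU_n(q)`, `H` a Hall `π`-subgroup of `GU_n(q)`.

`Nd W` : `W` is a nondegenerate subspace.  `Sv A τ W` : `W` is invariant under the semilinear map `v ↦ A (τ v)`.

`Fr q H t a z` : `z 0, .., z (a-1)` is a frame of elements of order `t` of `H`, `H` permutes the supports `[V, z i]`.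
`Cz z` : the centraliser of the frame.  `tU q d` : `|(-q)^d - 1|`.

`EX π` : the statement EXCL.  `NilGU π` : the statement `N'`.
-/

set_option autoImplicit false

namespace Cfsg.Agent.H715.DPU

open Subgroup Cfsg Matrix Cfsg.Agent.H988.CPi Cfsg.Agent.H571.RV Cfsg.Agent.H817.DPi Cfsg.Agent.H380.RV
  Cfsg.Agent.H553.RV Cfsg.Agent.H167.OP Cfsg.Agent.H170.HL Cfsg.Agent.H556.HallRowAbs
open Cfsg.Agent.ClassicalGeometry.PSUAutBasic (pr)
open Cfsg.Agent.ClassicalGeometry.PSUAutCount (gm toAut)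

universe u

variable {F : Type*} [Field F] {q n : ℕ}

/-- `P` is the image of `H ∩ SU` -/
structure Up (π : Set ℕ) (P : Subgroup (PSU n F q)) (H : Subgroup (GU n F q)) : Prop where
  hall : IsPiHall π H
  mem : ∀ x : PSU n F q, x ∈ P ↔ ∃ g : SU n F q, jU n F q g ∈ H ∧ pr n F q g = x

/-- nondegenerate subspaces -/
def Nd (q : ℕ) (W : Submodule F (Fin n → F)) : Prop := ∀ x ∈ W, (∀ y ∈ W, hermForm n F q x y = 0) → x = 0

/-- invariance under `v ↦ A (τ v)` -/
def Sv (A : GU n F q) (τ : F ≃+* F) (W : Submodule F (Fin n → F)) : Prop :=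
  ∀ w ∈ W, (gm A *ᵥ fun i => τ (w i)) ∈ W

/-- the order of `-q` modulo `t` -/
noncomputable abbrev eU (q : ℕ) : ℕ → ℕ := fun t => orderOf (-(q : ZMod t))

/-- `|(-q)^d - 1|` -/
def tU (q d : ℕ) : ℕ := if Even d then q ^ d - 1 else q ^ d + 1

/-- the natural representation of `GU_n(q)` -/
noncomputable abbrev rU (n : ℕ) (F : Type*) [Field F] (q : ℕ) : Representation F (GU n F q) (Fin n → F) := rep (incU n F q)

/-- frames permuted by `H` -/
structure Fr (q : ℕ) (H : Subgroup (GU n F q)) (t a : ℕ) (z : Fin a → GU n F q) : Prop where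
  ht : t.Prime
  odd : Odd t
  ne : (t : F) ≠ 0
  dvd : t ∣ Nat.card H
  fm : Fm (rU n F q) (eU q) H t a z
  st : ∀ h ∈ H, ∀ i, ∃ j, (Rg (rU n F q) (z i)).map (rU n F q h) = Rg (rU n F q) (z j)

/-- the centraliser of the frame -/
def Cz {a : ℕ} (z : Fin a → GU n F q) : Subgroup (GU n F q) := centralizer (Set.range z)

/-- EXCL -/
def EX (π : Set ℕ) : Prop :=
  ∀ (X : Type) [Group X] [Finite X] [IsSimpleGroup X], ¬ IsMulCommutative X → 2 ∉ π → ∀ p : ℕ, p.Prime → p ∉ π →
    IsLieTypeChar p X → Cls π X →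
      (∀ P : Subgroup X, IsPiHall π P → Group.IsNilpotent P) ∨
        Nonempty (X ≃* Matrix.ProjectiveSpecialLinearGroup (Fin 3) (ZMod 2)) ∨
        Nonempty (X ≃* Matrix.ProjectiveSpecialLinearGroup (Fin 5) (ZMod 2))

/-- `N'` -/
def NilGU (π : Set ℕ) : Prop :=
  ∀ (F : Type) [Field F] [Fintype F] (m q : ℕ), Fintype.card F = q ^ 2 → 2 ∉ π →
    (∀ r ∈ π, r.Prime → (r : F) ≠ 0) →
    (∀ X : Subgroup (GU m F q), PiN π (Nat.card X) → (∀ g ∈ X, (g.1.1 : Matrix (Fin m) (Fin m) F).det = 1) →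
      Group.IsNilpotent X) →
    ∀ X : Subgroup (GU m F q), PiN π (Nat.card X) → Group.IsNilpotent X

end Cfsg.Agent.H715.DPU
end

-- part: H715/DPU/Geo_mg
section
prune_inst 0x35107d044560100000188080d30000603400009200408c00a4230b4003086440a4028841092001114010810000010068131000a04200000008200000000001001000020030400100000018800080610200000000300000000000000000010000000000000
set_option linter.all false
open scoped Cfsg.Agent.FastGrp

-- part: H715/DPU/Geo
section
/-!
# S4247, row PSU: the supports of a frame (helper715)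
-/

set_option autoImplicit false

namespace Cfsg.Agent.H715.DPU

open Subgroup Cfsg Matrix Module Cfsg.Agent.H988.CPi Cfsg.Agent.H571.RV Cfsg.Agent.H817.DPi Cfsg.Agent.H380.RV
  Cfsg.Agent.H553.RV Cfsg.Agent.LieClassical.HermBasic Cfsg.Agent.H170.HL Cfsg.Agent.H556.HallRowAbs Cfsg.Agent.H167.OP
open Cfsg.Agent.ClassicalGeometry.PSUAutCount (gm toAut gm_mul gm_inj herm_gm)

variable {F : Type*} [Field F] {n q a t : ℕ} {H : Subgroup (GU n F q)} {z : Fin a → GU n F q}

theorem mem_Rg' {g : GU n F q} {w : Fin n → F} : w ∈ Rg (rU n F q) g ↔ ∃ v, gm g *ᵥ v - v = w := mem_Rg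

/-- the atoms -/
noncomputable abbrev At (z : Fin a → GU n F q) (i : Fin a) : Submodule F (Fin n → F) := Rg (rU n F q) (z i)

theorem Fr.pow (hz : Fr q H t a z) (i : Fin a) : z i ^ t = 1 := (hz.fm.isZ i).1

theorem Fr.finrank_At (hz : Fr q H t a z) (i : Fin a) : finrank F (At z i) = eU q t := (hz.fm.isZ i).2

theorem Fr.eq_zero (hz : Fr q H t a z) {i : Fin a} {w : Fin n → F} (hw : w ∈ At z i) (h : gm (z i) *ᵥ w = w) : w = 0 :=
  eq_zero_of_fix hz.ne (hz.pow i) hw h

theorem Fr.fix_of_ne (hz : Fr q H t a z) {i j : Fin a} (hij : i ≠ j) {w : Fin n → F} (hw : w ∈ At z j) :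
    gm (z i) *ᵥ w = w := by
  obtain ⟨v, rfl⟩ := mem_Rg'.1 hw
  exact hz.fm.ind i j hij v

/-- a vector orthogonal to `At z i` is fixed by `z i` -/
theorem fix_of_orth [Fintype F] (hF : Fintype.card F = q ^ 2) {g : GU n F q} {x : Fin n → F}
    (h : ∀ w ∈ Rg (rU n F q) g, hermForm n F q x w = 0) : gm g *ᵥ x = x := by
  have h1 : ∀ v : Fin n → F, hermForm n F q (gm g *ᵥ x - x) v = 0 := by
    intro v
    obtain ⟨u, hu⟩ : ∃ u : Fin n → F, gm g *ᵥ u = v :=
      ⟨gm g⁻¹ *ᵥ v, Cfsg.Agent.ClassicalGeometry.PSUAutCount.gm_mulVec_inv g v⟩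
    have h2 : hermForm n F q x (gm g *ᵥ u - u) = 0 := h _ (mem_Rg'.2 ⟨u, rfl⟩)
    rw [herm_sub_left, ← hu, herm_gm]
    rw [herm_sub_right hF, sub_eq_zero] at h2
    rw [h2, sub_self]
  have h2 := herm_nondeg hF h1
  exact sub_eq_zero.1 h2

/-- the sum of the atoms -/
noncomputable abbrev V1 (z : Fin a → GU n F q) : Submodule F (Fin n → F) := ⨆ i, At z i

theorem Fr.indep (hz : Fr q H t a z) : iSupIndep (At z) := by
  rw [iSupIndep_def]
  intro i
  rw [Submodule.disjoint_def]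
  intro x hx hx'
  apply hz.eq_zero hx
  have h1 : (⨆ j, ⨆ (_ : j ≠ i), At z j) ≤ LinearMap.ker (rU n F q (z i) - 1) := by
    refine iSup_le fun j => iSup_le fun hj => ?_
    intro w hw
    rw [LinearMap.mem_ker]
    show gm (z i) *ᵥ w - w = 0
    rw [hz.fix_of_ne (Ne.symm hj) hw, sub_self]
  have h2 := h1 hx'
  rw [LinearMap.mem_ker] at h2
  exact sub_eq_zero.1 h2

theorem Fr.finrank_eq (hz : Fr q H t a z) (h : V1 z = ⊤) : n = a * eU q t := by
  have h1 := Cfsg.Agent.H933.finrank_eq_sum_of_indep (At z) hz.indep h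
  rw [finrank_fin_fun, Finset.sum_congr rfl (fun i _ => hz.finrank_At i), Finset.sum_const, Finset.card_univ,
    Fintype.card_fin, smul_eq_mul] at h1
  exact h1

theorem Fr.nd_At [Fintype F] (hF : Fintype.card F = q ^ 2) (hz : Fr q H t a z) (i : Fin a) : Nd q (At z i) :=
  fun _ hx h => hz.eq_zero hx (fix_of_orth hF h)

theorem Fr.nd_V1 [Fintype F] (hF : Fintype.card F = q ^ 2) (hz : Fr q H t a z) : Nd q (V1 z) := by
  classical
  intro x hx h
  have hfix : ∀ i, gm (z i) *ᵥ x = x := fun i => fix_of_orth hF fun w hw => h w (Submodule.mem_iSup_of_mem i hw)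
  obtain ⟨f, hf, rfl⟩ := (Submodule.mem_iSup_iff_exists_finsupp _ _).1 hx
  rw [Finsupp.sum] at hfix ⊢
  refine Finset.sum_eq_zero fun k hk => ?_
  apply hz.eq_zero (hf k)
  have h1 := hfix k
  have h2 : gm (z k) *ᵥ (∑ i ∈ f.support, f i) - ∑ i ∈ f.support, f i = gm (z k) *ᵥ f k - f k := by
    rw [Matrix.mulVec_sum, ← Finset.sum_sub_distrib]
    refine Finset.sum_eq_single_of_mem k hk fun i _ hik => ?_
    rw [hz.fix_of_ne (Ne.symm hik) (hf i), sub_self]
  rw [h1, sub_self] at h2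
  exact sub_eq_zero.1 h2.symm

theorem Fr.d_pos [Fintype F] (hF : Fintype.card F = q ^ 2) (hz : Fr q H t a z) : 1 ≤ eU q t :=
  (linDat_GU (F := F) hF n).row.epos t hz.ht hz.ne

theorem Fr.At_ne_bot [Fintype F] (hF : Fintype.card F = q ^ 2) (hz : Fr q H t a z) (i : Fin a) : At z i ≠ ⊥ := by
  intro h
  have h1 := hz.finrank_At i
  rw [h, finrank_bot] at h1
  have := hz.d_pos hF
  omega

theorem Fr.a_pos [Fintype F] (hF : Fintype.card F = q ^ 2) (hz : Fr q H t a z) : 1 ≤ a := by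
  by_contra hcon
  have ha : a = 0 := by omega
  subst ha
  have hfin : Finite (GU n F q) := LieClassical.GUOrder.finite_GU n
  have h1 := hz.fm.max ⊤ (fun i => i.elim0)
  rw [finrank_top, finrank_fin_fun] at h1
  have := Fact.mk hz.ht
  obtain ⟨y, hy⟩ := exists_prime_orderOf_dvd_card' t (hz.dvd.trans H.card_subgroup_dvd_card)
  have h2 : eU q t ≤ rk (rU n F q) y := by
    refine le_rk_of_ne (linDat_GU (F := F) hF n).row hz.ht hz.odd hz.ne (y := y) ?_ ?_
    · rw [← hy, pow_orderOf_eq_one]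
    · rintro rfl
      rw [orderOf_one] at hy
      exact hz.ht.one_lt.ne hy
  have h3 : rk (rU n F q) y ≤ n := by
    have h4 := Submodule.finrank_le (Rg (rU n F q) y)
    rw [finrank_fin_fun] at h4
    exact h4
  omega

theorem Fr.V1_ne_bot [Fintype F] (hF : Fintype.card F = q ^ 2) (hz : Fr q H t a z) : V1 z ≠ ⊥ := by
  intro h
  have h1 : At z ⟨0, hz.a_pos hF⟩ ≤ V1 z := le_iSup (At z) _
  rw [h, le_bot_iff] at h1
  exact hz.At_ne_bot hF _ h1

theorem Fr.H_V1 (hz : Fr q H t a z) {h : GU n F q} (hh : h ∈ H) : ∀ w ∈ V1 z, gm h *ᵥ w ∈ V1 z := by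
  intro w hw
  have h1 : V1 z ≤ (V1 z).comap (rU n F q h) := by
    refine iSup_le fun i => ?_
    intro w hw
    rw [Submodule.mem_comap]
    obtain ⟨j, hj⟩ := hz.st h hh i
    have h2 : rU n F q h w ∈ At z j := by
      rw [At, ← hj]
      exact ⟨w, hw, rfl⟩
    exact Submodule.mem_iSup_of_mem j h2
  exact h1 hw

theorem Sv.iSup {A : GU n F q} {τ : F ≃+* F} (h : ∀ i, Sv A τ (At z i)) : Sv A τ (V1 z) := by
  intro w hw
  refine Submodule.iSup_induction (At z) (motive := fun w => (gm A *ᵥ fun i => τ (w i)) ∈ V1 z) hw ?_ ?_ ?_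
  · intro i x hx
    exact Submodule.mem_iSup_of_mem i (h i x hx)
  · have h1 : (fun i => τ ((0 : Fin n → F) i)) = 0 := by
      funext i
      exact map_zero τ
    rw [h1, mulVec_zero]
    exact Submodule.zero_mem _
  · intro x y hx hy
    have h1 : (fun i => τ ((x + y) i)) = (fun i => τ (x i)) + fun i => τ (y i) := by
      funext i
      exact map_add τ _ _
    rw [h1, mulVec_add]
    exact Submodule.add_mem _ hx hy

theorem Fr.At_ne_top (hz : Fr q H t a z) (hn : n = a * eU q t) (ha : 2 ≤ a) (hn0 : 1 ≤ n) (i : Fin a) : At z i ≠ ⊤ := by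
  intro h
  have h1 := hz.finrank_At i
  rw [h, finrank_top, finrank_fin_fun] at h1
  have h2 : 1 ≤ eU q t := by
    by_contra h3
    have h4 : eU q t = 0 := by omega
    rw [h4, mul_zero] at hn
    omega
  nlinarith

end Cfsg.Agent.H715.DPU
end

-- part: H735/DPU/Eig
section
/-!
# S4247, row PSU: eigenvalues of the elements of a frame (helper735)

`Mg g` : the matrix of `g` over the algebraic closure. `spec` : if `z ^ t = 1` and `rk z` is the order `d` of `-q` modulo
`t`, then the eigenvalues `≠ 1` of `z` are `w ^ ((-q) ^ k)`.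
-/

set_option autoImplicit false

namespace Cfsg.Agent.H735.DPU

open Subgroup Cfsg Matrix Module Cfsg.Agent.H167.OP Cfsg.Agent.H170.HL Cfsg.Agent.H380.RV Cfsg.Agent.H553.RV
  Cfsg.Agent.H715.DPU
open Cfsg.Agent.ClassicalGeometry.PSUAutCount (gm gm_mul gm_one)
open Cfsg.Agent.H715.PDU (exists_frob pow_ne_zero_vec zpow_step IsOrd isOrd_of exists_eig_ne_one)

variable {F : Type*} [Field F] {q n t : ℕ}

/-- the matrix over the algebraic closure -/
noncomputable def Mg (g : GU n F q) : Matrix (Fin n) (Fin n) (AlgebraicClosure F) :=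
  (gm g).map (algebraMap F (AlgebraicClosure F))

theorem Mg_def (g : GU n F q) : Mg g = (gm g).map (algebraMap F (AlgebraicClosure F)) := rfl

theorem Mg_mul (g h : GU n F q) : Mg (g * h) = Mg g * Mg h := by
  rw [Mg_def, gm_mul, Matrix.map_mul]
  rfl

theorem Mg_one : Mg (1 : GU n F q) = 1 := by
  rw [Mg_def, gm_one]
  exact Matrix.map_one _ (map_zero _) (map_one _)

theorem Mg_pow (g : GU n F q) (j : ℕ) : Mg (g ^ j) = Mg g ^ j := by
  induction j with
  | zero => rw [pow_zero, pow_zero, Mg_one]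
  | succ j ih => rw [pow_succ, pow_succ, Mg_mul, ih]

theorem gm_injective : Function.Injective (gm : GU n F q → _) := fun _ _ h =>
  Subtype.ext (Units.ext h)

theorem Mg_injective : Function.Injective (Mg : GU n F q → _) := by
  intro g h hgh
  exact gm_injective (Matrix.map_injective (algebraMap F (AlgebraicClosure F)).injective hgh)

theorem Mg_inv_mulVec (g : GU n F q) (e : Fin n → AlgebraicClosure F) : Mg g⁻¹ *ᵥ (Mg g *ᵥ e) = e := by
  rw [mulVec_mulVec, ← Mg_mul, inv_mul_cancel, Mg_one, one_mulVec]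

theorem Mg_mulVec_inv (g : GU n F q) (e : Fin n → AlgebraicClosure F) : Mg g *ᵥ (Mg g⁻¹ *ᵥ e) = e := by
  rw [mulVec_mulVec, ← Mg_mul, mul_inv_cancel, Mg_one, one_mulVec]

theorem Mg_mulVec_ne (g : GU n F q) {e : Fin n → AlgebraicClosure F} (he : e ≠ 0) : Mg g *ᵥ e ≠ 0 := by
  intro h
  apply he
  rw [← Mg_inv_mulVec g e, h, mulVec_zero]

theorem eig_ne_zero {g : GU n F q} {e : Fin n → AlgebraicClosure F} (he : e ≠ 0) {c : AlgebraicClosure F}
    (h : Mg g *ᵥ e = c • e) : c ≠ 0 := by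
  rintro rfl
  rw [zero_smul] at h
  exact Mg_mulVec_ne g he h

theorem pow_mulVec {g : GU n F q} {e : Fin n → AlgebraicClosure F} {c : AlgebraicClosure F}
    (h : Mg g *ᵥ e = c • e) (i : ℕ) : Mg g ^ i *ᵥ e = c ^ i • e := by
  induction i with
  | zero => rw [pow_zero, pow_zero, one_mulVec, one_smul]
  | succ i ih => rw [pow_succ, ← mulVec_mulVec, h, mulVec_smul, ih, smul_smul, pow_succ']

/-- an eigenvalue of `g` -/
def Ev (g : GU n F q) (c : AlgebraicClosure F) : Prop := ∃ e : Fin n → AlgebraicClosure F, e ≠ 0 ∧ Mg g *ᵥ e = c • e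

theorem Ev.pow {g : GU n F q} {c : AlgebraicClosure F} (h : Ev g c) (i : ℕ) : Ev (g ^ i) (c ^ i) := by
  obtain ⟨e, he, h1⟩ := h
  exact ⟨e, he, by rw [Mg_pow, pow_mulVec h1]⟩

theorem Ev.of_conj {g h : GU n F q} {c : AlgebraicClosure F} (hc : Ev (h * g * h⁻¹) c) : Ev g c := by
  obtain ⟨e, he, h1⟩ := hc
  refine ⟨Mg h⁻¹ *ᵥ e, Mg_mulVec_ne _ he, ?_⟩
  have h2 : Mg g = Mg h⁻¹ * Mg (h * g * h⁻¹) * Mg h := by
    rw [← Mg_mul, ← Mg_mul]
    congr 1
    group
  rw [h2, ← mulVec_mulVec, ← mulVec_mulVec, Mg_mulVec_inv, h1, mulVec_smul]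

theorem Ev.pow_eq_one {g : GU n F q} {c : AlgebraicClosure F} (h : Ev g c) {i : ℕ} (hg : g ^ i = 1) : c ^ i = 1 := by
  obtain ⟨e, he, h1⟩ := h.pow i
  rw [hg, Mg_one, one_mulVec] at h1
  have h2 : (1 - c ^ i) • e = 0 := by rw [sub_smul, one_smul, ← h1, sub_self]
  rcases smul_eq_zero.1 h2 with h3 | h3
  · exact (sub_eq_zero.1 h3).symm
  · exact absurd h3 he

variable [Fintype F]

/-- **Duality.** -/
theorem dual (hF : Fintype.card F = q ^ 2) {g : GU n F q} {e : Fin n → AlgebraicClosure F}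
    {c : AlgebraicClosure F} (hc : c ≠ 0) (h : Mg g *ᵥ e = c • e) :
    (Mg g)ᵀ *ᵥ (fun i => e i ^ q) = (c ^ q)⁻¹ • fun i => e i ^ q := by
  obtain ⟨Fr, hFr⟩ := exists_frob hF
  have h1 : (Mg g)ᵀ * (Mg g).map Fr = 1 := by
    have h2 := (Cfsg.Agent.LieClassical.GUOrder.mul_map_eq_one_iff hF (gm g)).1 (fun u v => g.2 u v)
    have h3 := congrArg (fun M => M.map (algebraMap F (AlgebraicClosure F))) h2
    beta_reduce at h3
    rw [Matrix.map_mul, Matrix.map_one _ (map_zero _) (map_one _)] at h3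
    rw [← h3, Mg_def]
    congr 1
    ext i j
    rw [Matrix.map_apply, Matrix.map_apply, Matrix.map_apply, Matrix.map_apply, hFr, ← map_pow]
    rfl
  have h2 : (Mg g).map Fr *ᵥ (fun i => e i ^ q) = c ^ q • fun i => e i ^ q := by
    funext i
    have h3 := RingHom.map_mulVec Fr (Mg g) e i
    rw [h, Pi.smul_apply, smul_eq_mul, map_mul, hFr, hFr] at h3
    have h4 : (Fr ∘ e) = fun i => e i ^ q := by
      funext i
      exact hFr _
    rw [h4] at h3
    exact h3.symm
  have h3 : (Mg g)ᵀ *ᵥ ((Mg g).map Fr *ᵥ (fun i => e i ^ q)) = fun i => e i ^ q := by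
    rw [mulVec_mulVec, h1, one_mulVec]
  rw [h2, mulVec_smul] at h3
  have hcq : c ^ q ≠ 0 := pow_ne_zero _ hc
  have h4 := congrArg (fun v => (c ^ q)⁻¹ • v) h3
  beta_reduce at h4
  rw [smul_smul, inv_mul_cancel₀ hcq, one_smul] at h4
  exact h4

/-- the eigenvalues are closed under `θ ↦ θ ^ (-q)` -/
theorem ev_step (hF : Fintype.card F = q ^ 2) {g : GU n F q} {θ : AlgebraicClosure F} (h : Ev g θ) :
    Ev g (θ ^ q)⁻¹ := by
  obtain ⟨e, he, heθ⟩ := h
  have hθ := eig_ne_zero he heθ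
  have h1 := dual hF hθ heθ
  have h2 : ∃ v : Fin n → AlgebraicClosure F, v ≠ 0 ∧
      ((Mg g)ᵀ - (θ ^ q)⁻¹ • (1 : Matrix (Fin n) (Fin n) (AlgebraicClosure F))) *ᵥ v = 0 := by
    refine ⟨fun i => e i ^ q, pow_ne_zero_vec he, ?_⟩
    rw [sub_mulVec, h1, smul_mulVec, one_mulVec, sub_self]
  rw [Matrix.exists_mulVec_eq_zero_iff] at h2
  have h3 : (Mg g - (θ ^ q)⁻¹ • (1 : Matrix (Fin n) (Fin n) (AlgebraicClosure F))).det = 0 := by
    rw [← det_transpose, transpose_sub, transpose_smul, transpose_one]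
    exact h2
  rw [← Matrix.exists_mulVec_eq_zero_iff] at h3
  obtain ⟨v, hv, hv1⟩ := h3
  rw [sub_mulVec, smul_mulVec, one_mulVec, sub_eq_zero] at hv1
  exact ⟨v, hv, hv1⟩

theorem ev_iter (hF : Fintype.card F = q ^ 2) {g : GU n F q} {θ : AlgebraicClosure F} (h : Ev g θ) (m : ℕ) :
    Ev g (θ ^ ((-(q : ℤ)) ^ m)) := by
  induction m with
  | zero => simpa using h
  | succ m ih =>
    have h1 := ev_step hF ih
    rwa [zpow_step] at h1

omit [Fintype F] in
theorem rk_eq (z : GU n F q) : rk (rU n F q) z = (gm z - 1).rank := by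
  have h : rU n F q z - 1 = Matrix.mulVecLin (gm z - 1) := by
    apply LinearMap.ext
    intro v
    rw [Matrix.mulVecLin_apply, sub_mulVec, one_mulVec]
    rfl
  rw [rk, h]
  rfl

omit [Fintype F] in
theorem rank_Mg (z : GU n F q) : (Mg z - 1).rank = rk (rU n F q) z := by
  rw [rk_eq, ← H953.rank_map (algebraMap F (AlgebraicClosure F)) (gm z - 1), Mg_def]
  congr 1
  rw [Matrix.map_sub _ (map_sub _), Matrix.map_one _ (map_zero _) (map_one _)]

omit [Fintype F] in
/-- eigenvectors for distinct eigenvalues `≠ 1` lie in the support -/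
theorem card_le_rk {ι : Type*} [Fintype ι] {z : GU n F q} {μ : ι → AlgebraicClosure F} (hμ : Function.Injective μ)
    (h1 : ∀ i, μ i ≠ 1) (hev : ∀ i, Ev z (μ i)) : Fintype.card ι ≤ rk (rU n F q) z := by
  choose b hb0 hb using hev
  have hli : LinearIndependent (AlgebraicClosure F) b := by
    refine Module.End.eigenvectors_linearIndependent' (Matrix.toLin' (Mg z)) μ hμ b fun i => ?_
    rw [Module.End.hasEigenvector_iff, Module.End.mem_eigenspace_iff, Matrix.toLin'_apply]
    exact ⟨hb i, hb0 i⟩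
  rw [← rank_Mg, Matrix.rank, ← finrank_span_eq_card hli]
  apply Submodule.finrank_mono
  rw [Submodule.span_le]
  rintro _ ⟨i, rfl⟩
  refine ⟨(μ i - 1)⁻¹ • b i, ?_⟩
  have h2 : μ i - 1 ≠ 0 := sub_ne_zero.2 (h1 i)
  have h3 : μ i • b i - b i = (μ i - 1) • b i := by rw [sub_smul, one_smul]
  rw [Matrix.mulVecLin_apply, mulVec_smul, sub_mulVec, one_mulVec, hb, h3, smul_smul, inv_mul_cancel₀ h2, one_smul]

omit [Fintype F] in
/-- congruence of exponents -/
theorem zpow_inj_mod {w : AlgebraicClosure F} (hw : IsOrd t w) (hw0 : w ≠ 0) {a b : ℤ} :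
    w ^ a = w ^ b ↔ (a : ZMod t) = b := by
  rw [ZMod.intCast_eq_intCast_iff_dvd_sub, ← hw, zpow_sub₀ hw0, div_eq_one_iff_eq (zpow_ne_zero _ hw0), eq_comm]

/-- **The spectrum.** -/
theorem spec (hF : Fintype.card F = q ^ 2) {z : GU n F q} (ht : t.Prime) (htF : (t : F) ≠ 0) (hz : z ^ t = 1)
    (hd : rk (rU n F q) z = eU q t) :
    ∃ w : AlgebraicClosure F, IsOrd t w ∧ w ≠ 0 ∧ Ev z w ∧ ∀ μ, μ ≠ 1 → Ev z μ → ∃ k < eU q t, μ = w ^ ((-(q : ℤ)) ^ k) := by
  have htf := Fact.mk ht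
  have htK : (t : AlgebraicClosure F) ≠ 0 := by
    intro h
    apply htF
    apply (algebraMap F (AlgebraicClosure F)).injective
    rw [map_natCast, map_zero, h]
  have hdpos : 0 < eU q t := H556.HallOrd.order_pos ht (q_ne hF ht htF)
  have hz1 : Mg z ≠ 1 := by
    intro h
    have h1 := rank_Mg z
    rw [h, sub_self, Matrix.rank_zero] at h1
    omega
  obtain ⟨w, hw1, hwt, e, he, hew⟩ := exists_eig_ne_one htK (by rw [← Mg_pow, hz, Mg_one]) hz1
  have hw : IsOrd t w := isOrd_of ht hw1 hwt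
  have hev : Ev z w := ⟨e, he, hew⟩
  have hw0 : w ≠ 0 := eig_ne_zero he hew
  refine ⟨w, hw, hw0, hev, fun μ hμ1 hμ => ?_⟩
  by_contra hcon
  push Not at hcon
  let ν : Option (Fin (eU q t)) → AlgebraicClosure F := fun o => o.elim μ fun k => w ^ ((-(q : ℤ)) ^ (k : ℕ))
  have hν : Function.Injective ν := by
    rintro (_ | i) (_ | j) hij
    · rfl
    · exact absurd hij (hcon j j.2)
    · exact absurd hij.symm (hcon i i.2)
    · have h1 := (zpow_inj_mod hw hw0).mp hij
      push_cast at h1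
      have h2 := pow_injOn_Iio_orderOf (Set.mem_Iio.mpr i.2) (Set.mem_Iio.mpr j.2) h1
      rw [Fin.ext h2]
  have h1 : ∀ o, ν o ≠ 1 := by
    rintro (_ | i)
    · exact hμ1
    · intro h
      have h2 := (hw _).mp h
      have h3 : (((-(q : ℤ)) ^ (i : ℕ) : ℤ) : ZMod t) = 0 := by rwa [ZMod.intCast_zmod_eq_zero_iff_dvd]
      push_cast at h3
      exact pow_ne_zero _ (q_ne hF ht htF) h3
  have h2 : ∀ o, Ev z (ν o) := by
    rintro (_ | i)
    · exact hμ
    · exact ev_iter hF hev _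
  have h3 := card_le_rk hν h1 h2
  rw [Fintype.card_option, Fintype.card_fin, hd] at h3
  omega

end Cfsg.Agent.H735.DPU
end

-- part: H735/DPU/Pow
section
/-!
# S4247, row PSU: F2, F3 (helper735)
-/

set_option autoImplicit false

namespace Cfsg.Agent.H735.DPU

open Subgroup Cfsg Matrix Module Cfsg.Agent.H167.OP Cfsg.Agent.H170.HL Cfsg.Agent.H380.RV Cfsg.Agent.H553.RV
  Cfsg.Agent.H715.DPU
open Cfsg.Agent.ClassicalGeometry.PSUAutCount (gm gm_mul gm_one)
open Cfsg.Agent.H715.PDU (exists_frob pow_ne_zero_vec zpow_step IsOrd isOrd_of exists_eig_ne_one)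

/-- Task F2: conjugates of `z i`. -/
theorem pow_of_conj {F : Type} [Field F] [Fintype F] {n q a t : ℕ} (hF : Fintype.card F = q ^ 2)
    {H : Subgroup (GU n F q)} {z : Fin a → GU n F q} (hz : Fr q H t a z) (h : GU n F q) (i : Fin a) (j : ℕ)
    (hj : h * z i * h⁻¹ = z i ^ j) : ∃ k : ℕ, (j : ZMod t) = (-(q : ZMod t)) ^ k := by
  have htf := Fact.mk hz.ht
  have hzi := hz.fm.isZ i
  obtain ⟨w, hw, hw0, hev, hsp⟩ := spec hF hz.ht hz.ne hzi.1 hzi.2
  have h1 : Ev (z i) (w ^ j) := Ev.of_conj (h := h) (by rw [hj]; exact hev.pow j)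
  have h2 : w ^ j ≠ 1 := by
    intro h0
    have h3 := (hw j).mp (by rw [zpow_natCast]; exact h0)
    rw [Int.natCast_dvd_natCast] at h3
    obtain ⟨c, rfl⟩ := h3
    rw [pow_mul, hzi.1, one_pow] at hj
    have h4 : z i = 1 := by
      have h5 : h⁻¹ * (h * z i * h⁻¹) * h = h⁻¹ * 1 * h := by rw [hj]
      have h6 : h⁻¹ * (h * z i * h⁻¹) * h = z i := by group
      rw [← h6, h5]
      group
    have h5 : eU q t = 0 := by
      rw [← hzi.2, ← rank_Mg, h4, Mg_one, sub_self, Matrix.rank_zero]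
    have h6 : 0 < eU q t := H556.HallOrd.order_pos hz.ht (q_ne hF hz.ht hz.ne)
    omega
  obtain ⟨k, -, hk⟩ := hsp _ h2 h1
  refine ⟨k, ?_⟩
  rw [← zpow_natCast w j] at hk
  have h3 := (zpow_inj_mod hw hw0).mp hk
  push_cast at h3
  exact h3

/-- Task F3: semilinear maps commuting with `z i`. -/
theorem even_of_semi {F : Type} [Field F] [Fintype F] {n q a t : ℕ} (hF : Fintype.card F = q ^ 2)
    {H : Subgroup (GU n F q)} {z : Fin a → GU n F q} (hz : Fr q H t a z) (i : Fin a) (A : GU n F q) (τ : F ≃+* F)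
    (hτ : ∀ x, τ x = x ^ q)
    (hA : ∀ v : Fin n → F, gm (z i) *ᵥ (gm A *ᵥ fun j => τ (v j)) = gm A *ᵥ fun j => τ ((gm (z i) *ᵥ v) j)) :
    Even (eU q t) := by
  have htf := Fact.mk hz.ht
  have hzi := hz.fm.isZ i
  obtain ⟨w, hw, hw0, ⟨e, he, hew⟩, hsp⟩ := spec hF hz.ht hz.ne hzi.1 hzi.2
  obtain ⟨Fr, hFr⟩ := exists_frob hF
  -- the matrix identity
  have h1 : gm (z i) * gm A = gm A * (gm (z i)).map τ := by
    apply Matrix.ext_of_mulVec_single
    intro j
    have h2 := hA (Pi.single j 1)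
    have h3 : (fun l => τ ((Pi.single j 1 : Fin n → F) l)) = Pi.single j 1 := by
      funext l
      by_cases hl : l = j
      · subst hl
        rw [Pi.single_eq_same, map_one]
      · rw [Pi.single_eq_of_ne hl, map_zero]
    have h4 : (fun l => τ ((gm (z i) *ᵥ (Pi.single j 1 : Fin n → F)) l)) = (gm (z i)).map τ *ᵥ Pi.single j 1 := by
      funext l
      rw [Matrix.mulVec_single_one, Matrix.mulVec_single_one]
      rfl
    rw [h3, h4] at h2
    rw [← mulVec_mulVec, ← mulVec_mulVec, h2]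
  have h2 : Mg (z i) * Mg A = Mg A * (Mg (z i)).map Fr := by
    have h3 := congrArg (fun M => M.map (algebraMap F (AlgebraicClosure F))) h1
    beta_reduce at h3
    rw [Matrix.map_mul, Matrix.map_mul] at h3
    rw [Mg_def, Mg_def, h3]
    congr 1
    ext l m
    rw [Matrix.map_apply, Matrix.map_apply, Matrix.map_apply, Matrix.map_apply, hFr, hτ, map_pow]
  have h3 : (Mg (z i)).map Fr *ᵥ (fun l => e l ^ q) = w ^ q • fun l => e l ^ q := by
    funext l
    have h3 := RingHom.map_mulVec Fr (Mg (z i)) e l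
    rw [hew, Pi.smul_apply, smul_eq_mul, map_mul, hFr, hFr] at h3
    have h4 : (Fr ∘ e) = fun i => e i ^ q := by
      funext i
      exact hFr _
    rw [h4] at h3
    exact h3.symm
  have h4 : Ev (z i) (w ^ q) := by
    refine ⟨Mg A *ᵥ (fun l => e l ^ q), Mg_mulVec_ne _ (pow_ne_zero_vec he), ?_⟩
    rw [mulVec_mulVec, h2, ← mulVec_mulVec, h3, mulVec_smul]
  have hq : (q : ZMod t) ≠ 0 := fun h => q_ne hF hz.ht hz.ne (by rw [h, neg_zero])
  have h5 : w ^ q ≠ 1 := by
    intro h0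
    have h6 := (hw q).mp (by rw [zpow_natCast]; exact h0)
    rw [Int.natCast_dvd_natCast, ← ZMod.natCast_eq_zero_iff] at h6
    exact hq h6
  obtain ⟨k, -, hk⟩ := hsp _ h5 h4
  rw [← zpow_natCast w q] at hk
  have h6 := (zpow_inj_mod hw hw0).mp hk
  push_cast at h6
  -- `-1` is a power of `-q`
  by_contra hodd
  rw [Nat.not_even_iff_odd] at hodd
  have hpos : 0 < eU q t := H556.HallOrd.order_pos hz.ht (q_ne hF hz.ht hz.ne)
  have h7 : (-(q : ZMod t)) ^ (k + (eU q t - 1)) = -1 := by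
    have h8 : (-(q : ZMod t)) ^ (k + (eU q t - 1)) * (-(q : ZMod t)) = -1 * (-(q : ZMod t)) := by
      rw [← pow_succ, add_assoc, Nat.sub_add_cancel hpos, pow_add, pow_orderOf_eq_one, mul_one, ← h6]
      ring
    exact mul_right_cancel₀ (q_ne hF hz.ht hz.ne) h8
  have h8 := congrArg (fun x => x ^ eU q t) h7
  beta_reduce at h8
  rw [← pow_mul, mul_comm, pow_mul, pow_orderOf_eq_one, one_pow, hodd.neg_one_pow] at h8
  have h9 : (2 : ZMod t) = 0 := by linear_combination h8
  have h10 : t ∣ 2 := by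
    rw [← ZMod.natCast_eq_zero_iff]
    exact_mod_cast h9
  have h11 := (Nat.prime_dvd_prime_iff_eq hz.ht Nat.prime_two).mp h10
  have h12 := hz.odd
  rw [h11] at h12
  exact absurd h12 (by decide)

end Cfsg.Agent.H735.DPU
end

private theorem dce_4f9bd40da967 : _root_.True := by
  try have : _root_.True := by simp only [_root_.Cfsg.Agent.H715.DPU.At.eq_1]
  exact _root_.True.intro
end

-- part: H22/DPU/PartB_mg
section
prune_inst 0x4003804404010000000808241000000040000000000800000010204020800200d008800000001015000010000000008100000a0000000000020000000010000100000000000000002008e000000610200000000300000000000000000000000000000000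
set_option linter.all false
open scoped Cfsg.Agent.FastGrp

-- part: H22/DPU/Mat
section
/-!
# Orthonormal systems: extension `SU_m → SU_n` and restriction (helper22)
-/

set_option autoImplicit false

namespace Cfsg.Agent.H22.DPU

open Cfsg Matrix Module Cfsg.Agent.LieClassical.HermBasic Cfsg.Agent.LieClassical.SUBasic
  Cfsg.Agent.ClassicalGeometry.HermOrtho
open Cfsg.Agent.ClassicalGeometry.PSUAutCount (gm gm_mul gm_one gm_inj herm_gm gm_inv_mulVec gm_mulVec_inv)

variable {F : Type*} [Field F] {q n m : ℕ}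

/-- orthonormal systems -/
def ON (q : ℕ) (b : Fin m → (Fin n → F)) : Prop := ∀ i j, hermForm n F q (b i) (b j) = if i = j then 1 else 0

/-- the matrix of the embedding -/
def Jm (b : Fin m → (Fin n → F)) : Matrix (Fin n) (Fin m) F := Matrix.of fun i k => b k i

/-- the matrix of the projection -/
def Pm (q : ℕ) (b : Fin m → (Fin n → F)) : Matrix (Fin m) (Fin n) F := Matrix.of fun k i => (b k i) ^ q

theorem Jm_mulVec (b : Fin m → (Fin n → F)) (c : Fin m → F) : Jm b *ᵥ c = ∑ k, c k • b k := by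
  funext i
  simp only [Jm, Matrix.mulVec, dotProduct, Matrix.of_apply, Finset.sum_apply, Pi.smul_apply, smul_eq_mul]
  exact Finset.sum_congr rfl fun k _ => mul_comm _ _

theorem Pm_mulVec (b : Fin m → (Fin n → F)) (v : Fin n → F) (k : Fin m) : (Pm q b *ᵥ v) k = hermForm n F q v (b k) := by
  rw [herm_def]
  simp only [Pm, Matrix.mulVec, dotProduct, Matrix.of_apply]
  exact Finset.sum_congr rfl fun k _ => mul_comm _ _

variable {b : Fin m → (Fin n → F)}

theorem ON.PJ (hb : ON q b) : Pm q b * Jm b = 1 := by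
  apply Matrix.mulVec_injective
  funext c
  rw [← Matrix.mulVec_mulVec, Matrix.one_mulVec, Jm_mulVec]
  funext k
  rw [Pm_mulVec]
  exact herm_sum_smul_left hb c k

theorem ON.PJ_mulVec (hb : ON q b) (c : Fin m → F) : Pm q b *ᵥ (Jm b *ᵥ c) = c := by
  rw [Matrix.mulVec_mulVec, hb.PJ, Matrix.one_mulVec]

/-- the extension of a matrix -/
def Em (q : ℕ) (b : Fin m → (Fin n → F)) (M : Matrix (Fin m) (Fin m) F) : Matrix (Fin n) (Fin n) F :=
  1 + Jm b * (M - 1) * Pm q b

theorem Em_mulVec (M : Matrix (Fin m) (Fin m) F) (v : Fin n → F) :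
    Em q b M *ᵥ v = v + Jm b *ᵥ (M *ᵥ (Pm q b *ᵥ v) - Pm q b *ᵥ v) := by
  rw [Em, Matrix.add_mulVec, Matrix.one_mulVec, ← Matrix.mulVec_mulVec, ← Matrix.mulVec_mulVec, Matrix.sub_mulVec,
    Matrix.one_mulVec]

theorem Em_one : Em q b 1 = 1 := by
  rw [Em, sub_self, Matrix.mul_zero, Matrix.zero_mul, add_zero]

theorem ON.P_Em (hb : ON q b) (M : Matrix (Fin m) (Fin m) F) (v : Fin n → F) :
    Pm q b *ᵥ (Em q b M *ᵥ v) = M *ᵥ (Pm q b *ᵥ v) := by
  rw [Em_mulVec, Matrix.mulVec_add, hb.PJ_mulVec]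
  abel

theorem ON.Em_J (hb : ON q b) (M : Matrix (Fin m) (Fin m) F) (c : Fin m → F) :
    Em q b M *ᵥ (Jm b *ᵥ c) = Jm b *ᵥ (M *ᵥ c) := by
  rw [Em_mulVec, hb.PJ_mulVec, Matrix.mulVec_sub]
  abel

theorem Em_of_P (M : Matrix (Fin m) (Fin m) F) {v : Fin n → F} (hv : Pm q b *ᵥ v = 0) : Em q b M *ᵥ v = v := by
  rw [Em_mulVec, hv, Matrix.mulVec_zero, sub_zero, Matrix.mulVec_zero, add_zero]

theorem ON.Em_mul (hb : ON q b) (M N : Matrix (Fin m) (Fin m) F) : Em q b (M * N) = Em q b M * Em q b N := by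
  apply Matrix.mulVec_injective
  funext v
  rw [← Matrix.mulVec_mulVec, Em_mulVec (M := M), hb.P_Em, Em_mulVec, Em_mulVec, ← Matrix.mulVec_mulVec]
  simp only [Matrix.mulVec_sub]
  abel

theorem ON.det_Em (hb : ON q b) (M : Matrix (Fin m) (Fin m) F) : (Em q b M).det = M.det := by
  rw [Em, Matrix.det_one_add_mul_comm, ← Matrix.mul_assoc, hb.PJ, Matrix.one_mul]
  congr 1
  abel

variable [Fintype F] (hF : Fintype.card F = q ^ 2)

include hF

theorem herm_J (c : Fin m → F) (v : Fin n → F) :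
    hermForm n F q (Jm b *ᵥ c) v = hermForm m F q c (Pm q b *ᵥ v) := by
  rw [Jm_mulVec, herm_sum_left, herm_def]
  apply Finset.sum_congr rfl
  intro k _
  rw [herm_smul_left, Pm_mulVec, ← herm_swap hF]

theorem herm_J' (c : Fin m → F) (v : Fin n → F) :
    hermForm n F q v (Jm b *ᵥ c) = hermForm m F q (Pm q b *ᵥ v) c := by
  rw [Jm_mulVec, herm_sum_right hF, herm_def]
  apply Finset.sum_congr rfl
  intro k _
  rw [herm_smul_right, Pm_mulVec, mul_comm]

theorem ON.herm_Em (hb : ON q b) {M : Matrix (Fin m) (Fin m) F}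
    (hM : ∀ u v, hermForm m F q (M *ᵥ u) (M *ᵥ v) = hermForm m F q u v) (u v : Fin n → F) :
    hermForm n F q (Em q b M *ᵥ u) (Em q b M *ᵥ v) = hermForm n F q u v := by
  have h1 : ∀ u, Em q b M *ᵥ u = (u - Jm b *ᵥ (Pm q b *ᵥ u)) + Jm b *ᵥ (M *ᵥ (Pm q b *ᵥ u)) := by
    intro u
    rw [Em_mulVec, Matrix.mulVec_sub]
    abel
  have h2 : ∀ u, Pm q b *ᵥ (u - Jm b *ᵥ (Pm q b *ᵥ u)) = 0 := by
    intro u
    rw [Matrix.mulVec_sub, hb.PJ_mulVec, sub_self]
  have h3 : hermForm n F q u v = hermForm n F q (u - Jm b *ᵥ (Pm q b *ᵥ u)) (v - Jm b *ᵥ (Pm q b *ᵥ v)) +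
      hermForm m F q (Pm q b *ᵥ u) (Pm q b *ᵥ v) := by
    have e : u = (u - Jm b *ᵥ (Pm q b *ᵥ u)) + Jm b *ᵥ (Pm q b *ᵥ u) := by abel
    have e' : v = (v - Jm b *ᵥ (Pm q b *ᵥ v)) + Jm b *ᵥ (Pm q b *ᵥ v) := by abel
    nth_rewrite 1 [e]
    nth_rewrite 1 [e']
    rw [herm_add_left, herm_add_right hF, herm_add_right hF, herm_J hF, herm_J hF, herm_J' hF, h2, h2,
      herm_zero_left, herm_zero_right hF, hb.PJ_mulVec]
    ring
  rw [h1, h1, herm_add_left, herm_add_right hF, herm_add_right hF, herm_J hF, herm_J hF, herm_J' hF, h2, h2,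
    herm_zero_left, herm_zero_right hF, hb.PJ_mulVec, hM, h3]
  ring

end Cfsg.Agent.H22.DPU
end

-- part: H22/DPU/Ext
section
/-!
# The subgroup `SU(W)` and restrictions (helper22)
-/

set_option autoImplicit false

namespace Cfsg.Agent.H22.DPU

open Cfsg Matrix Module Cfsg.Agent.LieClassical.HermBasic Cfsg.Agent.LieClassical.HermSiegel
  Cfsg.Agent.LieClassical.HermGen Cfsg.Agent.ClassicalGeometry.HermOrtho
open Cfsg.Agent.ClassicalGeometry.PSUAutCount (gm gm_mul gm_one gm_inj herm_gm gm_inv_mulVec gm_mulVec_inv)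

variable {F : Type*} [Field F] {q n m : ℕ} {b : Fin m → (Fin n → F)}

section fin

variable [Fintype F] (hF : Fintype.card F = q ^ 2)

/-- extension `SU_m → SU_n` -/
def extS (hb : ON q b) : SU m F q →* SU n F q where
  toFun g := ⟨⟨Em q b (mat g), by rw [hb.det_Em]; exact g.1.2⟩,
    (LieClassical.SUBasic.mem_SU_iff _).2 (hb.herm_Em hF (fun u v => (LieClassical.SUBasic.mem_SU_iff _).1 g.2 u v))⟩
  map_one' := Subtype.ext (Subtype.ext Em_one)
  map_mul' g h := Subtype.ext (Subtype.ext (hb.Em_mul (mat g) (mat h)))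

theorem mat_extS (hb : ON q b) (g : SU m F q) : mat (extS hF hb g) = Em q b (mat g) := rfl

theorem act_extS (hb : ON q b) (g : SU m F q) (v : Fin n → F) : act (extS hF hb g) v = Em q b (mat g) *ᵥ v := rfl

theorem extS_injective (hb : ON q b) : Function.Injective (extS hF hb) := by
  intro g h hgh
  apply ext_act
  intro c
  have h1 := congrArg (fun x => act x (Jm b *ᵥ c)) hgh
  simp only [act_extS, hb.Em_J] at h1
  have h2 := congrArg (fun v => Pm q b *ᵥ v) h1
  simp only [hb.PJ_mulVec] at h2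
  exact h2

/-- elements preserving the span of `b` -/
def Pr (q : ℕ) (b : Fin m → (Fin n → F)) (A : Matrix (Fin n) (Fin n) F) : Prop :=
  ∀ c : Fin m → F, A *ᵥ (Jm b *ᵥ c) = Jm b *ᵥ (Pm q b *ᵥ (A *ᵥ (Jm b *ᵥ c)))

include hF in
theorem herm_restr (hb : ON q b) {A : GU n F q} (hA : Pr q b (gm A)) (u v : Fin m → F) :
    hermForm m F q ((Pm q b * gm A * Jm b) *ᵥ u) ((Pm q b * gm A * Jm b) *ᵥ v) = hermForm m F q u v := by
  rw [← Matrix.mulVec_mulVec, ← Matrix.mulVec_mulVec, ← Matrix.mulVec_mulVec, ← Matrix.mulVec_mulVec,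
    ← herm_J hF, ← hA, herm_gm, herm_J hF, hb.PJ_mulVec]

/-- the restriction of a subgroup of `GU_n` -/
noncomputable def rG (hb : ON q b) (H : Subgroup (GU n F q)) (hH : ∀ g ∈ H, Pr q b (gm g)) : H →* GU m F q :=
  ((MonoidHom.toHomUnits
    { toFun := fun h : H => Pm q b * gm (h : GU n F q) * Jm b
      map_one' := by
        rw [Subgroup.coe_one, gm_one, Matrix.mul_one, hb.PJ]
      map_mul' := fun h k => by
        apply Matrix.mulVec_injective
        funext c
        rw [Subgroup.coe_mul, gm_mul]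
        simp only [← Matrix.mulVec_mulVec]
        rw [← hH k k.2 c] } : H →* (Matrix (Fin m) (Fin m) F)ˣ)).codRestrict (GU m F q)
    (fun h => fun u v => herm_restr hF hb (hH h h.2) u v)

theorem gm_rG (hb : ON q b) (H : Subgroup (GU n F q)) (hH : ∀ g ∈ H, Pr q b (gm g)) (h : H) :
    gm (rG hF hb H hH h) = Pm q b * gm (h : GU n F q) * Jm b := rfl

theorem rG_eq_one (hb : ON q b) (H : Subgroup (GU n F q)) (hH : ∀ g ∈ H, Pr q b (gm g)) {h : H}
    (h1 : rG hF hb H hH h = 1) (c : Fin m → F) : gm (h : GU n F q) *ᵥ (Jm b *ᵥ c) = Jm b *ᵥ c := by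
  have h2 := congrArg gm h1
  rw [gm_rG, gm_one] at h2
  rw [hH h h.2 c]
  have h3 : Pm q b *ᵥ (gm (h : GU n F q) *ᵥ (Jm b *ᵥ c)) = c := by
    rw [Matrix.mulVec_mulVec, Matrix.mulVec_mulVec, h2, Matrix.one_mulVec]
  rw [h3]

/-- an orthonormal basis of `W` -/
structure Bs (q : ℕ) (W : Submodule F (Fin n → F)) (b : Fin m → (Fin n → F)) : Prop where
  on : ON q b
  mem : ∀ i, b i ∈ W
  fr : finrank F W = m

variable {W : Submodule F (Fin n → F)}

omit [Fintype F] in
theorem Bs.J_mem (h : Bs q W b) (c : Fin m → F) : Jm b *ᵥ c ∈ W := by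
  rw [Jm_mulVec]
  exact W.sum_mem fun i _ => W.smul_mem _ (h.mem i)

omit [Fintype F] in
theorem Bs.JP (h : Bs q W b) {v : Fin n → F} (hv : v ∈ W) : Jm b *ᵥ (Pm q b *ᵥ v) = v := by
  rw [Jm_mulVec]
  have h1 := eq_sum_of_orthonormal W (by rw [h.fr, Fintype.card_fin]) h.mem h.on hv
  rw [eq_comm]
  refine h1.trans ?_
  exact Finset.sum_congr rfl fun k _ => by rw [Pm_mulVec]

include hF in
theorem Bs.perp (h : Bs q W b) {v : Fin n → F} : v ∈ hermPerp q (W : Set (Fin n → F)) ↔ Pm q b *ᵥ v = 0 := by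
  constructor
  · intro hv
    funext k
    rw [Pm_mulVec]
    exact hv (b k) (h.mem k)
  · intro hv w hw
    rw [← h.JP hw, herm_J' hF, hv, herm_zero_left]

omit [Fintype F] in
theorem Bs.pr (h : Bs q W b) {A : Matrix (Fin n) (Fin n) F} (hA : ∀ w ∈ W, A *ᵥ w ∈ W) : Pr q b A := by
  intro c
  rw [h.JP (hA _ (h.J_mem c))]

/-- the elements of `SU_n` fixing `U` pointwise -/
def fixS (q : ℕ) (U : Submodule F (Fin n → F)) : Subgroup (SU n F q) where
  carrier := {g | ∀ v ∈ U, act g v = v}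
  one_mem' := fun v _ => act_one v
  mul_mem' {g h} hg hh := fun v hv => by rw [act_mul, hh v hv, hg v hv]
  inv_mem' {g} hg := fun v hv => by
    nth_rewrite 1 [← hg v hv]
    rw [act_inv_act]

omit [Fintype F] in
theorem mem_fixS {U : Submodule F (Fin n → F)} {g : SU n F q} : g ∈ fixS q U ↔ ∀ v ∈ U, act g v = v := Iff.rfl

/-- the copy of `SU_m` is the group of the elements fixing the orthogonal space -/
theorem Bs.range_extS (h : Bs q W b) (hnd : ∀ u ∈ W, (∀ v ∈ W, hermForm n F q u v = 0) → u = 0) :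
    (extS hF h.on).range = fixS q (hermPerp q (W : Set (Fin n → F))) := by
  apply le_antisymm
  · rintro _ ⟨g, rfl⟩ v hv
    rw [act_extS]
    exact Em_of_P _ ((h.perp hF).1 hv)
  · intro g hg
    have hgW : ∀ w ∈ W, act g w ∈ W := by
      intro w hw
      -- `W` is the orthogonal space of `W^⊥`
      obtain ⟨w', hw', u, hu, hwu⟩ := exists_add_perp hF W hnd (act g w)
      have hu0 : u = 0 := by
        apply hermPerp_nondeg hF W hnd u hu
        intro v hv
        have h1 : hermForm n F q (act g w) v = 0 := by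
          nth_rewrite 1 [← hg v hv]
          rw [herm_act]
          exact herm_eq_zero_swap hF (hv w hw)
        rw [hwu, herm_add_left, herm_eq_zero_swap hF (hv w' hw'), zero_add] at h1
        exact h1
      rw [hwu, hu0, add_zero]
      exact hw'
    have hPr : Pr q b (mat g) := h.pr hgW
    obtain ⟨M, hM⟩ : ∃ M, M = Pm q b * mat g * Jm b := ⟨_, rfl⟩
    have hE : Em q b M = mat g := by
      apply Matrix.mulVec_injective
      funext v
      obtain ⟨w, hw, u, hu, rfl⟩ := exists_add_perp hF W hnd v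
      have e1 : mat g *ᵥ u = u := hg u hu
      rw [Matrix.mulVec_add, Matrix.mulVec_add, Em_of_P _ ((h.perp hF).1 hu), e1]
      congr 1
      nth_rewrite 1 [← h.JP hw]
      rw [h.on.Em_J, hM, ← Matrix.mulVec_mulVec, ← Matrix.mulVec_mulVec, ← hPr, h.JP hw]
    have hdet : M.det = 1 := by
      rw [← h.on.det_Em, hE]
      exact g.1.2
    have hiso : ∀ u v, hermForm m F q (M *ᵥ u) (M *ᵥ v) = hermForm m F q u v := by
      intro u v
      have h1 : hermForm n F q (mat g *ᵥ (Jm b *ᵥ u)) (mat g *ᵥ (Jm b *ᵥ v)) =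
          hermForm n F q (Jm b *ᵥ u) (Jm b *ᵥ v) := herm_act g _ _
      rw [← hE, h.on.Em_J, h.on.Em_J, herm_J hF, herm_J hF, h.on.PJ_mulVec, h.on.PJ_mulVec] at h1
      exact h1
    refine ⟨⟨⟨M, hdet⟩, (LieClassical.SUBasic.mem_SU_iff _).2 hiso⟩, ?_⟩
    apply mat_injective
    rw [mat_extS]
    exact hE

end fin

end Cfsg.Agent.H22.DPU
end

-- part: H22/DPU/Core
section
/-!
# A subgroup normalised by `P` and `K`: all its `π`-subgroups are nilpotent (helper22)
-/

set_option autoImplicit false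

namespace Cfsg.Agent.H22.DPU

open Subgroup Cfsg Cfsg.Agent.H988.CPi Cfsg.Agent.H571.RV Cfsg.Agent.H817.DPi Cfsg.Agent.H22.DPi
open scoped Pointwise

universe u

/-- nilpotency modulo the centre -/
theorem nil_of_center {M : Type*} [Group M] {R : Subgroup M}
    (h : Group.IsNilpotent (R.map (QuotientGroup.mk' (center M)))) : Group.IsNilpotent R := by
  let f : R →* R.map (QuotientGroup.mk' (center M)) := (QuotientGroup.mk' (center M)).subgroupMap R
  refine @Subgroup.isNilpotent_of_ker_le_center _ _ _ _ f ?_ h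
  intro x hx
  have h5 : QuotientGroup.mk' (center M) (x : M) = 1 := congrArg Subtype.val hx
  have h6 : (x : M) ∈ center M := (QuotientGroup.eq_one_iff _).1 h5
  rw [mem_center_iff] at h6 ⊢
  intro y
  exact Subtype.ext (h6 y)

/-- nilpotency of subgroups of conjugates -/
theorem nil_of_le_conj {X : Type*} [Group X] {H R : Subgroup X} (hH : Group.IsNilpotent H) {x : X}
    (h : R ≤ MulAut.conj x • H) : Group.IsNilpotent R := by
  have h1 : Group.IsNilpotent ↥(MulAut.conj x • H) := by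
    have e : H ≃* ↥(MulAut.conj x • H) := Subgroup.equivSMul (MulAut.conj x) H
    exact Group.nilpotent_of_mulEquiv e
  refine @Subgroup.isNilpotent_of_ker_le_center _ _ _ _ (Subgroup.inclusion h) ?_ h1
  intro y hy
  have h2 : y = 1 := Subgroup.inclusion_injective h (by rw [map_one]; exact hy)
  rw [h2]
  exact one_mem _

theorem nil_of_injective {X Y : Type*} [Group X] [Group Y] {f : X →* Y} (hf : Function.Injective f)
    (h : Group.IsNilpotent Y) : Group.IsNilpotent X := by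
  refine @Subgroup.isNilpotent_of_ker_le_center _ _ _ _ f ?_ h
  rw [(MonoidHom.ker_eq_bot_iff f).2 hf]
  exact bot_le

theorem nil_of_surj {X Y : Type*} [Group X] [Group Y] {f : X →* Y} (hf : Function.Surjective f)
    (h : Group.IsNilpotent X) : Group.IsNilpotent Y := Group.nilpotent_of_surjective f hf

/-- **The core of the argument.** -/
theorem nil_of_core {π : Set ℕ} {G : Type u} [Group G] [Finite G] {P M : Subgroup G} {K : Subgroup (MulAut G)}
    (hP : IsPiHall π P) (hI : IH π P K) (hM : M ≠ ⊤)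
    (hPM : P ≤ normalizer (M : Set G)) (hKM : K ≤ stab M) (hs : IsSimpleGroup (↥M ⧸ center ↥M))
    (hna : ¬ IsMulCommutative (↥M ⧸ center ↥M))
    (hX : Cls π (↥M ⧸ center ↥M) → ∀ P' : Subgroup (↥M ⧸ center ↥M), IsPiHall π P' → Group.IsNilpotent P')
    (R : Subgroup M) (hR : PiN π (Nat.card R)) : Group.IsNilpotent R := by
  have h1 := hX (hI M hM hPM hKM _ hna (QuotientGroup.mk' (center ↥M)) (QuotientGroup.mk'_surjective _))
  have h2 := hall_inf hP hPM
  have h3 := isPiHall_map_mk h2 (center ↥M)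
  obtain ⟨x, hx⟩ := Cfsg.Agent.H571.DExt.le_conj_nilpotent h3 (h1 _ h3)
    (K := R.map (QuotientGroup.mk' (center ↥M))) (hR.of_dvd (card_map_dvd R _))
  exact nil_of_center (nil_of_le_conj (h1 _ h3) hx)

end Cfsg.Agent.H22.DPU
end

-- part: H22/DPU/Ord
section
/-!
# `PSU_m(q)` is not `PSL_3(2)`, `PSL_5(2)` (helper22)
-/

set_option autoImplicit false

namespace Cfsg.Agent.H22.DPU

open Cfsg Cfsg.Agent.LieClassical.HermBasic

variable {F : Type} [Field F] [Fintype F] {m q p : ℕ}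

theorem exists_pf (hF : Fintype.card F = q ^ 2) (hp : p.Prime) [CharP F p] : ∃ f : ℕ, f ≠ 0 ∧ q = p ^ f := by
  obtain ⟨k, hk1, hk2⟩ := FiniteField.card F p
  rw [hF] at hk2
  obtain ⟨f, hf1, hf2⟩ := (Nat.dvd_prime_pow hp).1 (show q ∣ p ^ (k : ℕ) by rw [← hk2]; exact dvd_pow_self q two_ne_zero)
  refine ⟨f, ?_, hf2⟩
  rintro rfl
  have := two_le hF
  rw [pow_zero] at hf2
  omega

theorem pow_dvd (hF : Fintype.card F = q ^ 2) (hm : 3 ≤ m) (hp : p.Prime) {f : ℕ} (hf : f ≠ 0) (hq : q = p ^ f) :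
    p ^ (f * (m * (m - 1) / 2)) ∣ Nat.card (PSU m F q) := by
  have h1 := H715.PDU.v_PSU hF hm hp hf hq
  have h2 : (Nat.card (PSU m F q)).factorization p = f * (m * (m - 1) / 2) := h1
  rw [← h2]
  exact Nat.ordProj_dvd _ _

/-- `PSL_3(2)` -/
theorem not_psl_three (hF : Fintype.card F = q ^ 2) (hm : 3 ≤ m) (h32 : ¬ (m = 3 ∧ q = 2)) (hp : p.Prime) [CharP F p]
    (h : Nat.card (PSU m F q) ∣ 168) : False := by
  obtain ⟨f, hf, hq⟩ := exists_pf hF hp
  have h1 := (pow_dvd hF hm hp hf hq).trans h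
  have hm2 : 3 ≤ m * (m - 1) / 2 := by
    have : 3 * 2 ≤ m * (m - 1) := Nat.mul_le_mul hm (by omega)
    omega
  obtain ⟨N, hN⟩ : ∃ N, N = m * (m - 1) / 2 := ⟨_, rfl⟩
  rw [← hN] at h1 hm2
  have h2 : p ^ 3 ∣ 168 := (pow_dvd_pow p (by nlinarith only [hm2, Nat.one_le_iff_ne_zero.2 hf])).trans h1
  have h3 := Nat.le_of_dvd (by norm_num) h2
  have h4 : p < 6 := by
    by_contra hc
    have : 6 ^ 3 ≤ p ^ 3 := Nat.pow_le_pow_left (by omega) 3
    omega
  have h5 := hp.two_le
  have h6 : p = 2 := by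
    interval_cases p
    · rfl
    · norm_num at h2
    · norm_num at h2
    · norm_num at h2
  subst h6
  have h7 : f * N ≤ 3 := by
    by_contra hc
    have h8 : 2 ^ 4 ∣ 168 := (pow_dvd_pow 2 (by omega)).trans h1
    norm_num at h8
  have hf1 : f = 1 := by
    have : f * 3 ≤ f * N := Nat.mul_le_mul_left f hm2
    omega
  subst hf1
  have hm3 : m = 3 := by
    by_contra hc
    have : 4 * 3 ≤ m * (m - 1) := Nat.mul_le_mul (by omega) (by omega)
    omega
  exact h32 ⟨hm3, by rw [hq]; norm_num⟩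

/-- `PSL_5(2)` -/
theorem not_psl_five (hF : Fintype.card F = q ^ 2) (hm : 3 ≤ m) (h32 : ¬ (m = 3 ∧ q = 2)) (hp : p.Prime) [CharP F p]
    (h : Nat.card (PSU m F q) ∣ 9999360) : False := by
  obtain ⟨f, hf, hq⟩ := exists_pf hF hp
  have h1 := (pow_dvd hF hm hp hf hq).trans h
  have hm2 : 3 ≤ m * (m - 1) / 2 := by
    have : 3 * 2 ≤ m * (m - 1) := Nat.mul_le_mul hm (by omega)
    omega
  obtain ⟨N, hN⟩ : ∃ N, N = m * (m - 1) / 2 := ⟨_, rfl⟩
  rw [← hN] at h1 hm2
  have h2 : p ^ 3 ∣ 9999360 := (pow_dvd_pow p (by nlinarith only [hm2, Nat.one_le_iff_ne_zero.2 hf])).trans h1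
  have h3 : p ∣ 9999360 := (dvd_pow_self p three_ne_zero).trans h2
  have h5 := hp.two_le
  have h6 : p = 2 := by
    have e : (9999360 : ℕ) = 2 ^ 10 * 3 ^ 2 * 5 * 7 * 31 := by norm_num
    rw [e] at h3
    rcases (Nat.Prime.dvd_mul hp).1 h3 with h3 | h3
    · rcases (Nat.Prime.dvd_mul hp).1 h3 with h3 | h3
      · rcases (Nat.Prime.dvd_mul hp).1 h3 with h3 | h3
        · rcases (Nat.Prime.dvd_mul hp).1 h3 with h3 | h3
          · exact (Nat.prime_dvd_prime_iff_eq hp Nat.prime_two).1 (hp.dvd_of_dvd_pow h3)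
          · rw [(Nat.prime_dvd_prime_iff_eq hp Nat.prime_three).1 (hp.dvd_of_dvd_pow h3)] at h2
            norm_num at h2
        · rw [(Nat.prime_dvd_prime_iff_eq hp Nat.prime_five).1 h3] at h2
          norm_num at h2
      · rw [(Nat.prime_dvd_prime_iff_eq hp (by norm_num)).1 h3] at h2
        norm_num at h2
    · rw [(Nat.prime_dvd_prime_iff_eq hp (by norm_num)).1 h3] at h2
      norm_num at h2
  subst h6
  have h7 : f * N ≤ 10 := by
    by_contra hc
    have h8 : 2 ^ 11 ∣ 9999360 := (pow_dvd_pow 2 (by omega)).trans h1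
    norm_num at h8
  have hf3 : f ≤ 3 := by
    have : f * 3 ≤ f * N := Nat.mul_le_mul_left f hm2
    omega
  have hm5 : m ≤ 5 := by
    by_contra hc
    have h9 : 6 * 5 ≤ m * (m - 1) := Nat.mul_le_mul (by omega) (by omega)
    have h10 : 1 * N ≤ f * N := Nat.mul_le_mul_right N (Nat.one_le_iff_ne_zero.2 hf)
    omega
  have h0 := Cfsg.Agent.S0280.result hF m (by omega)
  have key : ∀ {u : ℕ}, u.Prime → ¬ u ∣ 9999360 → (u : ℕ).Coprime (Nat.gcd m (q + 1)) → (u : ℕ).Coprime (q + 1) →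
      u ∣ q ^ (m * (m - 1) / 2) * ∏ i ∈ Finset.range m, (if Even i then q ^ (i + 1) + 1 else q ^ (i + 1) - 1) → False := by
    intro u hu hn hc1 hc2 hd
    rw [← h0] at hd
    have h11 := hc2.dvd_of_dvd_mul_left (hc1.dvd_of_dvd_mul_left hd)
    exact hn (h11.trans h)
  interval_cases m
  · interval_cases f
    · exact hf rfl
    · exact h32 ⟨rfl, by rw [hq]; norm_num⟩
    · subst hq
      refine key (u := 13) (by norm_num) (by norm_num) (by norm_num) (by norm_num) ?_
      norm_num only [Finset.prod_range_succ, Nat.even_iff, _root_.Nat.even_iff, _root_.Finset.prod_range_succ, _root_.Finset.range_one, _root_.Finset.prod_singleton, _root_.ite_true, _root_.ite_false]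
    · subst hq
      refine key (u := 19) (by norm_num) (by norm_num) (by norm_num) (by norm_num) ?_
      norm_num only [Finset.prod_range_succ, Nat.even_iff, _root_.Nat.even_iff, _root_.Finset.prod_range_succ, _root_.Finset.range_one, _root_.Finset.prod_singleton, _root_.ite_true, _root_.ite_false]
  · have hf1 : f = 1 := by norm_num at hN; subst hN; omega
    subst hf1 hq
    have h12 : Nat.card (PSU 4 F (2 ^ 1)) = 25920 := by
      norm_num only [Finset.prod_range_succ, Nat.even_iff, _root_.one_mul, _root_.Nat.even_iff, _root_.Finset.prod_range_succ, _root_.Finset.range_one, _root_.Finset.prod_singleton, _root_.ite_true, _root_.ite_false] at h0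
      norm_num
      omega
    rw [h12] at h
    norm_num at h
  · have hf1 : f = 1 := by norm_num at hN; subst hN; omega
    subst hf1 hq
    refine key (u := 11) (by norm_num) (by norm_num) (by norm_num) (by norm_num) ?_
    norm_num only [Finset.prod_range_succ, Nat.even_iff, _root_.Nat.even_iff, _root_.Finset.prod_range_succ, _root_.Finset.range_one, _root_.Finset.prod_singleton, _root_.ite_true, _root_.ite_false]

end Cfsg.Agent.H22.DPU
end

-- part: H22/DPU/PartB
section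
/-!
# S4247, row PSU: an invariant orthogonal decomposition is impossible (helper22)
-/

set_option autoImplicit false
set_option linter.unusedSectionVars false

namespace Cfsg.Agent.H22.DPU

open Cfsg Matrix Module Cfsg.Agent.LieClassical.HermBasic Cfsg.Agent.LieClassical.HermSiegel
  Cfsg.Agent.LieClassical.HermGen Cfsg.Agent.ClassicalGeometry.HermOrtho Cfsg.Agent.H988.CPi Cfsg.Agent.H571.RV
  Cfsg.Agent.H817.DPi Cfsg.Agent.H380.RV Cfsg.Agent.H553.RV Cfsg.Agent.H715.DPU
open Cfsg.Agent.ClassicalGeometry.PSUAutBasic (pr pr_surjective pr_eq_one_iff exists_center_mul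
  exists_scalar_of_mem_center)
open Cfsg.Agent.ClassicalGeometry.PSUAutCount (gm gm_mul gm_one gm_inj herm_gm gm_inv_mulVec gm_mulVec_inv toAut
  semiConj act_semiConj herm_semi)
open Cfsg.Agent.ClassicalGeometry.PSUAutMain (toAut_pr' exists_toAut)

section geo

variable {F : Type*} [Field F] [Fintype F] {q n m : ℕ} (hF : Fintype.card F = q ^ 2) {W : Submodule F (Fin n → F)}

/-- an injective map of a finite set into itself -/
theorem surj_of {U : Submodule F (Fin n → F)} {s : (Fin n → F) → (Fin n → F)} (hs : Function.Injective s)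
    (hU : ∀ x ∈ U, s x ∈ U) : ∀ y ∈ U, ∃ x ∈ U, s x = y := by
  have hinj : Function.Injective (fun x : U => (⟨s x, hU x x.2⟩ : U)) := fun a b hab =>
    Subtype.ext (hs (congrArg Subtype.val hab))
  have hfin : Finite U := inferInstance
  intro y hy
  obtain ⟨x, hx⟩ := (Finite.surjective_of_injective hinj) ⟨y, hy⟩
  exact ⟨x, x.2, congrArg Subtype.val hx⟩

/-- conjugation and `fixS` -/
theorem fix_conj {U : Submodule F (Fin n → F)} {α : MulAut (SU n F q)} {s : (Fin n → F) → (Fin n → F)}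
    (hs : Function.Injective s) (hact : ∀ g x, act (α g) (s x) = s (act g x)) (hU : ∀ x ∈ U, s x ∈ U)
    (g : SU n F q) : α g ∈ fixS q U ↔ g ∈ fixS q U := by
  rw [mem_fixS, mem_fixS]
  constructor
  · intro h x hx
    apply hs
    rw [← hact]
    exact h _ (hU x hx)
  · intro h y hy
    obtain ⟨x, hx, rfl⟩ := surj_of hs hU y hy
    rw [hact, h x hx]

/-- invariance of the orthogonal space -/
theorem inv_perp {s : (Fin n → F) → (Fin n → F)} (hs : Function.Injective s) {τ : F ≃+* F}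
    (hh : ∀ u v, hermForm n F q (s u) (s v) = τ (hermForm n F q u v)) (hW : ∀ x ∈ W, s x ∈ W) :
    ∀ x ∈ hermPerp q (W : Set (Fin n → F)), s x ∈ hermPerp q (W : Set (Fin n → F)) := by
  intro x hx w hw
  obtain ⟨y, hy, rfl⟩ := surj_of hs hW w hw
  rw [hh, hx y hy, map_zero]

/-- the semilinear map -/
def sm (A : GU n F q) (τ : F ≃+* F) (x : Fin n → F) : Fin n → F := gm A *ᵥ fun i => τ (x i)

theorem sm_injective (A : GU n F q) (τ : F ≃+* F) : Function.Injective (sm A τ) := by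
  intro x y h
  have h1 : gm A⁻¹ *ᵥ sm A τ x = gm A⁻¹ *ᵥ sm A τ y := by rw [h]
  rw [sm, sm, gm_inv_mulVec, gm_inv_mulVec] at h1
  funext i
  exact τ.injective (congrFun h1 i)

theorem act_injective (g : SU n F q) : Function.Injective (act g) := by
  intro x y h
  rw [← act_inv_act g x, h, act_inv_act]

end geo

section main

variable {F : Type} [Field F] [Fintype F] {n q p : ℕ} {π : Set ℕ} (hF : Fintype.card F = q ^ 2)
  {P : Subgroup (PSU n F q)} {K B : Subgroup (MulAut (PSU n F q))} {H : Subgroup (GU n F q)}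

include hF in
/-- the swap of two orthogonal unit vectors -/
theorem exists_swap {x y : Fin n → F} (hx : hermForm n F q x x = 1) (hy : hermForm n F q y y = 1)
    (hxy : hermForm n F q x y = 0) : ∃ g : SU n F q, act g y = -x := by
  have hb : ON q ![x, y] := by
    intro i j
    fin_cases i <;> fin_cases j
    · simpa using hx
    · simpa using hxy
    · simpa using herm_eq_zero_swap hF hxy
    · simpa using hy
  let M : Matrix (Fin 2) (Fin 2) F := !![0, -1; 1, 0]
  have hM : ∀ u v, hermForm 2 F q (M *ᵥ u) (M *ᵥ v) = hermForm 2 F q u v := by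
    intro u v
    simp only [herm_def, Fin.sum_univ_two, M, Matrix.mulVec, dotProduct, Matrix.of_apply, Matrix.cons_val', Matrix.cons_val_zero,
      Matrix.cons_val_one, Matrix.cons_val_fin_one]
    have h1 : (0 * v 0 + -1 * v 1) ^ q = -(v 1 ^ q) := by
      rw [← neg_pow_q hF]
      congr 1
      ring
    have h2 : (1 * v 0 + 0 * v 1) ^ q = v 0 ^ q := by
      congr 1
      ring
    rw [h1, h2]
    ring
  refine ⟨⟨⟨Em q ![x, y] M, by rw [hb.det_Em]; simp [M]⟩, (LieClassical.SUBasic.mem_SU_iff _).2 (hb.herm_Em hF hM)⟩, ?_⟩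
  show Em q ![x, y] M *ᵥ y = -x
  have h1 : y = Jm ![x, y] *ᵥ ![0, 1] := by
    rw [Jm_mulVec]
    simp
  nth_rewrite 2 [h1]
  rw [hb.Em_J]
  rw [Jm_mulVec]
  simp [M, Matrix.mulVec, dotProduct]

/-- invariance of `W` under `H` and `K` -/
structure Inv (K : Subgroup (MulAut (PSU n F q))) (H : Subgroup (GU n F q)) (W : Submodule F (Fin n → F)) : Prop where
  nd : ∀ u ∈ W, (∀ v ∈ W, hermForm n F q u v = 0) → u = 0
  h : ∀ g ∈ H, ∀ w ∈ W, gm g *ᵥ w ∈ W
  k : ∀ (A : GU n F q) (τ : F ≃+* F), toAut A τ ∈ K → Sv A τ W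

include hF in
theorem Inv.perp {W : Submodule F (Fin n → F)} (I : Inv K H W) : Inv K H (hermPerp q (W : Set (Fin n → F))) where
  nd := hermPerp_nondeg hF W I.nd
  h g hg := by
    refine inv_perp (s := fun x => gm g *ᵥ x) (τ := RingEquiv.refl F) ?_ (fun u v => herm_gm g u v) (I.h g hg)
    intro x y hxy
    have h1 : gm g⁻¹ *ᵥ (gm g *ᵥ x) = gm g⁻¹ *ᵥ (gm g *ᵥ y) := congrArg (fun v => gm g⁻¹ *ᵥ v) hxy
    rwa [gm_inv_mulVec, gm_inv_mulVec] at h1
  k A τ hk := inv_perp (sm_injective A τ) (fun u v => herm_semi A τ u v) (I.k A τ hk)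

theorem ne_zero_of (hp : p.Prime) [CharP F p] (hpπ : p ∉ π) : ∀ r ∈ π, r.Prime → (r : F) ≠ 0 := by
  intro r hr hrp h0
  have h1 := (CharP.cast_eq_zero_iff F p r).1 h0
  have h2 := (Nat.prime_dvd_prime_iff_eq hp hrp).1 h1
  exact hpπ (h2 ▸ hr)

theorem pi0_of (h2 : 2 ∉ π) (hp : p.Prime) [CharP F p] (hpπ : p ∉ π) {N : ℕ} (h : PiN π N) :
    PiN (Cfsg.Agent.H572.RV.Pi0 F) N := by
  intro r hr hd
  have h1 := h r hr hd
  refine ⟨?_, ne_zero_of (F := F) hp hpπ r h1 hr⟩
  rcases hr.eq_two_or_odd' with h3 | h3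
  · exact (h2 (h3 ▸ h1)).elim
  · exact h3

/-- elements of `GU` of determinant one -/
def toSU {m : ℕ} (X : Subgroup (GU m F q)) (hX : ∀ g ∈ X, (g.1.1 : Matrix (Fin m) (Fin m) F).det = 1) : X →* SU m F q where
  toFun g := ⟨⟨gm (g : GU m F q), hX g g.2⟩, (LieClassical.SUBasic.mem_SU_iff _).2 (fun u v => herm_gm (g : GU m F q) u v)⟩
  map_one' := Subtype.ext (Subtype.ext rfl)
  map_mul' _ _ := Subtype.ext (Subtype.ext rfl)

theorem toSU_injective {m : ℕ} (X : Subgroup (GU m F q)) (hX : ∀ g ∈ X, (g.1.1 : Matrix (Fin m) (Fin m) F).det = 1) :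
    Function.Injective (toSU X hX) := by
  intro g h hgh
  have h1 : gm (g : GU m F q) = gm (h : GU m F q) := congrArg (fun x : SU m F q => mat x) hgh
  exact Subtype.ext (gm_inj h1)

include hF in
/-- the case `q = 2`, `m = 3` -/
theorem nil_three_two (h2 : 2 ∉ π) (hq : q = 2) (X : Subgroup (GU 3 F q)) (hX : PiN π (Nat.card X))
    (hX1 : ∀ g ∈ X, (g.1.1 : Matrix (Fin 3) (Fin 3) F).det = 1) : Group.IsNilpotent X := by
  subst hq
  have h0 := Cfsg.Agent.S0278.result hF 3 (by norm_num)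
  have h1 : Nat.card (SU 3 F 2) = 216 := by
    norm_num only [Finset.prod_range_succ, Nat.even_iff, _root_.Nat.even_iff, _root_.Finset.prod_range_succ, _root_.Finset.range_one, _root_.Finset.prod_singleton, _root_.ite_true, _root_.ite_false] at h0
    omega
  have h3 : Nat.card X ∣ 216 := by
    rw [← h1]
    exact Subgroup.card_dvd_of_injective _ (toSU_injective X hX1)
  have h4 : IsPGroup 3 X := by
    have h5 : (Nat.card X).Coprime (2 ^ 3) := by
      apply Nat.Coprime.pow_right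
      rw [Nat.coprime_comm, Nat.prime_two.coprime_iff_not_dvd]
      exact fun hd => h2 (hX 2 Nat.prime_two hd)
    have h6 : Nat.card X ∣ 3 ^ 3 := h5.dvd_of_dvd_mul_left (by norm_num only []; exact h3)
    obtain ⟨k, -, hk⟩ := (Nat.dvd_prime_pow Nat.prime_three).1 h6
    have : Fact (Nat.Prime 3) := ⟨Nat.prime_three⟩
    exact IsPGroup.of_card hk
  have : Fact (Nat.Prime 3) := ⟨Nat.prime_three⟩
  exact h4.isNilpotent

include hF in
/-- **the `π`-subgroups of `SU(W)` are nilpotent** -/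
theorem su_nil (hn : 3 ≤ n) (h32 : ¬ (n = 3 ∧ q = 2)) (hp : p.Prime) [CharP F p] (hpπ : p ∉ π) (hE : EX π)
    (hc : Cfg π P K B) (hI : IH π P K) (hU : Up π P H) {W : Submodule F (Fin n → F)} (hW1 : W ≠ ⊤) (I : Inv K H W)
    {m : ℕ} (hm : finrank F W = m) (X : Subgroup (GU m F q)) (hX : PiN π (Nat.card X))
    (hX1 : ∀ g ∈ X, (g.1.1 : Matrix (Fin m) (Fin m) F).det = 1) : Group.IsNilpotent X := by
  by_cases hm2 : m ≤ 2
  · let ρ : Representation F X (Fin m → F) := (Cfsg.Agent.H170.HL.rep (incU m F q)).comp X.subtype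
    have hinj : Function.Injective ρ :=
      (Cfsg.Agent.H170.HL.rep_injective incU_injective).comp X.subtype_injective
    exact nil_two hinj (by rw [finrank_fin_fun]; exact hm2) (pi0_of hc.two hp hpπ hX)
  by_cases hm32 : m = 3 ∧ q = 2
  · obtain ⟨rfl, hq⟩ := hm32
    exact nil_three_two hF hc.two hq X hX hX1
  have hm3 : 3 ≤ m := by omega
  obtain ⟨b, hbW, hb⟩ := exists_orthonormal hF W I.nd hm
  have hB : Bs q W b := ⟨hb, hbW, hm⟩
  obtain ⟨W', hW'⟩ : ∃ W', W' = hermPerp q (W : Set (Fin n → F)) := ⟨_, rfl⟩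
  have I' : Inv K H W' := by rw [hW']; exact I.perp hF
  have hW'0 : W' ≠ ⊥ := by
    intro h
    apply hW1
    have h1 := finrank_hermPerp_of_nondeg hF W I.nd
    rw [← hW', h, finrank_bot, add_zero] at h1
    apply Submodule.eq_top_of_finrank_eq
    rw [finrank_fin_fun, h1]
  have hW0 : W ≠ ⊥ := by
    intro h
    rw [h, finrank_bot] at hm
    omega
  obtain ⟨y, hy, hyy⟩ := exists_norm_one_vector hF W' I'.nd hW'0
  obtain ⟨x, hx, hxx⟩ := exists_norm_one_vector hF W I.nd hW0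
  have hy0 : y ≠ 0 := by
    rintro rfl
    rw [herm_zero_left] at hyy
    exact zero_ne_one hyy
  have hxy : hermForm n F q x y = 0 := by
    rw [hW'] at hy
    exact herm_eq_zero_swap hF (hy x hx)
  obtain ⟨M, hM⟩ : ∃ M, M = (fixS q W').map (pr n F q) := ⟨_, rfl⟩
  -- `M ≠ ⊤`
  have hMt : M ≠ ⊤ := by
    intro hMt
    obtain ⟨g, hg⟩ := exists_swap hF hxx hyy hxy
    have h1 : pr n F q g ∈ M := by rw [hMt]; exact Subgroup.mem_top _
    rw [hM] at h1
    obtain ⟨h, hh, hgh⟩ := h1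
    obtain ⟨z, hz, hzg⟩ := exists_center_mul hgh
    obtain ⟨c, hc0, -, hcz⟩ := exists_scalar_of_mem_center hF hn hz
    have h2 : act g y = c • y := by
      rw [hzg, act_mul, hcz, act_smul, hh y hy]
    rw [hg] at h2
    have h3 : hermForm n F q x x = 0 := by
      have h4 : x = -(c • y) := by rw [← h2, neg_neg]
      nth_rewrite 2 [h4]
      rw [herm_neg_right hF, herm_smul_right, hxy, mul_zero, neg_zero]
    rw [h3] at hxx
    exact zero_ne_one hxx
  -- `P` normalises `M`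
  have hPM : P ≤ Subgroup.normalizer (M : Set (PSU n F q)) := by
    intro a ha
    obtain ⟨g, hgH, rfl⟩ := (hU.mem a).1 ha
    have h1 : ∀ h : SU n F q, MulAut.conj g h ∈ fixS q W' ↔ h ∈ fixS q W' := by
      refine fix_conj (s := act g) (act_injective g) ?_ ?_
      · intro h v
        rw [MulAut.conj_apply, act_mul, act_mul, act_inv_act]
      · intro v hv
        exact I'.h _ hgH v hv
    rw [Subgroup.mem_normalizer_iff]
    intro z
    rw [hM]
    constructor
    · rintro ⟨h, hh, rfl⟩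
      refine ⟨g * h * g⁻¹, (h1 h).2 hh, ?_⟩
      rw [map_mul, map_mul, map_inv]
    · rintro ⟨h, hh, hhz⟩
      refine ⟨g⁻¹ * h * g, (h1 _).1 ?_, ?_⟩
      · rw [MulAut.conj_apply]
        have e : g * (g⁻¹ * h * g) * g⁻¹ = h := by group
        rw [e]
        exact hh
      · rw [map_mul, map_mul, map_inv, hhz]
        group
  -- `K` stabilises `M`
  have hKM : K ≤ stab M := by
    intro k hk
    obtain ⟨A, τ, rfl⟩ := exists_toAut hF hn h32 k
    have h1 : ∀ h : SU n F q, semiConj A τ h ∈ fixS q W' ↔ h ∈ fixS q W' :=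
      fix_conj (s := sm A τ) (sm_injective A τ) (fun h v => act_semiConj A τ h v) (I'.k A τ hk)
    rw [mem_stab, hM]
    ext z
    constructor
    · rintro ⟨_, ⟨h, hh, rfl⟩, rfl⟩
      exact ⟨semiConj A τ h, (h1 h).2 hh, (toAut_pr' A τ h).symm⟩
    · rintro ⟨h, hh, rfl⟩
      obtain ⟨h', rfl⟩ := (semiConj A τ).surjective h
      exact ⟨pr n F q h', ⟨h', (h1 h').1 hh, rfl⟩, toAut_pr' A τ h'⟩
  -- the structure of `M`
  have hinj : Function.Injective ((pr n F q).comp (extS hF hb)) := by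
    rw [injective_iff_map_eq_one]
    intro g hg
    obtain ⟨c, hc0, -, hcz⟩ := exists_scalar_of_mem_center hF hn (pr_eq_one_iff.1 hg)
    have h1 : extS hF hb g ∈ fixS q W' := by
      rw [hW', ← hB.range_extS hF I.nd]
      exact ⟨g, rfl⟩
    have h2 := h1 y hy
    rw [hcz] at h2
    have hc1 : c = 1 := by
      have h3 : (c - 1) • y = 0 := by rw [sub_smul, one_smul, h2, sub_self]
      exact sub_eq_zero.1 ((smul_eq_zero.1 h3).resolve_right hy0)
    apply extS_injective hF hb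
    rw [map_one]
    apply ext_act
    intro v
    rw [hcz, hc1, one_smul, act_one]
  have hrange : ((pr n F q).comp (extS hF hb)).range = M := by
    rw [MonoidHom.range_comp, hB.range_extS hF I.nd, hM, hW']
  have e : SU m F q ≃* ↥M := (MonoidHom.ofInjective hinj).trans (MulEquiv.subgroupCongr hrange)
  have eX : (↥M ⧸ Subgroup.center ↥M) ≃* PSU m F q := Cfsg.Agent.LieClassical.OrthFinite.quotientCenterCongr e.symm
  have hsP : IsSimpleGroup (PSU m F q) := Cfsg.Agent.S0283.result hF m hm3 hm32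
  have hs : IsSimpleGroup (↥M ⧸ Subgroup.center ↥M) := eX.isSimpleGroup
  have hna : ¬ IsMulCommutative (↥M ⧸ Subgroup.center ↥M) := Cfsg.Agent.CpAut.Fix.not_comm_quot
  have hLie : IsLieTypeChar p (↥M ⧸ Subgroup.center ↥M) :=
    Or.inr (Or.inr (Or.inl ⟨F, inferInstance, inferInstance, inferInstance, m, q, hF, hm3, hm32, ⟨eX⟩⟩))
  have hnil : Cls π (↥M ⧸ Subgroup.center ↥M) →
      ∀ P' : Subgroup (↥M ⧸ Subgroup.center ↥M), IsPiHall π P' → Group.IsNilpotent P' := by
    intro hcls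
    rcases hE _ hna hc.two p hp hpπ hLie hcls with h | ⟨⟨f⟩⟩ | ⟨⟨f⟩⟩
    · exact h
    · exfalso
      refine not_psl_three hF hm3 hm32 hp ?_
      rw [← Nat.card_congr eX.toEquiv, Nat.card_congr f.toEquiv]
      exact Cfsg.Agent.H22.DPi.card_psl_three
    · exfalso
      refine not_psl_five hF hm3 hm32 hp ?_
      rw [← Nat.card_congr eX.toEquiv, Nat.card_congr f.toEquiv]
      exact Cfsg.Agent.H22.DPi.card_psl_five
  let φ : X →* ↥M := e.toMonoidHom.comp (toSU X hX1)
  have hφ : Function.Injective φ := e.injective.comp (toSU_injective X hX1)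
  have h1 : Group.IsNilpotent φ.range := by
    refine nil_of_core hc.hall hI hMt hPM hKM hs hna hnil φ.range ?_
    rw [← Nat.card_congr (MonoidHom.ofInjective hφ).toEquiv]
    exact hX
  exact nil_of_injective (f := (MonoidHom.ofInjective hφ).toMonoidHom) (MonoidHom.ofInjective hφ).injective h1

include hF in
/-- **Task B: an invariant orthogonal decomposition is impossible.** -/
theorem part_b (hn : 3 ≤ n)
    (h32 : ¬ (n = 3 ∧ q = 2)) (hp : p.Prime) [CharP F p] (hpπ : p ∉ π) (hE : EX π) (hN : NilGU π)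
    (hc : Cfg π P K B) (hI : IH π P K)
    (hU : Up π P H) {W : Submodule F (Fin n → F)} (hW0 : W ≠ ⊥) (hW1 : W ≠ ⊤)
    (hnd : Nd q W) (hH : ∀ g ∈ H, ∀ w ∈ W, gm g *ᵥ w ∈ W)
    (hK : ∀ (A : GU n F q) (τ : F ≃+* F), toAut A τ ∈ K → Sv A τ W) : False := by
  have I : Inv K H W := ⟨hnd, hH, hK⟩
  obtain ⟨W', hW'⟩ : ∃ W', W' = hermPerp q (W : Set (Fin n → F)) := ⟨_, rfl⟩
  have I' : Inv K H W' := by rw [hW']; exact I.perp hF
  have hW'1 : W' ≠ ⊤ := by
    intro h
    apply hW0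
    rw [Submodule.eq_bot_iff]
    intro w hw
    apply herm_nondeg hF
    intro v
    have h1 : v ∈ W' := by rw [h]; exact Submodule.mem_top
    rw [hW'] at h1
    exact herm_eq_zero_swap hF (h1 w hw)
  have hr := ne_zero_of (F := F) hp hpπ
  obtain ⟨m, hm⟩ : ∃ m, finrank F W = m := ⟨_, rfl⟩
  obtain ⟨m', hm'⟩ : ∃ m', finrank F W' = m' := ⟨_, rfl⟩
  have h1 := hN F m q hF hc.two hr (fun X hX hX1 => su_nil hF hn h32 hp hpπ hE hc hI hU hW1 I hm X hX hX1)
  have h2 := hN F m' q hF hc.two hr (fun X hX hX1 => su_nil hF hn h32 hp hpπ hE hc hI hU hW'1 I' hm' X hX hX1)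
  obtain ⟨b, hbW, hb⟩ := exists_orthonormal hF W I.nd hm
  have hB : Bs q W b := ⟨hb, hbW, hm⟩
  obtain ⟨b', hbW', hb'⟩ := exists_orthonormal hF W' I'.nd hm'
  have hB' : Bs q W' b' := ⟨hb', hbW', hm'⟩
  have hPr : ∀ g ∈ H, Pr q b (gm g) := fun g hg => hB.pr (I.h g hg)
  have hPr' : ∀ g ∈ H, Pr q b' (gm g) := fun g hg => hB'.pr (I'.h g hg)
  -- `H` is nilpotent
  have hHn : Group.IsNilpotent H := by
    have n1 : Group.IsNilpotent (rG hF hb H hPr).range :=
      h1 _ (PiN.of_dvd hU.hall.1 (Subgroup.card_range_dvd _))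
    have n2 : Group.IsNilpotent (rG hF hb' H hPr').range :=
      h2 _ (PiN.of_dvd hU.hall.1 (Subgroup.card_range_dvd _))
    let φ : H →* (rG hF hb H hPr).range × (rG hF hb' H hPr').range :=
      (rG hF hb H hPr).rangeRestrict.prod (rG hF hb' H hPr').rangeRestrict
    have hφ : Function.Injective φ := by
      rw [injective_iff_map_eq_one]
      intro h hh
      have e1 : rG hF hb H hPr h = 1 := congrArg (fun x => ((x.1 : (rG hF hb H hPr).range) : GU m F q)) hh
      have e2 : rG hF hb' H hPr' h = 1 := congrArg (fun x => ((x.2 : (rG hF hb' H hPr').range) : GU m' F q)) hh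
      apply Subtype.ext
      apply gm_inj
      apply Matrix.mulVec_injective
      funext v
      obtain ⟨w, hw, u, hu, rfl⟩ := exists_add_perp hF W I.nd v
      rw [← hW'] at hu
      rw [Subgroup.coe_one, gm_one, Matrix.one_mulVec, Matrix.mulVec_add, ← hB.JP hw, ← hB'.JP hu,
        rG_eq_one hF hb H hPr e1, rG_eq_one hF hb' H hPr' e2]
    have := Group.isNilpotent_prod (G₁ := (rG hF hb H hPr).range) (G₂ := (rG hF hb' H hPr').range)
    exact nil_of_injective hφ this
  -- `P` is nilpotent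
  apply hc.nnil
  obtain ⟨R, hR⟩ : ∃ R : Subgroup (SU n F q), ∀ x, x ∈ R ↔ jU n F q x ∈ H := ⟨H.comap (jU n F q), fun _ => Iff.rfl⟩
  have hRn : Group.IsNilpotent R := by
    let ψ : R →* H := ((jU n F q).comp R.subtype).codRestrict H (fun x => (hR x).1 x.2)
    have hψ : Function.Injective ψ := by
      intro a b hab
      have h3 : jU n F q a = jU n F q b := congrArg (fun x : H => (x : GU n F q)) hab
      apply Subtype.ext
      exact Subtype.ext (Subtype.ext (congrArg (fun x : GU n F q => x.1.1) h3))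
    exact nil_of_injective hψ hHn
  let θ : R →* P := ((pr n F q).comp R.subtype).codRestrict P (fun x => by
    rw [hU.mem]
    exact ⟨x, (hR x).1 x.2, rfl⟩)
  have hθ : Function.Surjective θ := by
    rintro ⟨a, ha⟩
    obtain ⟨g, hg, hga⟩ := (hU.mem a).1 ha
    exact ⟨⟨g, (hR g).2 hg⟩, Subtype.ext hga⟩
  exact nil_of_surj hθ hRn

end main

end Cfsg.Agent.H22.DPU
end

-- part: H38/NP/Cent
section
/-!
# Determinants of the endomorphisms of an irreducible module of an `r`-group (helper38)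
-/

set_option autoImplicit false

namespace Cfsg.Agent.H38.NP

open Module

/-- For an irreducible module `W` over a finite field `F` of a finite `r`-group, `r` odd, the commuting ring is commutative and
the determinants of its elements contain all the `r^i`-th powers, for some `i`. -/
theorem exists_det {F W R : Type*} [Field F] [Finite F] [AddCommGroup W] [Module F W] [Module.Finite F W] [Nontrivial W]
    [Group R] [Finite R] {r : ℕ} [Fact r.Prime] (hr2 : r ≠ 2) (hR : IsPGroup r R) (ρ : R →* Module.End F W)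
    (hirr : ∀ U : Submodule F W, (∀ g, ∀ u ∈ U, ρ g u ∈ U) → U = ⊥ ∨ U = ⊤) :
    (∀ a b : Module.End F W, (∀ g, a * ρ g = ρ g * a) → (∀ g, b * ρ g = ρ g * b) → a * b = b * a) ∧
    ∃ i, ∀ μ : F, ∃ a : Module.End F W, (∀ g, a * ρ g = ρ g * a) ∧ LinearMap.det a = μ ^ (r ^ i) := by
  classical
  have hr : r.Prime := Fact.out
  obtain ⟨E, hE⟩ : ∃ E : Subalgebra F (Module.End F W), E = Subalgebra.centralizer F (Set.range ρ) := ⟨_, rfl⟩
  have hmem : ∀ a : Module.End F W, a ∈ E ↔ ∀ g, a * ρ g = ρ g * a := by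
    intro a
    rw [hE, Subalgebra.mem_centralizer_iff]
    constructor
    · intro h g
      exact (h _ ⟨g, rfl⟩).symm
    · rintro h _ ⟨g, rfl⟩
      exact (h g).symm
  haveI : Finite W := Module.finite_of_finite F
  haveI : Finite (Module.End F W) := Finite.of_injective (fun f : Module.End F W => (f : W → W)) DFunLike.coe_injective
  haveI : Finite E := inferInstance
  have hinj : ∀ a ∈ E, a ≠ 0 → ∀ w, a w = 0 → w = 0 := by
    intro a ha ha0 w hw
    rcases hirr (LinearMap.ker a) (fun g u hu => by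
      rw [LinearMap.mem_ker] at hu ⊢
      have h1 := LinearMap.congr_fun ((hmem a).1 ha g) u
      rw [Module.End.mul_apply, Module.End.mul_apply, hu, map_zero] at h1
      exact h1) with h | h
    · have : w ∈ LinearMap.ker a := hw
      rwa [h, Submodule.mem_bot] at this
    · exact absurd (LinearMap.ker_eq_top.1 h) ha0
  haveI : NoZeroDivisors E := ⟨by
    intro a b hab
    by_cases ha : a = 0
    · exact Or.inl ha
    · right
      apply Subtype.ext
      ext w
      have ha' : (a : Module.End F W) ≠ 0 := fun h => ha (Subtype.ext h)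
      refine hinj a a.2 ha' _ ?_
      have h1 := congrArg (fun x : E => (x : Module.End F W) w) hab
      exact h1⟩
  haveI : IsDomain E := NoZeroDivisors.to_isDomain E
  have hf : IsField E := Finite.isDomain_to_isField E
  refine ⟨fun a b ha hb => ?_, ?_⟩
  · exact congrArg Subtype.val (hf.mul_comm ⟨a, (hmem a).2 ha⟩ ⟨b, (hmem b).2 hb⟩)
  letI := hf.toField
  haveI : IsScalarTower F E W := ⟨fun c e w => rfl⟩
  haveI : Module.Finite E W := Module.Finite.of_restrictScalars_finite F E W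
  let ρ' : R →* Module.End E W :=
    { toFun := fun g =>
        { toFun := fun w => ρ g w
          map_add' := fun x y => map_add _ x y
          map_smul' := fun e w => by
            have h1 := LinearMap.congr_fun ((hmem e.1).1 e.2 g) w
            exact h1.symm }
      map_one' := by
        ext w
        show ρ 1 w = w
        rw [map_one]
        rfl
      map_mul' := fun g h => by
        ext w
        show ρ (g * h) w = ρ g (ρ h w)
        rw [map_mul]
        rfl }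
  have hρ' : ∀ g w, ρ' g w = ρ g w := fun g w => rfl
  have hirr' : ∀ U : Submodule E W, (∀ g, ∀ u ∈ U, ρ' g u ∈ U) → U = ⊥ ∨ U = ⊤ := by
    intro U hU
    rcases hirr (U.restrictScalars F) (fun g u hu => hU g u hu) with h | h
    · left
      rw [eq_bot_iff]
      intro u hu
      have h1 : u ∈ U.restrictScalars F := hu
      rwa [h] at h1
    · right
      rw [eq_top_iff]
      intro u _
      have h1 : u ∈ U.restrictScalars F := by rw [h]; exact Submodule.mem_top
      exact h1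
  -- the dimension
  have hdim : ∃ i, finrank E W = r ^ i := by
    by_cases htr : ∀ g, ρ g = 1
    · refine ⟨0, ?_⟩
      rw [pow_zero]
      obtain ⟨w, hw⟩ := exists_ne (0 : W)
      refine finrank_eq_one w hw fun v => ?_
      rcases hirr' (Submodule.span E {w}) (fun g u hu => by
        rw [hρ', htr g]
        exact hu) with h | h
      · exfalso
        rw [Submodule.span_singleton_eq_bot] at h
        exact hw h
      · have h1 : v ∈ Submodule.span E {w} := by rw [h]; exact Submodule.mem_top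
        exact Submodule.mem_span_singleton.1 h1
    · push_neg at htr
      obtain ⟨g0, hg0⟩ := htr
      -- the centre of the image
      let ρu : R →* (Module.End F W)ˣ := MonoidHom.toHomUnits ρ
      have hρu : ∀ g, ((ρu g : (Module.End F W)ˣ) : Module.End F W) = ρ g := fun g => rfl
      have hG : IsPGroup r ρu.range := hR.of_surjective ρu.rangeRestrict ρu.rangeRestrict_surjective
      haveI : Finite ρu.range := Set.Finite.to_subtype (Set.finite_range ρu)
      haveI : Nontrivial ρu.range := by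
        refine ⟨⟨⟨ρu g0, g0, rfl⟩, 1, fun h => hg0 ?_⟩⟩
        have h1 := congrArg (fun x : ρu.range => ((x : (Module.End F W)ˣ) : Module.End F W)) h
        exact h1
      haveI := hG.center_nontrivial
      obtain ⟨z, hz⟩ := exists_ne (1 : Subgroup.center ρu.range)
      have hzE : (((z : ρu.range) : (Module.End F W)ˣ) : Module.End F W) ∈ E := by
        rw [hmem]
        intro g
        have h1 := Subgroup.mem_center_iff.1 z.2 ⟨ρu g, g, rfl⟩
        have h2 := congrArg (fun x : ρu.range => ((x : (Module.End F W)ˣ) : Module.End F W)) h1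
        exact h2.symm
      obtain ⟨n, hn⟩ := hG (z : ρu.range)
      obtain ⟨e, he⟩ : ∃ e : E, e = ⟨_, hzE⟩ := ⟨_, rfl⟩
      have he1 : e ^ r ^ n = 1 := by
        apply Subtype.ext
        have h2 := congrArg (fun x : ρu.range => ((x : (Module.End F W)ˣ) : Module.End F W)) hn
        rw [he]
        simpa only [_root_.SubmonoidClass.mk_pow, _root_.OneMemClass.coe_one, _root_.SubmonoidClass.coe_pow, _root_.Units.val_pow_eq_pow_val, _root_.Units.val_one] using h2
      have hene : e ≠ 1 := by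
        intro h
        apply hz
        apply Subtype.ext
        apply Subtype.ext
        apply Units.ext
        have h2 := congrArg Subtype.val h
        rw [he] at h2
        exact h2
      have hrE : r ∣ Nat.card E - 1 := by
        have he0 : e ≠ 0 := by
          intro h
          rw [h, zero_pow (pow_ne_zero n hr.ne_zero)] at he1
          exact zero_ne_one he1
        have h1 : orderOf (Units.mk0 e he0) ∣ r ^ n := by
          apply orderOf_dvd_of_pow_eq_one
          apply Units.ext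
          simpa only [_root_.Units.val_pow_eq_pow_val, _root_.Units.val_mk0, _root_.Units.val_one] using he1
        obtain ⟨t, -, ht⟩ := (Nat.dvd_prime_pow hr).1 h1
        have ht0 : t ≠ 0 := by
          rintro rfl
          rw [pow_zero, orderOf_eq_one_iff] at ht
          apply hene
          have := congrArg Units.val ht
          simpa using this
        have h2 : r ∣ orderOf (Units.mk0 e he0) := by
          rw [ht]
          exact dvd_pow_self r ht0
        have h3 := h2.trans (orderOf_dvd_natCard (Units.mk0 e he0))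
        rwa [Nat.card_units] at h3
      exact dim_pow hr2 hrE hR ρ' hirr'
  obtain ⟨i, hi⟩ := hdim
  refine ⟨i, fun μ => ?_⟩
  obtain ⟨a, ha⟩ := FiniteField.norm_surjective F E μ
  refine ⟨a, (hmem a).1 a.2, ?_⟩
  have h1 : (a : Module.End F W) = (a • (1 : Module.End E W)).restrictScalars F := by
    ext w
    rfl
  rw [h1, LinearMap.det_restrictScalars, LinearMap.det_smul, hi, map_one, mul_one, map_pow, ha]

end Cfsg.Agent.H38.NP
end

-- part: H38/NP/Herm
section
/-!
# Centralizers of `r`-subgroups of `GU_m(q)`: projections (helper38)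
-/

set_option autoImplicit false

namespace Cfsg.Agent.H38.NP

open Cfsg Module Cfsg.Agent.LieClassical.HermBasic
open Cfsg.Agent.H907 (ct herm_ct ct_mul ct_ct ext_of_herm mem_GU_iff_ct)
open scoped Matrix

section adj

variable {F : Type*} [Field F] [Fintype F] {m q : ℕ}

/-- the adjoint of an endomorphism -/
noncomputable def adj (q : ℕ) (T : Module.End F (Fin m → F)) : Module.End F (Fin m → F) :=
  Matrix.toLin' (ct q (LinearMap.toMatrix' T))

variable (hF : Fintype.card F = q ^ 2)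
include hF

theorem herm_adj (T : Module.End F (Fin m → F)) (u v : Fin m → F) :
    hermForm m F q (T u) v = hermForm m F q u (adj q T v) := by
  have h1 : T u = LinearMap.toMatrix' T *ᵥ u := (LinearMap.toMatrix'_mulVec T u).symm
  rw [h1, herm_ct hF, adj, Matrix.toLin'_apply]

theorem herm_adj' (T : Module.End F (Fin m → F)) (u v : Fin m → F) :
    hermForm m F q (adj q T u) v = hermForm m F q u (T v) := by
  rw [herm_swap hF, ← herm_adj hF, ← herm_swap hF]

theorem end_ext {A B : Module.End F (Fin m → F)}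
    (h : ∀ u v, hermForm m F q u (A v) = hermForm m F q u (B v)) : A = B := by
  ext1 i
  ext1
  set v := (LinearMap.single F (fun _ : Fin m => F) i) 1 with hv
  show A v = B v
  have h1 : A v - B v = 0 := by
    apply herm_nondeg hF
    intro u
    apply herm_eq_zero_swap hF
    rw [herm_sub_right hF, h, sub_self]
  exact sub_eq_zero.1 h1

theorem adj_mul (A B : Module.End F (Fin m → F)) : adj q (A * B) = adj q B * adj q A := by
  apply end_ext hF
  intro u v
  rw [← herm_adj hF, Module.End.mul_apply, Module.End.mul_apply, ← herm_adj hF, ← herm_adj hF]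

theorem adj_adj (A : Module.End F (Fin m → F)) : adj q (adj q A) = A := by
  apply end_ext hF
  intro u v
  rw [← herm_adj hF, herm_adj' hF]

theorem adj_add (A B : Module.End F (Fin m → F)) : adj q (A + B) = adj q A + adj q B := by
  apply end_ext hF
  intro u v
  rw [← herm_adj hF, LinearMap.add_apply, LinearMap.add_apply, herm_add_left, herm_add_right hF, ← herm_adj hF,
    ← herm_adj hF]

theorem adj_one : adj q (1 : Module.End F (Fin m → F)) = 1 := by
  apply end_ext hF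
  intro u v
  rw [← herm_adj hF]
  rfl

theorem adj_zero : adj q (0 : Module.End F (Fin m → F)) = 0 := by
  apply end_ext hF
  intro u v
  rw [← herm_adj hF, LinearMap.zero_apply, LinearMap.zero_apply, herm_zero_left, herm_zero_right hF]

theorem det_adj (T : Module.End F (Fin m → F)) : LinearMap.det (adj q T) = (LinearMap.det T) ^ q := by
  rw [adj, LinearMap.det_toLin', ← LinearMap.det_toMatrix' T]
  have h1 : ct q (LinearMap.toMatrix' T) = ((conj hF).toRingHom.mapMatrix (LinearMap.toMatrix' T))ᵀ := by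
    ext i j
    rfl
  rw [h1, Matrix.det_transpose, ← RingHom.map_det]
  rfl

end adj

section proj

variable {F : Type*} [Field F] [Fintype F] {m q : ℕ}

/-- the orthogonal space -/
def perp (q : ℕ) (U : Submodule F (Fin m → F)) : Submodule F (Fin m → F) where
  carrier := {v | ∀ u ∈ U, hermForm m F q v u = 0}
  add_mem' := by
    intro a b ha hb u hu
    rw [herm_add_left, ha u hu, hb u hu, add_zero]
  zero_mem' := by
    intro u hu
    rw [herm_zero_left]
  smul_mem' := by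
    intro c a ha u hu
    rw [herm_smul_left, ha u hu, mul_zero]

theorem mem_perp {U : Submodule F (Fin m → F)} {v : Fin m → F} :
    v ∈ perp q U ↔ ∀ u ∈ U, hermForm m F q v u = 0 := Iff.rfl

variable (hF : Fintype.card F = q ^ 2)

/-- the pairing -/
def pairing (q : ℕ) (U : Submodule F (Fin m → F)) (hF : Fintype.card F = q ^ 2) : (Fin m → F) →+ (U →ₗ[F] F) where
  toFun v :=
    { toFun := fun u => hermForm m F q (u : Fin m → F) v
      map_add' := fun a b => by rw [Submodule.coe_add, herm_add_left]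
      map_smul' := fun c a => by rw [Submodule.coe_smul, herm_smul_left]; rfl }
  map_zero' := by
    ext u
    exact herm_zero_right hF _
  map_add' v w := by
    ext u
    exact herm_add_right hF _ _ _

theorem pairing_eq_zero_iff (U : Submodule F (Fin m → F)) (v : Fin m → F) :
    pairing q U hF v = 0 ↔ v ∈ perp q U := by
  rw [mem_perp]
  constructor
  · intro h u hu
    have h1 := LinearMap.congr_fun h ⟨u, hu⟩
    exact herm_eq_zero_swap hF h1
  · intro h
    ext u
    exact herm_eq_zero_swap hF (h u u.2)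

theorem card_dual (U : Submodule F (Fin m → F)) : Nat.card (U →ₗ[F] F) = Nat.card F ^ finrank F U := by
  have h1 : finrank F (U →ₗ[F] F) = finrank F U := Subspace.dual_finrank_eq
  rw [← h1]
  exact Module.natCard_eq_pow_finrank

include hF in
theorem finrank_perp (U : Submodule F (Fin m → F)) : m ≤ finrank F (perp q U) + finrank F U := by
  have h1 : Nat.card (Fin m → F) = Nat.card (pairing q U hF).ker * Nat.card (pairing q U hF).range := by
    rw [← (pairing q U hF).ker.card_mul_index, AddSubgroup.index_ker]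
  have h2 : Nat.card (pairing q U hF).ker = Nat.card F ^ finrank F (perp q U) := by
    rw [← Module.natCard_eq_pow_finrank]
    refine Nat.card_congr (Equiv.subtypeEquivRight fun v => ?_)
    exact (pairing_eq_zero_iff hF U v)
  have h3 : Nat.card (pairing q U hF).range ≤ Nat.card F ^ finrank F U := by
    rw [← card_dual]
    have : Finite (U →ₗ[F] F) := Module.finite_of_finite F
    exact Nat.card_le_card_of_injective _ Subtype.val_injective
  have h4 : Nat.card (Fin m → F) = Nat.card F ^ m := by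
    rw [Module.natCard_eq_pow_finrank (K := F), finrank_fin_fun]
  have h5 : 1 < Nat.card F := Finite.one_lt_card
  rw [h4, h2] at h1
  have h6 : Nat.card F ^ m ≤ Nat.card F ^ (finrank F (perp q U) + finrank F U) := by
    rw [h1, pow_add]
    exact Nat.mul_le_mul_left _ h3
  exact (Nat.pow_le_pow_iff_right h5).1 h6

end proj

end Cfsg.Agent.H38.NP
end

-- part: H38/NP/Proj
section
/-!
# An irreducible projection which is self-adjoint or orthogonal to its adjoint (helper38)
-/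

set_option autoImplicit false

namespace Cfsg.Agent.H38.NP

open Cfsg Module Cfsg.Agent.LieClassical.HermBasic
open scoped Matrix

variable {F : Type*} [Field F] [Fintype F] {m q : ℕ}

/-- the action -/
noncomputable def act (R : Subgroup (GL (Fin m) F)) : R →* Module.End F (Fin m → F) :=
  (Matrix.toLinAlgEquiv' : Matrix (Fin m) (Fin m) F ≃ₐ[F] _).toMulEquiv.toMonoidHom.comp
    ((Units.coeHom _).comp R.subtype)

theorem act_inv_apply (R : Subgroup (GL (Fin m) F)) (g : R) (v : Fin m → F) : act R g (act R g⁻¹ v) = v := by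
  rw [← Module.End.mul_apply, ← map_mul, mul_inv_cancel, map_one]
  rfl

/-- invariant subspaces -/
def IsInv (R : Subgroup (GL (Fin m) F)) (U : Submodule F (Fin m → F)) : Prop := ∀ g : R, ∀ u ∈ U, act R g u ∈ U

variable {R : Subgroup (GL (Fin m) F)}

theorem IsInv.inf {U U' : Submodule F (Fin m → F)} (h : IsInv R U) (h' : IsInv R U') : IsInv R (U ⊓ U') :=
  fun g u hu => ⟨h g u hu.1, h' g u hu.2⟩

/-- Maschke -/
theorem maschke (hc : (Nat.card R : F) ≠ 0) {U : Submodule F (Fin m → F)} (hU : IsInv R U) :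
    ∃ P : Module.End F (Fin m → F), (∀ v, P v ∈ U) ∧ (∀ u ∈ U, P u = u) ∧ ∀ g, P * act R g = act R g * P := by
  classical
  haveI : Fintype R := Fintype.ofFinite R
  obtain ⟨U', hUU'⟩ := U.exists_isCompl
  obtain ⟨P0, h0, h1⟩ : ∃ P0 : Module.End F (Fin m → F), (∀ v, P0 v ∈ U) ∧ ∀ u ∈ U, P0 u = u := by
    refine ⟨U.subtype ∘ₗ Submodule.projectionOnto U U' hUU', fun v => Submodule.coe_mem _, fun u hu => ?_⟩
    have := Submodule.projectionOnto_apply_left hUU' ⟨u, hu⟩
    show ((Submodule.projectionOnto U U' hUU' u : U) : Fin m → F) = u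
    rw [this]
  refine ⟨(Nat.card R : F)⁻¹ • ∑ g : R, act R g * P0 * act R g⁻¹, fun v => ?_, fun u hu => ?_, fun h => ?_⟩
  · rw [LinearMap.smul_apply, LinearMap.sum_apply]
    exact U.smul_mem _ (U.sum_mem fun g _ => hU g _ (h0 _))
  · rw [LinearMap.smul_apply, LinearMap.sum_apply]
    have h2 : ∀ g : R, (act R g * P0 * act R g⁻¹) u = u := by
      intro g
      rw [Module.End.mul_apply, Module.End.mul_apply, h1 _ (hU g⁻¹ u hu), act_inv_apply]
    rw [Finset.sum_congr rfl (fun g _ => h2 g), Finset.sum_const, Finset.card_univ, ← Nat.card_eq_fintype_card,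
      ← Nat.cast_smul_eq_nsmul F, smul_smul, inv_mul_cancel₀ hc, one_smul]
  · rw [smul_mul_assoc, mul_smul_comm, Finset.sum_mul, Finset.mul_sum]
    congr 1
    refine Fintype.sum_equiv (Equiv.mulLeft h⁻¹) _ _ fun g => ?_
    have e1 : act R h * act R (h⁻¹ * g) = act R g := by rw [← map_mul, mul_inv_cancel_left]
    have e2 : act R (h⁻¹ * g)⁻¹ = act R g⁻¹ * act R h := by rw [← map_mul, mul_inv_rev, inv_inv]
    rw [Equiv.coe_mulLeft, e2]
    calc act R g * P0 * act R g⁻¹ * act R h = act R g * P0 * (act R g⁻¹ * act R h) := by rw [mul_assoc]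
      _ = (act R h * act R (h⁻¹ * g)) * P0 * (act R g⁻¹ * act R h) := by rw [e1]
      _ = act R h * (act R (h⁻¹ * g) * P0 * (act R g⁻¹ * act R h)) := by simp only [mul_assoc]

section unitary

variable (hF : Fintype.card F = q ^ 2) (hU : R ≤ GU m F q)
include hF hU

omit hF in
theorem herm_act (g : R) (u v : Fin m → F) : hermForm m F q (act R g u) (act R g v) = hermForm m F q u v :=
  hU g.2 u v

theorem adj_act (g : R) : adj q (act R g) = act R g⁻¹ := by
  apply end_ext hF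
  intro u v
  rw [← herm_adj hF, ← herm_act hU g u, act_inv_apply]

omit hF in
theorem IsInv.perp {U : Submodule F (Fin m → F)} (h : IsInv R U) : IsInv R (perp q U) := by
  intro g v hv
  rw [mem_perp] at hv ⊢
  intro u hu
  have h1 := hv _ (h g⁻¹ u hu)
  rw [← herm_act hU g, act_inv_apply] at h1
  exact h1

/-- the projection -/
theorem exists_proj (hm : 0 < m) (hc : (Nat.card R : F) ≠ 0) :
    ∃ P : Module.End F (Fin m → F), P * P = P ∧ (∀ g, P * act R g = act R g * P) ∧ P ≠ 0 ∧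
      (∀ U, IsInv R U → U ≤ LinearMap.range P → U = ⊥ ∨ U = LinearMap.range P) ∧
      (adj q P = P ∨ (adj q P * P = 0 ∧ P * adj q P = 0)) := by
  classical
  -- a nonzero invariant subspace of least dimension
  have hex : ∃ n, ∃ U, IsInv R U ∧ U ≠ ⊥ ∧ finrank F U = n := by
    refine ⟨_, ⊤, fun g u _ => Submodule.mem_top, ?_, rfl⟩
    haveI : Nonempty (Fin m) := ⟨⟨0, hm⟩⟩
    exact top_ne_bot
  obtain ⟨W, hWi, hW0, hWd⟩ := Nat.find_spec hex
  have hmin : ∀ U, IsInv R U → U ≠ ⊥ → finrank F W ≤ finrank F U := by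
    intro U h1 h2
    rw [hWd]
    exact Nat.find_min' hex ⟨U, h1, h2, rfl⟩
  -- minimality
  have hirr : ∀ W' : Submodule F (Fin m → F), finrank F W' ≤ finrank F W → ∀ U, IsInv R U → U ≤ W' → U = ⊥ ∨ U = W' := by
    intro W' hW' U h1 h2
    by_cases h0 : U = ⊥
    · exact Or.inl h0
    · right
      exact Submodule.eq_of_le_of_finrank_le h2 (hW'.trans (hmin U h1 h0))
  -- a nondegenerate subspace of least dimension
  have key : ∀ W' : Submodule F (Fin m → F), IsInv R W' → W' ≠ ⊥ → finrank F W' ≤ finrank F W → W' ⊓ NP.perp q W' = ⊥ →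
      ∃ P : Module.End F (Fin m → F), P * P = P ∧ (∀ g, P * act R g = act R g * P) ∧ P ≠ 0 ∧
      (∀ U, IsInv R U → U ≤ LinearMap.range P → U = ⊥ ∨ U = LinearMap.range P) ∧
      (adj q P = P ∨ (adj q P * P = 0 ∧ P * adj q P = 0)) := by
    intro W' hi h0 hd hnd
    have hcompl : IsCompl W' (NP.perp q W') := by
      refine ⟨disjoint_iff.2 hnd, codisjoint_iff.2 ?_⟩
      apply Submodule.eq_top_of_finrank_eq
      have h1 := Submodule.finrank_sup_add_finrank_inf_eq W' (NP.perp q W')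
      rw [hnd, finrank_bot, add_zero] at h1
      have h2 := finrank_perp hF W'
      have h3 := Submodule.finrank_le (W' ⊔ NP.perp q W')
      rw [finrank_fin_fun] at h3 ⊢
      omega
    obtain ⟨P, hP⟩ : ∃ P : Module.End F (Fin m → F), P = W'.subtype ∘ₗ Submodule.projectionOnto W' _ hcompl :=
      ⟨_, rfl⟩
    have hPW : ∀ v, P v ∈ W' := fun v => by
      rw [hP]
      exact Submodule.coe_mem _
    have hP1 : ∀ u ∈ W', P u = u := fun u hu => by
      have := Submodule.projectionOnto_apply_left hcompl ⟨u, hu⟩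
      rw [hP]
      show ((Submodule.projectionOnto W' _ hcompl u : W') : Fin m → F) = u
      rw [this]
    have hP0 : ∀ u ∈ NP.perp q W', P u = 0 := fun u hu => by
      have := Submodule.projectionOnto_apply_right hcompl ⟨u, hu⟩
      rw [hP]
      show ((Submodule.projectionOnto W' _ hcompl u : W') : Fin m → F) = 0
      rw [this]
      rfl
    have hdec : ∀ v, v - P v ∈ NP.perp q W' := by
      intro v
      have h1 : v ∈ W' ⊔ NP.perp q W' := by
        rw [codisjoint_iff.1 hcompl.2]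
        exact Submodule.mem_top
      obtain ⟨a, ha, b, hb, rfl⟩ := Submodule.mem_sup.1 h1
      rw [map_add, hP1 a ha, hP0 b hb, add_zero, add_sub_cancel_left]
      exact hb
    have hrange : LinearMap.range P = W' := by
      apply le_antisymm
      · rintro _ ⟨v, rfl⟩
        exact hPW v
      · intro u hu
        exact ⟨u, hP1 u hu⟩
    refine ⟨P, ?_, ?_, ?_, ?_, Or.inl ?_⟩
    · ext1 i
      ext1
      show P (P _) = P _
      exact hP1 _ (hPW _)
    · intro g
      refine LinearMap.ext fun v => ?_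
      rw [Module.End.mul_apply, Module.End.mul_apply]
      have h1 : act R g v = act R g (P v) + act R g (v - P v) := by rw [← map_add, add_sub_cancel]
      rw [h1, map_add, hP1 _ (hi g _ (hPW v)), hP0 _ (IsInv.perp hU hi g _ (hdec v)), add_zero]
    · intro h1
      apply h0
      rw [← hrange, h1, LinearMap.range_zero]
    · intro U h1 h2
      rw [hrange] at h2 ⊢
      exact hirr W' hd U h1 h2
    · apply end_ext hF
      intro u v
      rw [← herm_adj hF]
      have h1 : hermForm m F q (P u) (v - P v) = 0 :=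
        herm_eq_zero_swap hF (hdec v _ (hPW u))
      have h2 : hermForm m F q (u - P u) (P v) = 0 := hdec u _ (hPW v)
      rw [herm_sub_right hF, sub_eq_zero] at h1
      rw [herm_sub_left, sub_eq_zero] at h2
      rw [h1, h2]
  obtain ⟨P, hPW, hP1, hPc⟩ := maschke hc hWi
  have hrange : LinearMap.range P = W := by
    apply le_antisymm
    · rintro _ ⟨v, rfl⟩
      exact hPW v
    · intro u hu
      exact ⟨u, hP1 u hu⟩
  have hPP : P * P = P := LinearMap.ext fun v => hP1 _ (hPW v)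
  have hPne : P ≠ 0 := by
    intro h1
    apply hW0
    rw [← hrange, h1, LinearMap.range_zero]
  -- the dual subspace
  obtain ⟨W', hW'⟩ : ∃ W', W' = LinearMap.range (adj q P) := ⟨_, rfl⟩
  have hQQ : adj q P * adj q P = adj q P := by rw [← adj_mul hF, hPP]
  have hQc : ∀ g, adj q P * act R g = act R g * adj q P := by
    intro g
    have h1 := congrArg (adj q) (hPc g⁻¹)
    rw [adj_mul hF, adj_mul hF, adj_act hF hU, inv_inv] at h1
    exact h1.symm
  have hW'i : IsInv R W' := by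
    rintro g _ hu
    rw [hW'] at hu ⊢
    obtain ⟨v, rfl⟩ := hu
    refine ⟨act R g v, ?_⟩
    rw [← Module.End.mul_apply, hQc, Module.End.mul_apply]
  have hW'0 : W' ≠ ⊥ := by
    intro h1
    rw [hW', LinearMap.range_eq_bot] at h1
    apply hPne
    rw [← adj_adj hF P, h1, adj_zero hF]
  have hW'd : finrank F W' ≤ finrank F W := by
    have h1 : Nat.card W' ≤ Nat.card (W →ₗ[F] F) := by
      have : Finite (W →ₗ[F] F) := Module.finite_of_finite F
      refine Nat.card_le_card_of_injective (fun w => pairing q W hF (w : Fin m → F)) ?_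
      intro a b hab
      apply Subtype.ext
      rw [← sub_eq_zero]
      have h2 : pairing q W hF ((a : Fin m → F) - b) = 0 := by
        rw [map_sub]
        exact sub_eq_zero.2 hab
      rw [pairing_eq_zero_iff, mem_perp] at h2
      have h3 : adj q P ((a : Fin m → F) - b) = (a : Fin m → F) - b := by
        have h4 : ∀ w ∈ W', adj q P w = w := by
          intro w hw
          rw [hW'] at hw
          obtain ⟨v, rfl⟩ := hw
          rw [← Module.End.mul_apply, hQQ]
        exact h4 _ (W'.sub_mem a.2 b.2)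
      apply herm_nondeg hF
      intro v
      rw [← h3, herm_adj' hF]
      exact h2 _ (hPW v)
    rw [card_dual, Module.natCard_eq_pow_finrank (K := F)] at h1
    exact (Nat.pow_le_pow_iff_right Finite.one_lt_card).1 h1
  by_cases hnd : W ⊓ NP.perp q W = ⊥
  · exact key W hWi hW0 le_rfl hnd
  by_cases hnd' : W' ⊓ NP.perp q W' = ⊥
  · exact key W' hW'i hW'0 hW'd hnd'
  -- both are totally isotropic
  have hti : ∀ u ∈ W, ∀ v ∈ W, hermForm m F q u v = 0 := by
    intro u hu v hv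
    have h1 := (hirr W le_rfl _ (hWi.inf (IsInv.perp hU hWi)) inf_le_left).resolve_left hnd
    have h2 : u ∈ W ⊓ NP.perp q W := by rw [h1]; exact hu
    exact h2.2 v hv
  have hti' : ∀ u ∈ W', ∀ v ∈ W', hermForm m F q u v = 0 := by
    intro u hu v hv
    have h1 := (hirr W' hW'd _ (hW'i.inf (IsInv.perp hU hW'i)) inf_le_left).resolve_left hnd'
    have h2 : u ∈ W' ⊓ NP.perp q W' := by rw [h1]; exact hu
    exact h2.2 v hv
  refine ⟨P, hPP, hPc, hPne, ?_, Or.inr ⟨?_, ?_⟩⟩
  · intro U h1 h2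
    rw [hrange] at h2 ⊢
    exact hirr W le_rfl U h1 h2
  · apply end_ext hF
    intro u v
    rw [Module.End.mul_apply, ← herm_adj hF, hti _ (hPW u) _ (hPW v), LinearMap.zero_apply, herm_zero_right hF]
  · apply end_ext hF
    intro u v
    rw [Module.End.mul_apply, ← herm_adj' hF, LinearMap.zero_apply, herm_zero_right hF]
    refine hti' _ ?_ _ ?_
    · rw [hW']; exact ⟨u, rfl⟩
    · rw [hW']; exact ⟨v, rfl⟩

end unitary

end Cfsg.Agent.H38.NP
end

-- part: H38/NP/Claim
section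
/-!
# The determinants of the centralizer of an `r`-subgroup of `GU_m(q)` (helper38)
-/

set_option autoImplicit false

namespace Cfsg.Agent.H38.NP

open Cfsg Module Cfsg.Agent.LieClassical.HermBasic
open Cfsg.Agent.H907 (ct herm_ct ct_mul ct_ct ext_of_herm mem_GU_iff_ct)
open scoped Matrix

variable {F : Type*} [Field F] [Fintype F] {m q : ℕ}

/-- Hilbert 90 -/
theorem hilbert90 (hF : Fintype.card F = q ^ 2) {ν : F} (h : ν ^ (q + 1) = 1) : ∃ μ : F, μ ≠ 0 ∧ μ = ν * μ ^ q := by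
  by_cases h1 : 1 + ν = 0
  · obtain ⟨t, ht⟩ := exists_not_fixed hF
    have h2 : ν = -1 := by linear_combination h1
    refine ⟨t - t ^ q, sub_ne_zero.2 (Ne.symm ht), ?_⟩
    rw [sub_pow_q hF, pow_q_pow_q hF, h2]
    ring
  · refine ⟨1 + ν, h1, ?_⟩
    rw [add_pow_q hF, one_pow, mul_add, ← pow_succ', h, mul_one, add_comm]

theorem toMatrix'_act (R : Subgroup (GL (Fin m) F)) (g : R) :
    LinearMap.toMatrix' (act R g) = ((g : GL (Fin m) F) : Matrix (Fin m) (Fin m) F) :=
  LinearMap.toMatrix'_toLin' _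

/-- The element `x y⁻¹`, `y` the adjoint of `x` -/
theorem exists_quot (hF : Fintype.card F = q ^ 2) {R : Subgroup (GL (Fin m) F)} (hU : R ≤ GU m F q)
    {x : Module.End F (Fin m → F)} (hx : ∀ g, x * act R g = act R g * x) (hxy : x * adj q x = adj q x * x)
    (hdet : LinearMap.det x ≠ 0) :
    ∃ c ∈ GU m F q, (∀ g ∈ R, c * g = g * c) ∧
      ((c : GL (Fin m) F) : Matrix (Fin m) (Fin m) F).det * LinearMap.det x ^ q = LinearMap.det x := by
  obtain ⟨y, hy⟩ : ∃ y, y = adj q x := ⟨_, rfl⟩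
  have hyx : adj q y = x := by rw [hy, adj_adj hF]
  have hyc : ∀ g, y * act R g = act R g * y := by
    intro g
    have h1 := congrArg (adj q) (hx g⁻¹)
    rw [adj_mul hF, adj_mul hF, adj_act hF hU, inv_inv, ← hy] at h1
    exact h1.symm
  have hdety : LinearMap.det y = LinearMap.det x ^ q := by rw [hy, det_adj hF]
  have hdety0 : LinearMap.det y ≠ 0 := by
    rw [hdety]
    exact pow_ne_zero _ hdet
  rw [← hy] at hxy
  have hXd : (LinearMap.toMatrix' x).det ≠ 0 := by rwa [LinearMap.det_toMatrix']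
  have hYd : (LinearMap.toMatrix' y).det ≠ 0 := by rwa [LinearMap.det_toMatrix']
  obtain ⟨X, hX⟩ : ∃ X : GL (Fin m) F, (X : Matrix (Fin m) (Fin m) F) = LinearMap.toMatrix' x :=
    ⟨Matrix.GeneralLinearGroup.mkOfDetNeZero _ hXd, rfl⟩
  obtain ⟨Y, hY⟩ : ∃ Y : GL (Fin m) F, (Y : Matrix (Fin m) (Fin m) F) = LinearMap.toMatrix' y :=
    ⟨Matrix.GeneralLinearGroup.mkOfDetNeZero _ hYd, rfl⟩
  have hXv : ∀ v, (X : Matrix (Fin m) (Fin m) F) *ᵥ v = x v := fun v => by
    rw [hX]
    exact LinearMap.toMatrix'_mulVec x v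
  have hYv : ∀ v, (Y : Matrix (Fin m) (Fin m) F) *ᵥ v = y v := fun v => by
    rw [hY]
    exact LinearMap.toMatrix'_mulVec y v
  have hXg : ∀ g ∈ R, X * g = g * X := by
    intro g hg
    apply Units.ext
    have h1 := congrArg LinearMap.toMatrix' (hx ⟨g, hg⟩)
    rw [LinearMap.toMatrix'_mul, LinearMap.toMatrix'_mul, toMatrix'_act, ← hX] at h1
    exact h1
  have hYg : ∀ g ∈ R, Y * g = g * Y := by
    intro g hg
    apply Units.ext
    have h1 := congrArg LinearMap.toMatrix' (hyc ⟨g, hg⟩)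
    rw [LinearMap.toMatrix'_mul, LinearMap.toMatrix'_mul, toMatrix'_act, ← hY] at h1
    exact h1
  have hXY : X * Y = Y * X := by
    apply Units.ext
    have h1 := congrArg LinearMap.toMatrix' hxy
    rw [LinearMap.toMatrix'_mul, LinearMap.toMatrix'_mul, ← hX, ← hY] at h1
    exact h1
  refine ⟨X * Y⁻¹, ?_, ?_, ?_⟩
  · intro u v
    have h1 : ∀ w : Fin m → F, ((X * Y⁻¹ : GL (Fin m) F) : Matrix (Fin m) (Fin m) F) *ᵥ w =
        x ((Y⁻¹ : GL (Fin m) F).1 *ᵥ w) := by
      intro w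
      rw [← hXv, Matrix.mulVec_mulVec]
      rfl
    have h2 : ∀ w : Fin m → F, y ((Y⁻¹ : GL (Fin m) F).1 *ᵥ w) = w := by
      intro w
      rw [← hYv, Matrix.mulVec_mulVec, Units.mul_inv, Matrix.one_mulVec]
    show hermForm m F q (((X * Y⁻¹ : GL (Fin m) F) : Matrix (Fin m) (Fin m) F) *ᵥ u)
      (((X * Y⁻¹ : GL (Fin m) F) : Matrix (Fin m) (Fin m) F) *ᵥ v) = _
    rw [h1, h1]
    conv_rhs => rw [← h2 u, ← h2 v]
    rw [herm_adj hF, ← hy]
    have h3 : y (x ((Y⁻¹ : GL (Fin m) F).1 *ᵥ v)) = x (y ((Y⁻¹ : GL (Fin m) F).1 *ᵥ v)) :=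
      LinearMap.congr_fun hxy.symm _
    rw [h3, ← herm_adj' hF, ← hy]
  · intro g hg
    rw [mul_assoc]
    have h1 : Y⁻¹ * g = g * Y⁻¹ := by
      rw [inv_mul_eq_iff_eq_mul, ← mul_assoc, hYg g hg, mul_assoc, mul_inv_cancel, mul_one]
    rw [h1, ← mul_assoc, hXg g hg, mul_assoc]
  · have h1 : (X * Y⁻¹) * Y = X := by group
    have h2 := congrArg (fun g : GL (Fin m) F => (g : Matrix (Fin m) (Fin m) F).det) h1
    simp only [Units.val_mul, Matrix.det_mul] at h2
    rw [hX, hY, LinearMap.det_toMatrix', LinearMap.det_toMatrix', hdety] at h2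
    simp only [Units.val_mul, Matrix.det_mul, hX, LinearMap.det_toMatrix']
    exact h2

/-- The determinants of the centralizer of an `r`-subgroup -/
theorem exists_cent (hF : Fintype.card F = q ^ 2) (hm : 0 < m) {r s b : ℕ} [Fact r.Prime] (hr2 : r ≠ 2) (hs : s.Prime)
    (hrs : r ≠ s) (hrF : (r : F) ≠ 0) {R : Subgroup (GL (Fin m) F)} (hU : R ≤ GU m F q) (hR : IsPGroup r R) {l : F}
    (h1 : l ^ (q + 1) = 1) (h2 : l ^ (s ^ b) = 1) :
    ∃ c ∈ GU m F q, (∀ g ∈ R, c * g = g * c) ∧ ((c : GL (Fin m) F) : Matrix (Fin m) (Fin m) F).det = l := by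
  classical
  have hr : r.Prime := Fact.out
  have hcard : (Nat.card R : F) ≠ 0 := by
    obtain ⟨n, hn⟩ := IsPGroup.iff_card.1 hR
    rw [hn, Nat.cast_pow]
    exact pow_ne_zero _ hrF
  obtain ⟨P, hPP, hPc, hP0, hPirr, hPadj⟩ := exists_proj hF hU hm hcard
  obtain ⟨W, hW⟩ : ∃ W, W = LinearMap.range P := ⟨_, rfl⟩
  have hPW : ∀ v, P v ∈ W := fun v => by rw [hW]; exact ⟨v, rfl⟩
  have hPw : ∀ w ∈ W, P w = w := by
    intro w hw
    rw [hW] at hw
    obtain ⟨v, rfl⟩ := hw
    rw [← Module.End.mul_apply, hPP]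
  have hWi : ∀ g : R, ∀ w ∈ W, act R g w ∈ W := by
    intro g w hw
    rw [← hPw w hw, ← Module.End.mul_apply, ← hPc, Module.End.mul_apply]
    exact hPW _
  let ρ : R →* Module.End F W :=
    { toFun := fun g => (act R g).restrict (hWi g)
      map_one' := by
        ext w
        show (act R 1 w : Fin m → F) _ = _
        rw [map_one]
        rfl
      map_mul' := fun g h => by
        refine LinearMap.ext fun w => Subtype.ext ?_
        show (act R (g * h) w : Fin m → F) = act R g (act R h w)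
        rw [map_mul]
        rfl }
  have hρ : ∀ (g : R) (w : W), ((ρ g w : W) : Fin m → F) = act R g w := fun g w => rfl
  haveI : Nontrivial W := by
    rw [Submodule.nontrivial_iff_ne_bot, hW]
    intro h
    exact hP0 (LinearMap.range_eq_bot.1 h)
  have hirr : ∀ U : Submodule F W, (∀ g, ∀ u ∈ U, ρ g u ∈ U) → U = ⊥ ∨ U = ⊤ := by
    intro U hUi
    rcases hPirr (U.map W.subtype) (by
      rintro g _ ⟨u, hu, rfl⟩
      exact ⟨ρ g u, hUi g u hu, rfl⟩) (by
      rw [← hW]
      exact Submodule.map_subtype_le W U) with h | h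
    · left
      rw [eq_bot_iff]
      intro u hu
      have h3 : (u : Fin m → F) ∈ U.map W.subtype := ⟨u, hu, rfl⟩
      rw [h, Submodule.mem_bot] at h3
      exact Subtype.ext h3
    · right
      rw [eq_top_iff]
      intro w _
      have h3 : (w : Fin m → F) ∈ U.map W.subtype := by
        rw [h, ← hW]
        exact w.2
      obtain ⟨u, hu, huw⟩ := h3
      have h4 : u = w := Subtype.ext huw
      rwa [← h4]
  obtain ⟨hcomm, i, hi⟩ := exists_det hr2 hR ρ hirr
  -- the number `ν`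
  obtain ⟨ν, hν1, hν2⟩ : ∃ ν : F, ν ^ (q + 1) = 1 ∧ ν ^ (r ^ i) = l := by
    have hl : orderOf l ∣ s ^ b := orderOf_dvd_of_pow_eq_one h2
    have hco : (r ^ i).Coprime (orderOf l) :=
      Nat.Coprime.coprime_dvd_right hl (Nat.Coprime.pow _ _ ((Nat.coprime_primes hr hs).2 hrs))
    obtain ⟨n, hn⟩ := exists_pow_eq_self_of_coprime hco
    refine ⟨l ^ n, ?_, ?_⟩
    · rw [← pow_mul, mul_comm, pow_mul, h1, one_pow]
    · rw [← pow_mul, mul_comm, pow_mul, hn]
  obtain ⟨μ, hμ0, hμ⟩ := hilbert90 hF hν1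
  obtain ⟨a, hac, hadet⟩ := hi μ
  -- the endomorphism `w`
  have hPr : ∀ v, (P v : Fin m → F) ∈ W := hPW
  obtain ⟨w, hw⟩ : ∃ w : Module.End F (Fin m → F), w = W.subtype ∘ₗ (a - 1) ∘ₗ P.codRestrict W hPW := ⟨_, rfl⟩
  have hwv : ∀ v, w v = ((a ⟨P v, hPW v⟩ : W) : Fin m → F) - P v := fun v => by rw [hw]; rfl
  have hPwe : P * w = w := by
    refine LinearMap.ext fun v => ?_
    rw [Module.End.mul_apply, hwv]
    exact hPw _ (W.sub_mem (Submodule.coe_mem _) (hPW v))
  have hwP : w * P = w := by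
    refine LinearMap.ext fun v => ?_
    have h3 : P (P v) = P v := hPw _ (hPW v)
    rw [Module.End.mul_apply, hwv, hwv]
    simp only [h3]
  have hwc : ∀ g, w * act R g = act R g * w := by
    intro g
    refine LinearMap.ext fun v => ?_
    rw [Module.End.mul_apply, Module.End.mul_apply, hwv, hwv, map_sub]
    have h3 : P (act R g v) = act R g (P v) := LinearMap.congr_fun (hPc g) v
    have h4 : (⟨P (act R g v), hPW _⟩ : W) = ρ g ⟨P v, hPW v⟩ := Subtype.ext h3
    have h5 := congrArg (Subtype.val) (LinearMap.congr_fun (hac g) ⟨P v, hPW v⟩)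
    rw [h4, h3]
    congr 1
  have hW'c : ∀ g, adj q w * act R g = act R g * adj q w := by
    intro g
    have h3 := congrArg (adj q) (hwc g⁻¹)
    rw [adj_mul hF, adj_mul hF, adj_act hF hU, inv_inv] at h3
    exact h3.symm
  have hww : w * adj q w = adj q w * w := by
    rcases hPadj with hA | ⟨hA, hB⟩
    · have e1 : P * adj q w = adj q w := by
        have h3 := congrArg (adj q) hwP
        rwa [adj_mul hF, hA] at h3
      have e2 : adj q w * P = adj q w := by
        have h3 := congrArg (adj q) hPwe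
        rwa [adj_mul hF, hA] at h3
      -- an endomorphism with `P z = z P = z` commuting with the action restricts to `W`
      have hres : ∀ z : Module.End F (Fin m → F), P * z = z → (∀ g, z * act R g = act R g * z) →
          ∃ z' : Module.End F W, (∀ g, z' * ρ g = ρ g * z') ∧ ∀ u : W, ((z' u : W) : Fin m → F) = z u := by
        intro z hz hzc
        have h3 : ∀ u ∈ W, z u ∈ W := by
          intro u _
          rw [← hz, Module.End.mul_apply]
          exact hPW _
        refine ⟨z.restrict h3, fun g => ?_, fun u => rfl⟩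
        refine LinearMap.ext fun u => Subtype.ext ?_
        exact LinearMap.congr_fun (hzc g) u
      obtain ⟨z1, hz1c, hz1⟩ := hres w hPwe hwc
      obtain ⟨z2, hz2c, hz2⟩ := hres (adj q w) e1 hW'c
      have h3 := hcomm z1 z2 hz1c hz2c
      have h4 : ∀ v, (w * adj q w) v = ((z1 * z2) ⟨P v, hPW v⟩ : W) := by
        intro v
        rw [Module.End.mul_apply, Module.End.mul_apply, hz1, hz2]
        show _ = w (adj q w (P v))
        rw [← Module.End.mul_apply (adj q w) P, e2]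
      have h5 : ∀ v, (adj q w * w) v = ((z2 * z1) ⟨P v, hPW v⟩ : W) := by
        intro v
        rw [Module.End.mul_apply, Module.End.mul_apply, hz2, hz1]
        show _ = adj q w (w (P v))
        rw [← Module.End.mul_apply w P, hwP]
      refine LinearMap.ext fun v => ?_
      rw [h4, h5, h3]
    · have e1 : w * adj q w = 0 := by
        have h3 : adj q w = adj q P * adj q w := by rw [← adj_mul hF, hwP]
        rw [h3, ← hwP, mul_assoc, ← mul_assoc P, hB, zero_mul, mul_zero]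
      have e2 : adj q w * w = 0 := by
        have h3 : adj q w = adj q w * adj q P := by rw [← adj_mul hF, hPwe]
        rw [h3, ← hPwe, mul_assoc, ← mul_assoc (adj q P), hA, zero_mul, mul_zero]
      rw [e1, e2]
  have hxc : ∀ g, (1 + w) * act R g = act R g * (1 + w) := by
    intro g
    rw [add_mul, mul_add, hwc g, one_mul, mul_one]
  have hxy : (1 + w) * adj q (1 + w) = adj q (1 + w) * (1 + w) := by
    rw [adj_add hF, adj_one hF]
    rw [add_mul, mul_add, mul_add, add_mul, mul_add, mul_add, hww]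
    simp only [one_mul, mul_one]
    abel
  have hdet : LinearMap.det (1 + w) = μ ^ (r ^ i) := by
    have h3 : W ≤ W.comap (1 + w) := by
      intro u hu
      rw [Submodule.mem_comap, LinearMap.add_apply, Module.End.one_apply]
      refine W.add_mem hu ?_
      rw [hwv]
      exact W.sub_mem (Submodule.coe_mem _) (hPW u)
    rw [LinearMap.det_eq_det_mul_det W (1 + w) h3, ← hadet]
    have h4 : (1 + w).restrict h3 = a := by
      refine LinearMap.ext fun u => Subtype.ext ?_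
      show (u : Fin m → F) + w u = a u
      rw [hwv]
      have h5 : (⟨P u, hPW u⟩ : W) = u := Subtype.ext (hPw u u.2)
      rw [h5, hPw u u.2, add_sub_cancel]
    have h5 : W.mapQ W (1 + w) h3 = LinearMap.id := by
      refine Submodule.linearMap_qext _ ?_
      refine LinearMap.ext fun v => ?_
      show Submodule.Quotient.mk (v + w v) = Submodule.Quotient.mk v
      rw [Submodule.Quotient.eq, add_sub_cancel_left, hwv]
      exact W.sub_mem (Submodule.coe_mem _) (hPW v)
    rw [h4, h5, LinearMap.det_id, mul_one]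
  obtain ⟨c, hc, hcR, hcd⟩ := exists_quot hF hU hxc hxy (by rw [hdet]; exact pow_ne_zero _ hμ0)
  refine ⟨c, hc, hcR, ?_⟩
  rw [hdet] at hcd
  have h6 : l * (μ ^ (r ^ i)) ^ q = μ ^ (r ^ i) := by
    rw [← hν2, ← pow_mul, mul_comm (r ^ i) q, pow_mul, ← mul_pow, ← hμ]
  have h7 : (μ ^ (r ^ i)) ^ q ≠ 0 := pow_ne_zero _ (pow_ne_zero _ hμ0)
  exact mul_right_cancel₀ h7 (hcd.trans h6.symm)

end Cfsg.Agent.H38.NP
end

-- part: H38/NP/Main
section
/-!
# Nilpotent `π`-subgroups of `GU_m(q)` (helper38)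
-/

set_option autoImplicit false

namespace Cfsg.Agent.H38.NP

open Cfsg Subgroup Cfsg.Agent.H988.CPi
open Cfsg.Agent.H907 (ct mem_GU_iff_ct)
open scoped Matrix

/-- a finite group is nilpotent if the elements of prime power order centralize the `r`-subgroups which they normalize -/
theorem isNilpotent_of_local {G : Type*} [Group G] [Finite G]
    (h : ∀ r s b : ℕ, r.Prime → s.Prime → r ≠ s → ∀ R : Subgroup G, IsPGroup r R → ∀ y ∈ normalizer (R : Set G),
      y ^ (s ^ b) = 1 → y ∈ centralizer (R : Set G)) : Group.IsNilpotent G := by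
  classical
  -- elements of order prime to `r`
  have h1 : ∀ r : ℕ, r.Prime → ∀ R : Subgroup G, IsPGroup r R → ∀ g ∈ normalizer (R : Set G),
      Nat.Coprime (orderOf g) r → g ∈ centralizer (R : Set G) := by
    intro r hr R hR g hg hco
    have hex : ∃ n, 0 < n ∧ g ^ n ∈ centralizer (R : Set G) :=
      ⟨orderOf g, orderOf_pos g, by rw [pow_orderOf_eq_one]; exact one_mem _⟩
    obtain ⟨hn0, hn⟩ := Nat.find_spec hex
    obtain ⟨n, hndef⟩ : ∃ n, n = Nat.find hex := ⟨_, rfl⟩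
    rw [← hndef] at hn0 hn
    have hmin : ∀ k, 0 < k → g ^ k ∈ centralizer (R : Set G) → n ≤ k := by
      intro k hk hk'
      rw [hndef]
      exact Nat.find_min' hex ⟨hk, hk'⟩
    -- divisibility
    have hdvd : ∀ k, g ^ k ∈ centralizer (R : Set G) → n ∣ k := by
      intro k hk
      rw [Nat.dvd_iff_mod_eq_zero]
      by_contra h0
      have h2 : g ^ (k % n) ∈ centralizer (R : Set G) := by
        have h3 : g ^ (k % n) = g ^ k * (g ^ n ^ 1) ^ (0 : ℕ) * ((g ^ n) ^ (k / n))⁻¹ := by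
          rw [pow_zero, mul_one, eq_mul_inv_iff_mul_eq, ← pow_mul, ← pow_add, Nat.mod_add_div]
        rw [h3, pow_zero, mul_one]
        exact mul_mem hk (inv_mem (pow_mem hn _))
      have h3 := hmin _ (Nat.pos_of_ne_zero h0) h2
      have h4 := Nat.mod_lt k hn0
      omega
    by_cases hn1 : n = 1
    · rw [hn1, pow_one] at hn
      exact hn
    exfalso
    obtain ⟨s, hs, hsn⟩ := Nat.exists_prime_and_dvd hn1
    have hso : s ∣ orderOf g := hsn.trans (hdvd _ (by rw [pow_orderOf_eq_one]; exact one_mem _))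
    have hrs : r ≠ s := by
      rintro rfl
      have h2 := Nat.dvd_gcd hso dvd_rfl
      rw [Nat.coprime_iff_gcd_eq_one.1 hco] at h2
      exact hr.one_lt.ne' (Nat.dvd_one.1 h2)
    obtain ⟨b, t, hst, hot⟩ := Nat.exists_eq_pow_mul_and_not_dvd (orderOf_pos g).ne' s hs.ne_one
    have h2 := h r s b hr hs hrs R hR (g ^ t) (pow_mem hg t) (by
      rw [← pow_mul, mul_comm, ← hot, pow_orderOf_eq_one])
    exact hst (hsn.trans (hdvd t h2))
  -- the normal complements
  refine ((Group.isNilpotent_of_finite_tfae (G := G)).out 0 3).2 ?_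
  intro p hp P
  have hN : ∀ r : ℕ, r.Prime → ∃ N : Subgroup G, N.Normal ∧ ¬ r ∣ Nat.card N ∧ ∀ x : G, Nat.Coprime (orderOf x) r → x ∈ N := by
    intro r hr
    haveI : Fact r.Prime := ⟨hr⟩
    obtain ⟨S⟩ : Nonempty (Sylow r G) := inferInstance
    obtain ⟨N, hNn, hNc⟩ := (Cfsg.Agent.S0071.result S).2 fun Q hQ g hg hco =>
      h1 r hr Q (S.2.to_le hQ) g hg hco
    have h2 := hNc.symm.index_eq_card
    have h3 : Nat.card N = (S : Subgroup G).index := hNc.index_eq_card.symm
    refine ⟨N, hNn, ?_, fun x hx => ?_⟩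
    · rw [h3]
      exact S.not_dvd_index
    · obtain ⟨k, hk⟩ := IsPGroup.iff_card.1 S.2
      rw [hk] at h2
      have h4 : orderOf (x : G ⧸ N) ∣ r ^ k := by
        rw [← h2, Subgroup.index_eq_card]
        exact orderOf_dvd_natCard _
      have h5 : orderOf (x : G ⧸ N) ∣ orderOf x := orderOf_map_dvd (QuotientGroup.mk' N) x
      have h6 := Nat.dvd_gcd h5 h4
      rw [Nat.coprime_iff_gcd_eq_one.1 (Nat.Coprime.pow_right k hx)] at h6
      rw [← QuotientGroup.eq_one_iff, ← orderOf_eq_one_iff]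
      exact Nat.dvd_one.1 h6
  choose! N hNn hNr hNx using hN
  -- the intersection of the complements
  obtain ⟨D, hD⟩ : ∃ D : Subgroup G, D = ⨅ r : {r : ℕ // r.Prime ∧ r ≠ p}, N r.1 := ⟨_, rfl⟩
  have hDn : D.Normal := by
    rw [hD]
    haveI : ∀ r : {r : ℕ // r.Prime ∧ r ≠ p}, (N r.1).Normal := fun r => hNn r.1 r.2.1
    exact Subgroup.normal_iInf_normal inferInstance
  have hDP : IsPGroup p D := by
    refine IsPGroup.of_card (Nat.eq_prime_pow_of_unique_prime_dvd Nat.card_pos.ne' ?_)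
    intro r hr hrD
    by_contra hrp
    apply hNr r hr
    refine hrD.trans (card_dvd_of_le ?_)
    rw [hD]
    exact iInf_le (fun r : {r : ℕ // r.Prime ∧ r ≠ p} => N r.1) ⟨r, hr, hrp⟩
  have hPD : (P : Subgroup G) ≤ D := by
    intro x hx
    rw [hD, Subgroup.mem_iInf]
    rintro ⟨r, hr, hrp⟩
    apply hNx r hr
    obtain ⟨k, hk⟩ := P.2 ⟨x, hx⟩
    have h2 : x ^ p ^ k = 1 := congrArg Subtype.val hk
    exact Nat.Coprime.coprime_dvd_left (orderOf_dvd_of_pow_eq_one h2)
      (Nat.Coprime.pow_left _ ((Nat.coprime_primes hp.out hr).2 hrp.symm))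
  have h2 := P.3 hDP hPD
  rw [← h2]
  exact hDn

/-- order of a product `HN` with `H` normalizing `N` -/
theorem card_sup_dvd {G : Type*} [Group G] (H N : Subgroup G) (h : H ≤ normalizer (N : Set G)) :
    Nat.card ↥(H ⊔ N) ∣ Nat.card H * Nat.card N := by
  let _ := Subgroup.normal_subgroupOf_of_le_normalizer h
  let _ := Subgroup.normal_subgroupOf_sup_of_le_normalizer h
  have e := (QuotientGroup.quotientInfEquivProdNormalizerQuotient H N h).toEquiv
  have h1 : (N.subgroupOf H).index = (N.subgroupOf (H ⊔ N)).index := Nat.card_congr e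
  have h2 := Subgroup.card_mul_index (N.subgroupOf (H ⊔ N))
  rw [Nat.card_congr (Subgroup.subgroupOfEquivOfLe (le_sup_right : N ≤ H ⊔ N)).toEquiv, ← h1] at h2
  rw [← h2, mul_comm]
  exact Nat.mul_dvd_mul (Subgroup.index_dvd_card _) dvd_rfl

theorem det_pow_succ {F : Type*} [Field F] [Fintype F] {m q : ℕ} (hF : Fintype.card F = q ^ 2) {g : GL (Fin m) F}
    (hg : g ∈ GU m F q) : (g : Matrix (Fin m) (Fin m) F).det ^ (q + 1) = 1 := by
  have h1 := (mem_GU_iff_ct hF).1 hg
  have h2 := congrArg Matrix.det h1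
  have h3 : ct q (g : Matrix (Fin m) (Fin m) F) =
      ((LieClassical.HermBasic.conj hF).toRingHom.mapMatrix (g : Matrix (Fin m) (Fin m) F))ᵀ := by
    ext i j
    rfl
  rw [Matrix.det_mul, h3, Matrix.det_transpose, ← RingHom.map_det, Matrix.det_one] at h2
  rw [pow_succ]
  exact h2

variable {π : Set ℕ}

/-- **nilpotent `π`-subgroups** -/
theorem nil_gu {F : Type} [Field F] [Fintype F] {m q : ℕ} (hF : Fintype.card F = q ^ 2) (h2 : 2 ∉ π)
    (hp : ∀ r ∈ π, r.Prime → (r : F) ≠ 0)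
    (h : ∀ X : Subgroup (Cfsg.GU m F q), PiN π (Nat.card X) → (∀ g ∈ X, (g.1.1 : Matrix (Fin m) (Fin m) F).det = 1) →
      Group.IsNilpotent X) :
    ∀ X : Subgroup (Cfsg.GU m F q), PiN π (Nat.card X) → Group.IsNilpotent X := by
  classical
  intro X hX
  haveI : Finite (GL (Fin m) F) := inferInstance
  obtain ⟨δ, hδ⟩ : ∃ δ : GU m F q →* Fˣ, δ = Matrix.GeneralLinearGroup.det.comp (GU m F q).subtype := ⟨_, rfl⟩
  have hδv : ∀ g : GU m F q, ((δ g : Fˣ) : F) = (g.1.1 : Matrix (Fin m) (Fin m) F).det := fun g => by rw [hδ]; rfl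
  -- the key: in `GU`
  have key : ∀ r s b : ℕ, r ∈ π → s ∈ π → r.Prime → s.Prime → r ≠ s → ∀ R : Subgroup (GU m F q), IsPGroup r R →
      ∀ y ∈ normalizer (R : Set (GU m F q)), y ^ (s ^ b) = 1 → ∀ g ∈ R, y * g = g * y := by
    intro r s b hrπ hsπ hr hs hrs R hR y hy hyb
    haveI : Fact r.Prime := ⟨hr⟩
    have hyR : ∀ g ∈ R, y * g * y⁻¹ ∈ R := fun g hg => (Subgroup.mem_normalizer_iff.1 hy g).1 hg
    -- `R1`
    obtain ⟨R1, hR1⟩ : ∃ R1, R1 = R ⊓ δ.ker := ⟨_, rfl⟩
    have hR1le : R1 ≤ R := by rw [hR1]; exact inf_le_left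
    have hR1δ : ∀ g ∈ R1, δ g = 1 := fun g hg => by
      rw [hR1] at hg
      exact hg.2
    have hR1p : IsPGroup r R1 := hR.to_le hR1le
    have hyR1 : ∀ g ∈ R1, y * g * y⁻¹ ∈ R1 := by
      intro g hg
      rw [hR1]
      refine ⟨hyR g (hR1le hg), ?_⟩
      show y * g * y⁻¹ ∈ δ.ker
      rw [MonoidHom.mem_ker, map_mul, map_mul, hR1δ g hg, mul_one, map_inv, mul_inv_cancel]
    have hyN : y ∈ normalizer (R1 : Set (GU m F q)) := by
      refine Subgroup.mem_normalizer_iff.2 fun g => ⟨hyR1 g, fun hg => ?_⟩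
      rw [hR1] at hg ⊢
      refine ⟨(Subgroup.mem_normalizer_iff.1 hy g).2 hg.1, ?_⟩
      have h3 : δ (y * g * y⁻¹) = 1 := hg.2
      rw [map_mul, map_mul, map_inv, mul_comm (δ y), mul_inv_cancel_right] at h3
      exact h3
    -- powers of `y`
    have hyk : ∀ k, ∀ g ∈ R1, y ^ k * g * (y ^ k)⁻¹ ∈ R1 := by
      intro k
      induction k with
      | zero =>
        intro g hg
        rwa [pow_zero, one_mul, inv_one, mul_one]
      | succ k ih =>
        intro g hg
        have h3 : y ^ (k + 1) * g * (y ^ (k + 1))⁻¹ = y ^ k * (y * g * y⁻¹) * (y ^ k)⁻¹ := by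
          rw [pow_succ]
          group
        rw [h3]
        exact ih _ (hyR1 g hg)
    -- `y` centralizes `R1`
    have hcent : ∀ g ∈ R1, y * g = g * y := by
      rcases Nat.eq_zero_or_pos m with hm | hm
      · subst hm
        intro g _
        apply Subtype.ext
        apply Units.ext
        exact Subsingleton.elim _ _
      obtain ⟨c, hc, hcR, hcd⟩ := exists_cent (R := R1.map (GU m F q).subtype) (b := b) hF hm
        (fun hr2 => h2 (hr2 ▸ hrπ)) hs hrs (hp r hrπ hr) (by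
          rintro _ ⟨g, -, rfl⟩
          exact g.2) (hR1p.map _) (l := (y.1.1 : Matrix (Fin m) (Fin m) F).det) (det_pow_succ hF y.2) (by
          rw [← hδv, ← Units.val_pow_eq_pow_val, ← map_pow, hyb, map_one, Units.val_one])
      obtain ⟨c', hc'⟩ : ∃ c' : GU m F q, c' = ⟨c, hc⟩ := ⟨_, rfl⟩
      have hδc : δ c' = δ y := by
        apply Units.ext
        rw [hδv, hδv, hc', hcd]
      have hcR' : ∀ g ∈ R1, c' * g = g * c' := by
        intro g hg
        apply Subtype.ext
        rw [hc']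
        exact hcR g.1 ⟨g, hg, rfl⟩
      obtain ⟨w, hw⟩ : ∃ w, w = y * c'⁻¹ := ⟨_, rfl⟩
      have hwδ : δ w = 1 := by rw [hw, map_mul, map_inv, hδc, mul_inv_cancel]
      have hwact : ∀ g ∈ R1, w * g * w⁻¹ = y * g * y⁻¹ := by
        intro g hg
        have h3 : c'⁻¹ * g * c' = g := by
          rw [mul_assoc, ← hcR' g hg, inv_mul_cancel_left]
        rw [hw]
        calc y * c'⁻¹ * g * (y * c'⁻¹)⁻¹ = y * (c'⁻¹ * g * c') * y⁻¹ := by group
          _ = y * g * y⁻¹ := by rw [h3]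
      have hwk : ∀ k, ∀ g ∈ R1, w ^ k * g * (w ^ k)⁻¹ = y ^ k * g * (y ^ k)⁻¹ := by
        intro k
        induction k with
        | zero => intro g _; rw [pow_zero, pow_zero]
        | succ k ih =>
          intro g hg
          have h3 : w ^ (k + 1) * g * (w ^ (k + 1))⁻¹ = w ^ k * (w * g * w⁻¹) * (w ^ k)⁻¹ := by
            rw [pow_succ]
            group
          have h4 : y ^ (k + 1) * g * (y ^ (k + 1))⁻¹ = y ^ k * (y * g * y⁻¹) * (y ^ k)⁻¹ := by
            rw [pow_succ]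
            group
          rw [h3, h4, hwact g hg, ih _ (hyR1 g hg)]
      obtain ⟨e, u, hsu, hou⟩ := Nat.exists_eq_pow_mul_and_not_dvd (orderOf_pos w).ne' s hs.ne_one
      have hco : (s ^ b).Coprime u := Nat.Coprime.pow_left _ ((Nat.Prime.coprime_iff_not_dvd hs).2 hsu)
      obtain ⟨k, hk1, hk2⟩ := Nat.chineseRemainder hco 1 0
      obtain ⟨z, hz⟩ : ∃ z, z = w ^ k := ⟨_, rfl⟩
      have hzδ : δ z = 1 := by rw [hz, map_pow, hwδ, one_pow]
      have hzo : z ^ (s ^ e) = 1 := by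
        obtain ⟨j, hj⟩ := (Nat.modEq_zero_iff_dvd.1 hk2)
        rw [hz, hj, ← pow_mul, mul_right_comm, mul_comm u, ← hou, pow_mul, pow_orderOf_eq_one, one_pow]
      have hyk1 : y ^ k = y := by
        have h3 : y ^ k = y ^ 1 := by
          rw [pow_eq_pow_iff_modEq]
          exact hk1.of_dvd (orderOf_dvd_of_pow_eq_one hyb)
        rw [h3, pow_one]
      have hzact : ∀ g ∈ R1, z * g * z⁻¹ = y * g * y⁻¹ := by
        intro g hg
        rw [hz, hwk k g hg, hyk1]
      -- the subgroup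
      have hzn : zpowers z ≤ normalizer (R1 : Set (GU m F q)) := by
        rw [zpowers_le]
        rw [hz]
        refine Subgroup.mem_normalizer_iff.2 fun g => ⟨fun hg => ?_, fun hg => ?_⟩
        · rw [hwk k g hg]
          exact hyk k g hg
        · have h3 : (y ^ k)⁻¹ * (w ^ k * g * (w ^ k)⁻¹) * y ^ k ∈ R1 :=
            (Subgroup.mem_normalizer_iff''.1 (pow_mem hyN k) _).1 hg
          have h4 := hwk k _ h3
          have h5 : y ^ k * ((y ^ k)⁻¹ * (w ^ k * g * (w ^ k)⁻¹) * y ^ k) * (y ^ k)⁻¹ = w ^ k * g * (w ^ k)⁻¹ := by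
            group
          rw [h5] at h4
          have h6 := mul_left_cancel (mul_right_cancel h4)
          rwa [← h6]
      obtain ⟨X', hX'⟩ : ∃ X', X' = zpowers z ⊔ R1 := ⟨_, rfl⟩
      have hX'n : Group.IsNilpotent X' := by
        apply h
        · intro l hl hlX
          rw [hX'] at hlX
          have h3 := hlX.trans (card_sup_dvd _ _ hzn)
          rw [Nat.card_zpowers] at h3
          rcases (Nat.Prime.dvd_mul hl).1 h3 with h4 | h4
          · have h5 := h4.trans (orderOf_dvd_of_pow_eq_one hzo)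
            have h6 : l = s := (Nat.prime_dvd_prime_iff_eq hl hs).1 (hl.dvd_of_dvd_pow h5)
            rwa [h6]
          · obtain ⟨n, hn⟩ := IsPGroup.iff_card.1 hR1p
            rw [hn] at h4
            have h6 : l = r := (Nat.prime_dvd_prime_iff_eq hl hr).1 (hl.dvd_of_dvd_pow h4)
            rwa [h6]
        · intro g hg
          have h3 : X' ≤ δ.ker := by
            rw [hX', sup_le_iff, zpowers_le]
            exact ⟨hzδ, fun g hg => hR1δ g hg⟩
          rw [← hδv, MonoidHom.mem_ker.1 (h3 hg), Units.val_one]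
      intro g hg
      have hgo : ∃ n, g ^ (r ^ n) = 1 := by
        obtain ⟨n, hn⟩ := hR1p ⟨g, hg⟩
        exact ⟨n, congrArg Subtype.val hn⟩
      obtain ⟨n, hn⟩ := hgo
      have hzX : z ∈ X' := by rw [hX']; exact (le_sup_left : zpowers z ≤ _) (mem_zpowers z)
      have hgX : g ∈ X' := by rw [hX']; exact (le_sup_right : R1 ≤ _) hg
      have h3 : Commute (⟨z, hzX⟩ : X') ⟨g, hgX⟩ := by
        refine Cfsg.Agent.Lib.NilpotentCoprime.commute_of_pow_eq_one (m := s ^ e) (n := r ^ n) ?_ ?_ ?_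
        · exact Nat.Coprime.pow _ _ ((Nat.coprime_primes hs hr).2 hrs.symm)
        · exact Subtype.ext hzo
        · exact Subtype.ext hn
      have h4 : z * g = g * z := congrArg Subtype.val h3
      have h5 := hzact g hg
      rw [h4, mul_inv_cancel_right] at h5
      exact (mul_inv_eq_iff_eq_mul.1 h5.symm)
    -- `y` centralizes `R`
    intro g hg
    obtain ⟨u, hu⟩ : ∃ u, u = y * g * y⁻¹ * g⁻¹ := ⟨_, rfl⟩
    have huR : u ∈ R := by
      rw [hu]
      exact R.mul_mem (hyR g hg) (R.inv_mem hg)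
    have huR1 : u ∈ R1 := by
      rw [hR1]
      refine ⟨huR, ?_⟩
      show u ∈ δ.ker
      rw [MonoidHom.mem_ker, hu, map_mul, map_mul, map_mul, map_inv, map_inv, mul_right_comm (δ y), mul_inv_cancel,
        one_mul, mul_inv_cancel]
    have huy := hcent u huR1
    have hyg : y * g * y⁻¹ = u * g := by rw [hu, inv_mul_cancel_right]
    have hpow : ∀ k, y ^ k * g * (y ^ k)⁻¹ = u ^ k * g := by
      intro k
      induction k with
      | zero => simp only [_root_.pow_zero, _root_.one_mul, _root_.inv_one, _root_.mul_one]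
      | succ k ih =>
        have h3 : y ^ (k + 1) * g * (y ^ (k + 1))⁻¹ = y * (y ^ k * g * (y ^ k)⁻¹) * y⁻¹ := by
          rw [pow_succ']
          group
        have h4 : y * u ^ k = u ^ k * y := ((show Commute y u from huy).pow_right k).eq
        rw [h3, ih, ← mul_assoc, h4, mul_assoc (u ^ k), mul_assoc (u ^ k), hyg, ← mul_assoc, ← pow_succ]
    have h3 := hpow (s ^ b)
    rw [hyb, one_mul, inv_one, mul_one] at h3
    have h4 : u ^ (s ^ b) = 1 := by
      have h5 : u ^ (s ^ b) * g = 1 * g := by rw [one_mul, ← h3]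
      exact mul_right_cancel h5
    obtain ⟨n, hn⟩ := hR ⟨u, huR⟩
    have h5 : u ^ (r ^ n) = 1 := congrArg Subtype.val hn
    have h6 := Nat.dvd_gcd (orderOf_dvd_of_pow_eq_one h4) (orderOf_dvd_of_pow_eq_one h5)
    rw [Nat.coprime_iff_gcd_eq_one.1 (Nat.Coprime.pow b n ((Nat.coprime_primes hs hr).2 hrs.symm))] at h6
    have h7 : u = 1 := orderOf_eq_one_iff.1 (Nat.dvd_one.1 h6)
    rw [h7, one_mul] at hyg
    exact mul_inv_eq_iff_eq_mul.1 hyg
  -- the end
  apply isNilpotent_of_local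
  intro r s b hr hs hrs R hR y hy hyb
  rw [Subgroup.mem_centralizer_iff]
  intro g hg
  by_cases hg1 : g = 1
  · rw [hg1, one_mul, mul_one]
  by_cases hy1 : y = 1
  · rw [hy1, one_mul, mul_one]
  have hrπ : r ∈ π := by
    apply hX r hr
    obtain ⟨n, hn⟩ := hR ⟨g, hg⟩
    have h3 : g ^ (r ^ n) = 1 := congrArg Subtype.val hn
    obtain ⟨t, -, ht⟩ := (Nat.dvd_prime_pow hr).1 (orderOf_dvd_of_pow_eq_one h3)
    have ht0 : t ≠ 0 := by
      rintro rfl
      rw [pow_zero, orderOf_eq_one_iff] at ht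
      exact hg1 ht
    exact (dvd_pow_self r ht0).trans (ht ▸ orderOf_dvd_natCard g)
  have hsπ : s ∈ π := by
    apply hX s hs
    obtain ⟨t, -, ht⟩ := (Nat.dvd_prime_pow hs).1 (orderOf_dvd_of_pow_eq_one hyb)
    have ht0 : t ≠ 0 := by
      rintro rfl
      rw [pow_zero, orderOf_eq_one_iff] at ht
      exact hy1 ht
    exact (dvd_pow_self s ht0).trans (ht ▸ orderOf_dvd_natCard y)
  have h3 := key r s b hrπ hsπ hr hs hrs (R.map X.subtype) (hR.map _) y.1 (by
    refine Subgroup.mem_normalizer_iff.2 fun g => ⟨?_, ?_⟩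
    · rintro ⟨x, hx, rfl⟩
      exact ⟨y * x * y⁻¹, (Subgroup.mem_normalizer_iff.1 hy x).1 hx, rfl⟩
    · rintro ⟨x, hx, hxg⟩
      refine ⟨y⁻¹ * x * y, (Subgroup.mem_normalizer_iff''.1 hy x).1 hx, ?_⟩
      have h3 : ((x : X) : GU m F q) = y.1 * g * y.1⁻¹ := hxg
      show y.1⁻¹ * x.1 * y.1 = g
      rw [h3]
      group) (congrArg Subtype.val hyb) g.1 ⟨g, hg, rfl⟩
  exact Subtype.ext h3.symm

end Cfsg.Agent.H38.NP
end

private theorem dce_6eb891ef4998 : _root_.True := by
  try have : _root_.True := by simp only [_root_.Cfsg.Agent.H22.DPU.Pm.eq_1]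
  try have : _root_.True := by simp only [_root_.Cfsg.Agent.H22.DPU.sm.eq_1]
  try have : _root_.True := by simp only [_root_.Cfsg.Agent.H22.DPU.extS.congr_simp]
  try have : _root_.True := by simp only [_root_.Cfsg.Agent.H22.DPU.Em.eq_1]
  try have : _root_.True := by simp only [_root_.Cfsg.Agent.H22.DPU.Jm.eq_1]
  try have : _root_.True := by simp only [_root_.Cfsg.Agent.H38.NP.adj.eq_1]
  exact _root_.True.intro
end

-- part: H715/DPU/Three
section
prune_inst 0x252050004140100000008082910020244c00009000608c008c230b440208e3220d0221400d8010014808030000010028120000b0000000000020000000010120800050043300010406009f000080610200000000300000000000000000010004000000000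
set_option linter.all false
open scoped Cfsg.Agent.FastGrp

-- part: H715/DPU/Count
section
/-!
# S4247, row PSU: the count (helper715)
-/

set_option autoImplicit false

namespace Cfsg.Agent.H715.DPU

open Subgroup Cfsg Matrix Cfsg.Agent.H988.CPi Cfsg.Agent.H571.RV Cfsg.Agent.H817.DPi Cfsg.Agent.H380.RV
  Cfsg.Agent.H553.RV Cfsg.Agent.LieClassical.HermBasic
open Cfsg.Agent.ClassicalGeometry.PSUAutBasic (pr pr_surjective)
open Cfsg.Agent.ClassicalGeometry.PSUAutCount (gm toAut gm_mul gm_inj sc gm_sc_mul toAut_sc_mul eq_of_toAut_eq)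
open Cfsg.Agent.CpAutU.Desc (toAut_mul toAut_one mapGU_one)

universe u

/-- `|S : B ∩ S| ≤ |P| |K|` -/
theorem index_le_mul {π : Set ℕ} {S : Type u} [Group S] [Finite S] [IsSimpleGroup S] (hna : ¬ IsMulCommutative S)
    {P : Subgroup S} {K B : Subgroup (MulAut S)} (h : Cfg π P K B) :
    B.comap MulAut.conj ≠ ⊤ ∧ (B.comap MulAut.conj).index ≤ Nat.card P * Nat.card K := by
  have hinj := Cfsg.Agent.H462.DPK.conj_injective hna
  have hdvd : ∀ X : Subgroup (MulAut S), Nat.card (X.comap MulAut.conj) ∣ Nat.card X := fun X => by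
    rw [← Subgroup.card_map_of_injective hinj]
    exact Subgroup.card_dvd_of_le (Subgroup.map_comap_le _ _)
  constructor
  · intro htop
    have h1 := hdvd B
    rw [htop, Subgroup.card_top] at h1
    have h2 : Nat.card P ≠ 1 := by
      intro h2
      apply h.nnil
      rw [Subgroup.card_eq_one] at h2
      subst h2
      infer_instance
    obtain ⟨p, hp, hpd⟩ := Nat.exists_prime_and_dvd h2
    exact h.piB p hp (h.hall.1 p hp hpd) ((hpd.trans P.card_subgroup_dvd_card).trans h1)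
  · have hex : ∀ s : S, ∃ x ∈ P, ∃ k ∈ K, ∃ b ∈ B, MulAut.conj s = MulAut.conj x * k * b := fun s =>
      h.fac _ (Subgroup.mem_sup_right ⟨s, rfl⟩)
    choose x hx k hk b hb hs using hex
    rw [← Nat.card_prod]
    let φ : S ⧸ B.comap MulAut.conj → P × K := fun c => (⟨x c.out, hx _⟩, ⟨k c.out, hk _⟩)
    refine Nat.card_le_card_of_injective φ ?_
    intro c d hcd
    have h2 : x c.out = x d.out := congrArg (fun y : P × K => (y.1 : S)) hcd
    have h3 : k c.out = k d.out := congrArg (fun y : P × K => (y.2 : MulAut S)) hcd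
    rw [← c.out_eq', ← d.out_eq']
    refine QuotientGroup.eq.2 ?_
    rw [Subgroup.mem_comap, map_mul, map_inv, hs c.out, hs d.out, h2, h3]
    have h4 : (MulAut.conj (x d.out) * k d.out * b c.out)⁻¹ * (MulAut.conj (x d.out) * k d.out * b d.out) =
        (b c.out)⁻¹ * b d.out := by group
    rw [h4]
    exact B.mul_mem (B.inv_mem (hb _)) (hb _)

/-- `P` and `K` meet trivially -/
theorem eq_one_of_conj_mem {π : Set ℕ} {S : Type u} [Group S] [Finite S] [IsSimpleGroup S] (hna : ¬ IsMulCommutative S)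
    {P : Subgroup S} {K B : Subgroup (MulAut S)} (h : Cfg π P K B) {x : S} (hx : x ∈ P) (hk : MulAut.conj x ∈ K) :
    x = 1 := by
  have hinj := Cfsg.Agent.H462.DPK.conj_injective hna
  by_contra hcon
  have h1 : orderOf x ≠ 1 := fun h0 => hcon (orderOf_eq_one_iff.1 h0)
  obtain ⟨r, hr, hrd⟩ := Nat.exists_prime_and_dvd h1
  have h2 : r ∣ Nat.card P := hrd.trans (by
    have := _root_.orderOf_dvd_natCard (⟨x, hx⟩ : P)
    rwa [Subgroup.orderOf_mk] at this)
  have h3 : r ∣ Nat.card K := hrd.trans (by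
    have := _root_.orderOf_dvd_natCard (⟨MulAut.conj x, hk⟩ : K)
    rwa [Subgroup.orderOf_mk, orderOf_injective _ hinj] at this)
  exact h.piK r hr (h.hall.1 r hr h2) h3

variable {F : Type} [Field F] [Fintype F] {n q : ℕ}

omit [Fintype F] in
theorem toAut_mul_one (A B : GU n F q) : toAut A 1 * toAut B 1 = toAut (A * B) 1 := by
  rw [toAut_mul, mapGU_one, mul_one]

omit [Fintype F] in
theorem toAut_jU (s : SU n F q) : toAut (jU n F q s) 1 = MulAut.conj (pr n F q s) :=
  Cfsg.Agent.KFacts.Unit.toAut_eq_conj (jU n F q s) one_ne_zero (fun v => by rw [one_smul]; rfl)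

omit [Fintype F] in
/-- the scalars -/
theorem card_sc (hn : 1 ≤ n) :
    ∃ f : {c : F // c * c ^ q = 1} → GU n F q, Function.Injective f ∧ ∀ c, toAut (f c) 1 = 1 := by
  refine ⟨fun c => sc n c, ?_, fun c => ?_⟩
  · intro c c' h
    have h3 := congrArg gm h
    have h4 := congrFun (congrFun h3 ⟨0, by omega⟩) ⟨0, by omega⟩
    change Matrix.diagonal (fun _ => c.1) _ _ = Matrix.diagonal (fun _ => c'.1) _ _ at h4
    rw [Matrix.diagonal_apply_eq, Matrix.diagonal_apply_eq] at h4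
    exact Subtype.ext h4
  · have h1 := toAut_sc_mul (n := n) c 1 1
    rw [mul_one] at h1
    rw [h1, toAut_one]

/-- the involution in `Aut F` -/
theorem eq_conj_of_sq (hF : Fintype.card F = q ^ 2) {τ : F ≃+* F} (h1 : τ ≠ 1) (h2 : τ * τ = 1) : ∀ x, τ x = x ^ q := by
  classical
  obtain ⟨p, f, hp, hch, hq, hf⟩ := exists_prime_pow hF
  have := Fact.mk hp
  have hcard : Nat.card F = p ^ (2 * f) := by rw [Nat.card_eq_fintype_card, hF, hq, ← pow_mul, mul_comm]
  have hcyc := (Cfsg.Agent.H382.FieldAction.card_ringAut_dvd F hcard).2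
  have hfin : Finite (F ≃+* F) :=
    Finite.of_injective (fun α : F ≃+* F => (α : F → F)) (fun α β h => RingEquiv.ext fun x => congrFun h x)
  letI := Fintype.ofFinite (F ≃+* F)
  have hle := IsCyclic.card_pow_eq_one_le (α := F ≃+* F) (n := 2) (by norm_num)
  have hc : conj hF ≠ 1 := by
    intro h
    obtain ⟨c, hc⟩ : ∃ c : F, c ^ q ≠ c := by
      by_contra hcon
      push Not at hcon
      have h3 : Nat.card F ≤ p ^ f := by
        have h4 := Cfsg.Agent.H382.FieldAction.card_le_of_pow_eq F hp.one_lt (by omega : 0 < f) Set.univ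
          (fun x _ => by rw [← hq]; exact hcon x)
        rwa [Nat.card_univ] at h4
      rw [hcard] at h3
      have h5 : 2 * f ≤ f := (Nat.pow_le_pow_iff_right hp.one_lt).1 h3
      omega
    apply hc
    have h6 := congrArg (fun σ : F ≃+* F => σ c) h
    exact h6
  have hc2 : conj hF * conj hF = 1 := by
    ext x
    exact pow_q_pow_q hF x
  by_contra hcon
  have hne : τ ≠ conj hF := by
    rintro rfl
    exact hcon fun x => rfl
  have h3 : ({1, τ, conj hF} : Finset (F ≃+* F)) ⊆ Finset.univ.filter fun a => a ^ 2 = 1 := by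
    intro a ha
    rw [Finset.mem_filter]
    refine ⟨Finset.mem_univ _, ?_⟩
    rw [Finset.mem_insert, Finset.mem_insert, Finset.mem_singleton] at ha
    rcases ha with rfl | rfl | rfl
    · exact one_pow 2
    · rw [pow_two, h2]
    · rw [pow_two, hc2]
  have h4 := Finset.card_le_card h3
  rw [Finset.card_insert_of_notMem (by
    rw [Finset.mem_insert, Finset.mem_singleton]
    rintro (h | h)
    · exact h1 h.symm
    · exact hc h.symm), Finset.card_insert_of_notMem (by rw [Finset.mem_singleton]; exact hne), Finset.card_singleton] at h4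
  omega

/-- **The count.** -/
theorem index_le {a t p f : ℕ} {π : Set ℕ} (hF : Fintype.card F = q ^ 2) (hn : 3 ≤ n)
    (h32 : ¬ (n = 3 ∧ q = 2)) (hp : p.Prime) (hf : 1 ≤ f) (hq : q = p ^ f)
    {P : Subgroup (PSU n F q)} {K B : Subgroup (MulAut (PSU n F q))} (hc : Cfg π P K B)
    {H : Subgroup (GU n F q)} (hU : Up π P H) {z : Fin a → GU n F q}
    (hE : ∀ (A : GU n F q) (τ : F ≃+* F), toAut A τ ∈ K → (τ = 1 → A ∈ Cz z) ∧ ((∀ x, τ x = x ^ q) → Even (eU q t))) :
    B.comap MulAut.conj ≠ ⊤ ∧ ∃ κ : ℕ, κ ∣ 2 * f ∧ (Odd (eU q t) → Odd κ) ∧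
      (∃ K0 : Subgroup (MulAut (PSU n F q)), K0 ≤ K ∧ Nat.card K = κ * Nat.card K0 ∧
        ∀ k ∈ K0, ∃ A : GU n F q, k = toAut A 1) ∧
      (B.comap MulAut.conj).index * (q + 1) ≤ κ * (Nat.card (Cz z) * (Cz z).relIndex H) := by
  classical
  have hs := Cfsg.Agent.S0283.result hF n hn h32
  have hna : ¬ IsMulCommutative (PSU n F q) := Cfsg.Agent.CpAut.Fix.not_comm_quot (H := SU n F q)
  have hfinP : Finite (PSU n F q) := inferInstance
  have hfinG : Finite (GU n F q) := LieClassical.GUOrder.finite_GU n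
  have hfinM : Finite (MulAut (PSU n F q)) := inferInstance
  obtain ⟨hBt, hidx⟩ := index_le_mul hna hc
  refine ⟨hBt, ?_⟩
  obtain ⟨φ, hφ⟩ := Cfsg.Agent.KFacts.Unit.exists_fieldHom (F := F) (q := q) (n := n) hF hn h32
  have hfin : Finite (F ≃+* F) :=
    Finite.of_injective (fun α : F ≃+* F => (α : F → F)) (fun α β h => RingEquiv.ext fun x => congrFun h x)
  have := Fact.mk hp
  have hcR : Nat.card (F ≃+* F) = 2 * f :=
    Lib.FieldAutCard.card_ringAut (p := p) (by omega) (by rw [hF, hq, ← pow_mul, mul_comm])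
  let ψ : K →* (F ≃+* F) := φ.comp K.subtype
  refine ⟨Nat.card ψ.range, ?_, ?_, ⟨ψ.ker.map K.subtype, ?_, ?_, ?_⟩, ?_⟩
  · rw [← hcR]
    exact Subgroup.card_subgroup_dvd_card _
  · intro hodd
    by_contra heven
    rw [Nat.not_odd_iff_even, even_iff_two_dvd] at heven
    obtain ⟨⟨τ, hτ⟩, hτo⟩ := exists_prime_orderOf_dvd_card' 2 heven
    rw [Subgroup.orderOf_mk] at hτo
    obtain ⟨⟨k, hk⟩, hkτ⟩ := hτ
    obtain ⟨A, ρ, hA⟩ := Cfsg.Agent.ClassicalGeometry.PSUAutMain.exists_toAut (F := F) (q := q) (n := n) hF hn h32 k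
    have h1 : φ k = τ := hkτ
    rw [hA, hφ] at h1
    have h2 : τ ≠ 1 := by
      rintro rfl
      rw [orderOf_one] at hτo
      omega
    have h3 : τ * τ = 1 := by rw [← pow_two, ← hτo, pow_orderOf_eq_one]
    have h4 := eq_conj_of_sq hF h2 h3
    have h5 := (hE A ρ (by rw [← hA]; exact hk)).2 (by rw [h1]; exact h4)
    exact (Nat.not_odd_iff_even.2 h5) hodd
  · rintro _ ⟨k, -, rfl⟩
    exact k.2
  · rw [Subgroup.card_map_of_injective K.subtype_injective]
    have h1 := ψ.ker.card_mul_index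
    rw [Subgroup.index_ker] at h1
    rw [← h1, mul_comm]
  · rintro _ ⟨k, hk, rfl⟩
    obtain ⟨A, ρ, hA⟩ := Cfsg.Agent.ClassicalGeometry.PSUAutMain.exists_toAut (F := F) (q := q) (n := n) hF hn h32 (k : MulAut (PSU n F q))
    refine ⟨A, ?_⟩
    have h1 : φ k = 1 := hk
    rw [hA, hφ] at h1
    rw [Subgroup.coe_subtype, hA, h1]
  · -- the injection
    have hK0 : ∀ k : ψ.ker, ∃ A : GU n F q, ((k : K) : MulAut (PSU n F q)) = toAut A 1 := by
      intro k
      obtain ⟨A, ρ, hA⟩ := Cfsg.Agent.ClassicalGeometry.PSUAutMain.exists_toAut (F := F) (q := q) (n := n) hF hn h32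
        ((k : K) : MulAut (PSU n F q))
      refine ⟨A, ?_⟩
      have h1 : φ ((k : K) : MulAut (PSU n F q)) = 1 := k.2
      rw [hA, hφ] at h1
      rw [hA, h1]
    choose A hA using hK0
    have hP0 : ∀ x : P, ∃ g : SU n F q, jU n F q g ∈ H ∧ pr n F q g = x := fun x => (hU.mem x).1 x.2
    choose g hg hgx using hP0
    obtain ⟨sc', hsc, hsc1⟩ := card_sc (F := F) (q := q) (n := n) (by omega)
    let h : P × ψ.ker × {c : F // c * c ^ q = 1} → GU n F q := fun y => jU n F q (g y.1) * A y.2.1 * sc' y.2.2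
    have hh : ∀ y, toAut (h y) 1 = MulAut.conj (y.1 : PSU n F q) * ((y.2.1 : K) : MulAut (PSU n F q)) := by
      intro y
      show toAut (jU n F q (g y.1) * A y.2.1 * sc' y.2.2) 1 = _
      rw [← toAut_mul_one, ← toAut_mul_one, hsc1, mul_one, toAut_jU, hgx, ← hA]
    have hinj : Function.Injective h := by
      intro y y' hyy
      have h1 := congrArg (fun X : GU n F q => toAut X 1) hyy
      beta_reduce at h1
      rw [hh, hh] at h1
      have h2 : MulAut.conj ((y'.1 : PSU n F q)⁻¹ * y.1) =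
          ((y'.2.1 : K) : MulAut (PSU n F q)) * ((y.2.1 : K) : MulAut (PSU n F q))⁻¹ := by
        rw [map_mul, map_inv, inv_mul_eq_iff_eq_mul, ← mul_assoc, ← h1, mul_inv_cancel_right]
      have h3 : (y'.1 : PSU n F q)⁻¹ * y.1 = 1 := by
        refine eq_one_of_conj_mem hna hc (P.mul_mem (P.inv_mem y'.1.2) y.1.2) ?_
        rw [h2]
        exact K.mul_mem (y'.2.1 : K).2 (K.inv_mem (y.2.1 : K).2)
      have h4 : y.1 = y'.1 := Subtype.ext (inv_mul_eq_one.1 h3).symm
      rw [h4] at h1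
      have h5 : y.2.1 = y'.2.1 := Subtype.ext (Subtype.ext (mul_left_cancel h1))
      have h6 : sc' y.2.2 = sc' y'.2.2 := by
        have h7 : jU n F q (g y.1) * A y.2.1 * sc' y.2.2 = jU n F q (g y'.1) * A y'.2.1 * sc' y'.2.2 := hyy
        rw [h4, h5] at h7
        exact mul_left_cancel h7
      exact Prod.ext h4 (Prod.ext h5 (hsc h6))
    have hmem : ∀ y, (jU n F q (g y.1))⁻¹ * h y ∈ Cz z := by
      intro y
      have h1 : (jU n F q (g y.1))⁻¹ * h y = A y.2.1 * sc' y.2.2 := by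
        show (jU n F q (g y.1))⁻¹ * (jU n F q (g y.1) * A y.2.1 * sc' y.2.2) = _
        group
      rw [h1]
      refine (hE _ 1 ?_).1 rfl
      rw [← toAut_mul_one, hsc1, mul_one, ← hA]
      exact (y.2.1 : K).2
    let m : P × ψ.ker × {c : F // c * c ^ q = 1} → (H ⧸ (Cz z).subgroupOf H) := fun y =>
      QuotientGroup.mk (⟨jU n F q (g y.1), hg y.1⟩ : H)
    have hmem2 : ∀ y, ((m y).out : GU n F q)⁻¹ * h y ∈ Cz z := by
      intro y
      have h1 : (QuotientGroup.mk ((m y).out) : H ⧸ (Cz z).subgroupOf H) =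
          QuotientGroup.mk (⟨jU n F q (g y.1), hg y.1⟩ : H) := QuotientGroup.out_eq' _
      rw [QuotientGroup.eq] at h1
      have h2 : ((m y).out : GU n F q)⁻¹ * jU n F q (g y.1) ∈ Cz z := h1
      have h3 := (Cz z).mul_mem h2 (hmem y)
      have h4 : ((m y).out : GU n F q)⁻¹ * jU n F q (g y.1) * ((jU n F q (g y.1))⁻¹ * h y) =
          ((m y).out : GU n F q)⁻¹ * h y := by group
      rwa [h4] at h3
    have hcount : Nat.card (P × ψ.ker × {c : F // c * c ^ q = 1}) ≤ Nat.card ((H ⧸ (Cz z).subgroupOf H) × Cz z) := by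
      refine Nat.card_le_card_of_injective (fun y => (m y, ⟨((m y).out : GU n F q)⁻¹ * h y, hmem2 y⟩)) ?_
      intro y y' hyy
      have h1 : m y = m y' := congrArg Prod.fst hyy
      have h2 : ((m y).out : GU n F q)⁻¹ * h y = ((m y').out : GU n F q)⁻¹ * h y' :=
        congrArg (fun w => ((w.2 : Cz z) : GU n F q)) hyy
      rw [h1] at h2
      exact hinj (mul_left_cancel h2)
    rw [Nat.card_prod, Nat.card_prod, Nat.card_prod, card_norm_eq_one hF] at hcount
    have h1 := ψ.ker.card_mul_index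
    rw [Subgroup.index_ker] at h1
    have h2 : Nat.card (H ⧸ (Cz z).subgroupOf H) = (Cz z).relIndex H := rfl
    rw [h2] at hcount
    calc (B.comap MulAut.conj).index * (q + 1) ≤ Nat.card P * Nat.card K * (q + 1) := Nat.mul_le_mul_right _ hidx
      _ = Nat.card ψ.range * (Nat.card P * (Nat.card ψ.ker * (q + 1))) := by rw [← h1]; ring
      _ ≤ Nat.card ψ.range * ((Cz z).relIndex H * Nat.card (Cz z)) := Nat.mul_le_mul_left _ hcount
      _ = _ := by ring

end Cfsg.Agent.H715.DPU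
end

-- part: H715/DPU/Num
section
/-!
# S4247, row PSU: numbers in dimension three (helper715)
-/

set_option autoImplicit false

namespace Cfsg.Agent.H715.DPU

theorem two_pow_gt : ∀ f : ℕ, 4 ≤ f → 3 * f + 4 ≤ 2 ^ f := by
  intro f hf
  induction f, hf using Nat.le_induction with
  | base => norm_num
  | succ f hf ih =>
    rw [pow_succ]
    omega

theorem kappa_le {f κ : ℕ} (hf : 1 ≤ f) (hκ : κ ∣ 2 * f) (hodd : Odd κ) : κ ∣ f ∧ κ ≤ f := by
  have h1 : κ ∣ f := by
    refine Nat.Coprime.dvd_of_dvd_mul_left ?_ hκ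
    rw [Nat.coprime_comm, Nat.coprime_two_left]
    exact hodd
  exact ⟨h1, Nat.le_of_dvd hf h1⟩

theorem num31 {p f κ q : ℕ} (hp : p.Prime) (hf : 1 ≤ f) (hq : q = p ^ f) (hκ : κ ∣ 2 * f) (hodd : Odd κ)
    (h : q + 1 ≤ 3 * κ) : q = 8 ∨ q = 2 := by
  obtain ⟨h1, h2⟩ := kappa_le hf hκ hodd
  have hpq : 2 ^ f ≤ q := by rw [hq]; exact Nat.pow_le_pow_left hp.two_le f
  rcases Nat.lt_or_ge f 4 with h4 | h4
  · obtain ⟨k, rfl⟩ := hodd
    interval_cases f
    · rw [pow_one] at hq
      have := hp.two_le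
      omega
    · have h5 : k = 0 := by omega
      omega
    · have h6 : q = 8 := by omega
      exact Or.inl h6
  · have := two_pow_gt f h4
    omega

theorem num33 {p f κ q : ℕ} (hp : p.Prime) (hf : 1 ≤ f) (hq : q = p ^ f) (hκ : κ ∣ 2 * f) (hodd : Odd κ)
    (h : (q ^ 3 + 1) * (q + 1) ≤ κ * ((q + 1) ^ 3 * 3)) : q = 2 ∨ q = 3 ∨ q = 4 ∨ q = 8 := by
  obtain ⟨h1, h2⟩ := kappa_le hf hκ hodd
  have hq1 : 2 ≤ q := by
    rw [hq]
    calc 2 ≤ p := hp.two_le
      _ = p ^ 1 := (pow_one p).symm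
      _ ≤ p ^ f := Nat.pow_le_pow_right hp.pos hf
  have h3 : q * q + 1 ≤ q + 3 * κ * (q + 1) := by
    have h4 : (q + 1) ^ 2 * (q * q + 1) ≤ (q + 1) ^ 2 * (q + 3 * κ * (q + 1)) := by
      have h5 : (q + 1) ^ 2 * (q * q + 1) = (q ^ 3 + 1) * (q + 1) + (q + 1) ^ 2 * q := by ring
      have h6 : (q + 1) ^ 2 * (q + 3 * κ * (q + 1)) = κ * ((q + 1) ^ 3 * 3) + (q + 1) ^ 2 * q := by ring
      omega
    exact Nat.le_of_mul_le_mul_left h4 (by positivity)
  have hpq : 2 ^ f ≤ q := by rw [hq]; exact Nat.pow_le_pow_left hp.two_le f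
  rcases Nat.lt_or_ge f 4 with h4 | h4
  · have h7 : q ≤ 10 := by
      by_contra hcon
      have h8 : κ ≤ 3 := by omega
      nlinarith only [h2, h3, h4, hcon]
    interval_cases f
    · have h9 : κ = 1 := by obtain ⟨k, rfl⟩ := hodd; omega
      subst h9
      interval_cases q <;> omega
    · have h9 : κ = 1 := by obtain ⟨k, rfl⟩ := hodd; omega
      subst h9
      interval_cases q <;> omega
    · have h10 : p = 2 := by
        by_contra hne
        have h11 : 3 ≤ p := by have := hp.two_le; omega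
        have h12 : 3 ^ 3 ≤ p ^ 3 := Nat.pow_le_pow_left h11 3
        omega
      rw [h10] at hq
      omega
  · exfalso
    have h5 := two_pow_gt f h4
    have h6 : 3 * f + 4 ≤ q := by omega
    have h7 : 3 * κ * (q + 1) ≤ 3 * f * (q + 1) := Nat.mul_le_mul_right _ (Nat.mul_le_mul_left _ h2)
    nlinarith only [h3, hpq, h5, h7]

/-- `-q` modulo `t`, `q = 2` -/
theorem d_two {t : ℕ} (ht : t.Prime) (hodd : Odd t) (h : orderOf (-((2 : ℕ) : ZMod t)) ≠ 1)
    (h0 : 1 ≤ orderOf (-((2 : ℕ) : ZMod t))) : 4 ≤ orderOf (-((2 : ℕ) : ZMod t)) := by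
  by_contra hcon
  have hne : t ≠ 3 := by
    rintro rfl
    apply h
    rw [orderOf_eq_one_iff]
    decide
  have hne2 : t ≠ 2 := by
    rintro rfl
    exact absurd hodd (by decide)
  have h1 := pow_orderOf_eq_one (-((2 : ℕ) : ZMod t))
  have h2 : orderOf (-((2 : ℕ) : ZMod t)) = 2 ∨ orderOf (-((2 : ℕ) : ZMod t)) = 3 := by omega
  rcases h2 with h2 | h2
  · rw [h2] at h1
    have h3 : ((3 : ℕ) : ZMod t) = 0 := by
      push_cast at h1 ⊢
      linear_combination h1
    rw [ZMod.natCast_eq_zero_iff, Nat.prime_dvd_prime_iff_eq ht Nat.prime_three] at h3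
    exact hne h3
  · rw [h2] at h1
    have h3 : ((9 : ℕ) : ZMod t) = 0 := by
      push_cast at h1 ⊢
      linear_combination -h1
    rw [ZMod.natCast_eq_zero_iff] at h3
    have h4 : t ∣ 3 ^ 2 := h3
    exact hne ((Nat.prime_dvd_prime_iff_eq ht Nat.prime_three).1 (ht.dvd_of_dvd_pow h4))

theorem dvd_succ_of_one {q t : ℕ} (h : orderOf (-((q : ℕ) : ZMod t)) = 1) : t ∣ q + 1 := by
  rw [orderOf_eq_one_iff] at h
  rw [← ZMod.natCast_eq_zero_iff]
  push_cast
  linear_combination -h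

end Cfsg.Agent.H715.DPU
end

-- part: H125/DPi/RelCz
section
/-!
# S4247, row PSU, task G: the permutation part (helper125)
-/

set_option autoImplicit false
set_option linter.unusedSectionVars false

namespace Cfsg.Agent.H125.DPi.RelCz

open Module Subgroup Cfsg Matrix Cfsg.Agent.H988.CPi Cfsg.Agent.H571.RV Cfsg.Agent.H817.DPi Cfsg.Agent.H380.RV
  Cfsg.Agent.H553.RV Cfsg.Agent.H167.OP Cfsg.Agent.H170.HL Cfsg.Agent.H556.HallRowAbs Cfsg.Agent.H556.HallLB
  Cfsg.Agent.H556.HallSmallCen Cfsg.Agent.H715.DPU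

section gen

variable {F : Type*} [Field F] {V : Type*} [AddCommGroup V] [Module F V] {Y : Type*} [Group Y]
  {ρ : Representation F Y V}

/-- `t`-elements of `H` with supports in a space of dimension `< t` commute -/
theorem comm_of_sup [FiniteDimensional F V] [Finite Y] (hinj : Function.Injective ρ) {H : Subgroup Y} (hH : HC F H)
    {t : ℕ} (ht : t.Prime) (htF : (t : F) ≠ 0) {x y : Y} (hxH : x ∈ H) (hx : ∃ k : ℕ, x ^ t ^ k = 1) (hyH : y ∈ H)
    (hy : ∃ k : ℕ, y ^ t ^ k = 1) (hd : finrank F (Rg ρ x ⊔ Rg ρ y : Submodule F V) < t) : x * y = y * x := by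
  have := Fact.mk ht
  set L : Subgroup Y := Subgroup.closure {x, y} with hL
  have hxL : x ∈ L := Subgroup.subset_closure (by simp)
  have hyL : y ∈ L := Subgroup.subset_closure (by simp)
  have hLH : L ≤ H := by
    rw [hL, Subgroup.closure_le]
    intro a ha
    simp only [Set.mem_insert_iff, Set.mem_singleton_iff] at ha
    rcases ha with rfl | rfl
    · exact hxH
    · exact hyH
  have hLc := hH.mono hLH
  have hdim : finrank F (CV ρ L) < t := by
    have h1 : CV ρ L ≤ Rg ρ x ⊔ Rg ρ y := by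
      rw [hL]
      refine CV_closure_le ?_
      intro a ha
      simp only [Set.mem_insert_iff, Set.mem_singleton_iff] at ha
      rcases ha with rfl | rfl
      · exact le_sup_left
      · exact le_sup_right
    exact (Submodule.finrank_mono h1).trans_lt hd
  have hC : CenH t L := by
    intro y' hy' r hrp hrt R hR hn
    by_cases hd : r ∣ Nat.card L
    · obtain ⟨h2, hrF⟩ := hLc.ok r hrp hd
      have h1 := small_cen ρ hinj ht hrp h2 hrt hrF L hdim y'.2 (by
        obtain ⟨k, hk⟩ := hy'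
        exact ⟨k, congrArg Subtype.val hk⟩) (R := R.map L.subtype) (Subgroup.map_subtype_le _) (by
        rintro _ ⟨x, hx, rfl⟩
        obtain ⟨k, hk⟩ := hR ⟨x, hx⟩
        exact ⟨k, congrArg (fun z : R => ((z : L) : Y)) hk⟩) (by
        rintro _ ⟨x, hx, rfl⟩
        exact ⟨_, hn x hx, rfl⟩)
      intro d hd
      exact Subtype.ext (h1 d ⟨d, hd, rfl⟩)
    · intro d hdR
      obtain ⟨k, hk⟩ := hR ⟨d, hdR⟩
      have h1 : d ^ r ^ k = 1 := congrArg Subtype.val hk
      have h5 : Nat.Coprime (r ^ k) (Nat.card L) := Nat.Coprime.pow_left _ ((Nat.Prime.coprime_iff_not_dvd hrp).mpr hd)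
      have h6 : orderOf d ∣ 1 := by
        rw [← h5]
        exact Nat.dvd_gcd (orderOf_dvd_of_pow_eq_one h1) (_root_.orderOf_dvd_natCard d)
      rw [orderOf_eq_one_iff.mp (Nat.dvd_one.mp h6), mul_one, one_mul]
  have hgen : Subgroup.closure {x : L | ∃ k : ℕ, x ^ t ^ k = 1} = ⊤ := by
    rw [eq_top_iff, ← Subgroup.closure_closure_coe_preimage (k := ({x, y} : Set Y))]
    apply Subgroup.closure_mono
    rintro ⟨a, ha⟩ ham
    have h' : a = x ∨ a = y := by
      rcases ham with h | h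
      · exact Or.inl h
      · exact Or.inr h
    rcases h' with rfl | rfl
    · obtain ⟨k, hk⟩ := hx
      exact ⟨k, Subtype.ext hk⟩
    · obtain ⟨k, hk⟩ := hy
      exact ⟨k, Subtype.ext hk⟩
  have hLp : IsPGroup t L := isPGroup_of_cenH hLc.sol hC hgen
  obtain ⟨n, hn⟩ := IsPGroup.iff_card.mp hLp
  have hLF : (Nat.card L : F) ≠ 0 := by rw [hn]; exact cardNeOfPow htF
  have h1 := Cfsg.Agent.H556.SmallAb.comm_of_small' (res ρ L) hLF (by
    intro r hr hd
    rw [hn] at hd
    rw [(Nat.prime_dvd_prime_iff_eq hr ht).mp (hr.dvd_of_dvd_pow hd)]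
    exact hdim) ⟨x, hxL⟩ ⟨y, hyL⟩
  have hg : ρ (x * y * x⁻¹ * y⁻¹) = 1 := by
    have hgL : x * y * x⁻¹ * y⁻¹ ∈ L := L.mul_mem (L.mul_mem (L.mul_mem hxL hyL) (L.inv_mem hxL)) (L.inv_mem hyL)
    refine eq_one_of_res ρ hgL (n := Nat.card L) ?_ hLF ?_
    · exact congrArg Subtype.val (pow_card_eq_one' (x := (⟨_, hgL⟩ : L)))
    · intro w hw
      have h2 : (⟨x * y * x⁻¹ * y⁻¹, hgL⟩ : L) = (⟨x, hxL⟩ * ⟨y, hyL⟩) * (⟨y, hyL⟩ * ⟨x, hxL⟩)⁻¹ := by
        apply Subtype.ext
        show x * y * x⁻¹ * y⁻¹ = (x * y) * (y * x)⁻¹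
        group
      have h3 : res ρ L ⟨x * y * x⁻¹ * y⁻¹, hgL⟩ = 1 := by
        rw [h2, map_mul, h1, ← map_mul, mul_inv_cancel, map_one]
      exact congrArg Subtype.val (LinearMap.congr_fun h3 ⟨w, hw⟩)
  have h2 : x * y * x⁻¹ * y⁻¹ = 1 := hinj (by rw [hg, map_one])
  calc x * y = (x * y * x⁻¹ * y⁻¹) * (y * x) := by group
    _ = y * x := by rw [h2, one_mul]

variable [FiniteDimensional F V] [Finite Y] {e : ℕ → ℕ} {X H : Subgroup Y} {t m : ℕ} {f : Fin m → Y}

theorem et_lt (D : LinDat ρ e X) (ht : t.Prime) (htF : (t : F) ≠ 0) : e t < t := by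
  have h1 := Nat.le_of_dvd (by have := ht.two_le; omega) (D.row.edvd t ht htF)
  have := ht.two_le
  omega

/-- the normaliser of an atom -/
theorem conj_pow (D : LinDat ρ e X) (hH : HC F H) (ht : t.Prime) (hodd : Odd t) (htF : (t : F) ≠ 0)
    {z h : Y} (hz : IsZ ρ e t z) (hzH : z ∈ H) (hh : h ∈ H) (hs : (Rg ρ z).map (ρ h) = Rg ρ z) :
    ∃ j : ℕ, h * z * h⁻¹ = z ^ j := by
  have h1 : h * z * h⁻¹ ∈ H := H.mul_mem (H.mul_mem hh hzH) (H.inv_mem hh)
  have h2 : IsZ ρ e t (h * z * h⁻¹) := hz.conj h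
  have h3 : Rg ρ (h * z * h⁻¹) = Rg ρ z := by rw [Rg_conj, hs]
  refine mem_zpowers_of_Rg D.row ht hodd htF hz h2.1 ?_ h3.le
  refine comm_of_sup D.row.inj hH ht htF hzH ⟨1, by rw [pow_one]; exact hz.1⟩ h1 ⟨1, by rw [pow_one]; exact h2.1⟩ ?_
  rw [h3, sup_idem, finrank_Rg, hz.2]
  exact et_lt D ht htF

theorem ne_one (D : LinDat ρ e X) (ht : t.Prime) (htF : (t : F) ≠ 0) {z : Y} (hz : IsZ ρ e t z) : z ≠ 1 := by
  rintro rfl
  have h1 := hz.2
  have h2 := D.row.epos t ht htF
  have h3 : Rg ρ (1 : Y) = ⊥ := by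
    rw [eq_bot_iff]
    rintro _ ⟨v, rfl⟩
    rw [Submodule.mem_bot, map_one, sub_self]
    rfl
  rw [← finrank_Rg, h3, finrank_bot] at h1
  omega

theorem frame_inj (D : LinDat ρ e X) (ht : t.Prime) (htF : (t : F) ≠ 0) (hf : Fm ρ e H t m f) {i j : Fin m}
    (h : Rg ρ (f i) = Rg ρ (f j)) : i = j := by
  by_contra hij
  have h1 : Rg ρ (f i) = ⊥ := by
    rw [eq_bot_iff]
    intro w hw
    rw [Submodule.mem_bot]
    refine eq_zero_of_fix htF (hf.isZ i).1 hw ?_
    rw [h] at hw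
    obtain ⟨v, rfl⟩ := mem_Rg.mp hw
    exact hf.ind i j hij v
  have h2 : finrank F (Rg ρ (f i)) = 0 := by rw [h1, finrank_bot]
  rw [finrank_Rg, (hf.isZ i).2] at h2
  have := D.row.epos t ht htF
  omega

theorem pos (D : LinDat ρ e X) (ht : t.Prime) (hodd : Odd t) (htF : (t : F) ≠ 0) (hd : t ∣ Nat.card Y)
    (hf : Fm ρ e H t m f) : 0 < m := by
  by_contra h0
  have h1 := hf.max ⊤ (fun i => absurd i.2 (by omega))
  obtain ⟨x, hx⟩ := @exists_prime_orderOf_dvd_card' _ _ _ t (Fact.mk ht) hd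
  have h2 := le_rk_of_ne D.row ht hodd htF (y := x) (by rw [← hx]; exact pow_orderOf_eq_one x) (by
    rintro rfl
    rw [orderOf_one] at hx
    exact ht.one_lt.ne hx)
  have h3 := Submodule.finrank_mono (le_top : Rg ρ x ≤ ⊤)
  rw [finrank_Rg] at h3
  omega

/-- the action on the supports -/
theorem exists_perm (D : LinDat ρ e X) (ht : t.Prime) (htF : (t : F) ≠ 0) (hf : Fm ρ e H t m f)
    (hst : ∀ h ∈ H, ∀ i, ∃ i', (Rg ρ (f i)).map (ρ h) = Rg ρ (f i')) {π : Set ℕ} (hH : IsPiHall π H) :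
    ∃ φ : H →* Equiv.Perm (Fin m), (∀ (h : H) i, (Rg ρ (f i)).map (ρ h) = Rg ρ (f (φ h i))) ∧
      IsPiHall π φ.range := by
  classical
  let N : Subgroup Y :=
    { carrier := {y | ∃ σ : Equiv.Perm (Fin m), ∀ i, (Rg ρ (f i)).map (ρ y) = Rg ρ (f (σ i))}
      mul_mem' := by
        rintro x y ⟨σ, hσ⟩ ⟨τ, hτ⟩
        refine ⟨σ * τ, fun i => ?_⟩
        rw [map_mul, Module.End.mul_eq_comp, Submodule.map_comp, hτ, hσ]
        rfl
      one_mem' := ⟨1, fun i => by
        rw [map_one, Module.End.one_eq_id, Submodule.map_id]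
        rfl⟩
      inv_mem' := by
        rintro x ⟨σ, hσ⟩
        refine ⟨σ⁻¹, fun i => ?_⟩
        have h1 := hσ (σ⁻¹ i)
        rw [show σ (σ⁻¹ i) = i from σ.apply_symm_apply i] at h1
        rw [← h1, ← Submodule.map_comp, ← Module.End.mul_eq_comp, ← map_mul, inv_mul_cancel, map_one,
          Module.End.one_eq_id, Submodule.map_id] }
  have hinj : ∀ {i j}, Rg ρ (f i) = Rg ρ (f j) → i = j := fun h => frame_inj D ht htF hf h
  have hmapinj : ∀ y : Y, Function.Injective (fun W : Submodule F V => W.map (ρ y)) := by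
    intro y W W' h
    have h1 := congrArg (fun U : Submodule F V => U.map (ρ y⁻¹)) h
    simp only [← Submodule.map_comp, ← Module.End.mul_eq_comp, ← map_mul, inv_mul_cancel, map_one,
      Module.End.one_eq_id, Submodule.map_id] at h1
    exact h1
  choose s hs using fun y : N => y.2
  have huniq : ∀ (y : N) (σ : Equiv.Perm (Fin m)), (∀ i, (Rg ρ (f i)).map (ρ y) = Rg ρ (f (σ i))) → s y = σ := by
    intro y σ hσ
    ext i
    have h1 := (hs y i).symm.trans (hσ i)
    rw [hinj h1]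
  let φ : N →* Equiv.Perm (Fin m) :=
    { toFun := s
      map_one' := huniq 1 1 fun i => by
        show (Rg ρ (f i)).map (ρ (1 : Y)) = _
        rw [map_one, Module.End.one_eq_id, Submodule.map_id]
        rfl
      map_mul' := fun x y => huniq (x * y) (s x * s y) fun i => by
        show (Rg ρ (f i)).map (ρ ((x : Y) * (y : Y))) = _
        rw [map_mul, Module.End.mul_eq_comp, Submodule.map_comp, hs y, hs x]
        rfl }
  have hφ : Function.Surjective φ := by
    intro σ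
    obtain ⟨y, hy⟩ := hf.perm σ
    have h1 : ∀ i, (Rg ρ (f i)).map (ρ y) = Rg ρ (f (σ i)) := fun i => by rw [← hy i, Rg_conj]
    exact ⟨⟨y, σ, h1⟩, huniq _ σ h1⟩
  have hHN : H ≤ N := by
    intro h hh
    choose g hg using hst h hh
    have hgi : Function.Injective g := by
      intro i j hij
      apply hinj
      apply hmapinj h
      show (Rg ρ (f i)).map (ρ h) = (Rg ρ (f j)).map (ρ h)
      rw [hg, hg, hij]
    exact ⟨Equiv.ofBijective g (Finite.injective_iff_bijective.mp hgi), fun i => hg i⟩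
  refine ⟨φ.comp (Subgroup.inclusion hHN), fun h i => hs (Subgroup.inclusion hHN h) i, ?_⟩
  have h0 : (φ.comp (Subgroup.inclusion hHN)).range = (H.subgroupOf N).map φ := by
    ext σ
    constructor
    · rintro ⟨h, rfl⟩
      exact ⟨Subgroup.inclusion hHN h, h.2, rfl⟩
    · rintro ⟨h, hh, rfl⟩
      exact ⟨⟨h, hh⟩, rfl⟩
  rw [h0]
  refine ⟨fun p hp hd => ?_, fun p hp hpH hd => ?_⟩
  · have h1 : Nat.card ((H.subgroupOf N).map φ) ∣ Nat.card (H.subgroupOf N) :=
      Subgroup.card_map_dvd (H.subgroupOf N) φ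
    have h2 : Nat.card (H.subgroupOf N) = Nat.card H := Nat.card_congr (Subgroup.subgroupOfEquivOfLe hHN).toEquiv
    rw [h2] at h1
    exact hH.1 p hp (hd.trans h1)
  · have h1 : ((H.subgroupOf N).map φ).index ∣ (H.subgroupOf N).index := Subgroup.index_map_dvd _ hφ
    have h2 : H.relIndex N ∣ H.index := ⟨N.index, (Subgroup.relIndex_mul_index hHN).symm⟩
    exact hH.2 p hp hpH (hd.trans (h1.trans h2))

/-- the kernel -/
theorem ker_card (D : LinDat ρ e X) (ht : t.Prime) (htF : (t : F) ≠ 0) (hf : Fm ρ e H t m f) {N : Subgroup Y}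
    (hN : ∀ h ∈ N, ∀ i, ∃ j : ℕ, h * f i * h⁻¹ = f i ^ j) (u : (ZMod t)ˣ)
    (hu : ∀ h ∈ N, ∀ (i : Fin m) (j : ℕ), h * f i * h⁻¹ = f i ^ j → ∃ k : ℕ, (j : ZMod t) = (u : ZMod t) ^ k) :
    (centralizer (Set.range f)).relIndex N ∣ orderOf u ^ m := by
  have := Fact.mk ht
  have hord : ∀ i, orderOf (f i) = t := fun i => orderOf_eq_prime (hf.isZ i).1 (ne_one D ht htF (hf.isZ i))
  have hpow : ∀ i (a b : ℕ), f i ^ a = f i ^ b ↔ (a : ZMod t) = (b : ZMod t) := by
    intro i a b
    rw [pow_eq_pow_iff_modEq, hord, ZMod.natCast_eq_natCast_iff]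
  choose J hJ using fun (h : N) (i : Fin m) => hN h.1 h.2 i
  have hconj : ∀ (h g : Y) (i : Fin m) (a b : ℕ), h * f i * h⁻¹ = f i ^ a → g * f i * g⁻¹ = f i ^ b →
      (h * g) * f i * (h * g)⁻¹ = f i ^ (a * b) := by
    intro h g i a b h1 h2
    have e1 : (h * g) * f i * (h * g)⁻¹ = h * (g * f i * g⁻¹) * h⁻¹ := by group
    rw [e1, h2, ← _root_.conj_pow, h1, pow_mul]
  let ψ (i : Fin m) : N →* ZMod t :=
    { toFun := fun h => (J h i : ZMod t)
      map_one' := by
        have h1 := hJ 1 i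
        rw [Subgroup.coe_one, one_mul, inv_one, mul_one] at h1
        nth_rewrite 1 [← pow_one (f i)] at h1
        rw [hpow, Nat.cast_one] at h1
        exact h1.symm
      map_mul' := fun h g => by
        have h1 := hconj h g i _ _ (hJ h i) (hJ g i)
        have h2 := hJ (h * g) i
        rw [Subgroup.coe_mul, h1, hpow, Nat.cast_mul] at h2
        exact h2.symm }
  have hmem : ∀ (i : Fin m) (h : N), (ψ i).toHomUnits h ∈ zpowers u := by
    intro i h
    obtain ⟨k, hk⟩ := hu h.1 h.2 i _ (hJ h i)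
    refine ⟨(k : ℤ), Units.ext ?_⟩
    change ((u ^ (k : ℤ) : (ZMod t)ˣ) : ZMod t) = (J h i : ZMod t)
    rw [zpow_natCast, Units.val_pow_eq_pow_val]
    exact hk.symm
  let θ : N →* (Fin m → zpowers u) := MonoidHom.mk' (fun h i => ⟨(ψ i).toHomUnits h, hmem i h⟩) (by
    intro a b
    funext i
    exact Subtype.ext (map_mul _ _ _))
  have hk : θ.ker = (centralizer (Set.range f)).subgroupOf N := by
    ext h
    rw [MonoidHom.mem_ker, mem_subgroupOf, mem_centralizer_iff]
    have h1 : θ h = 1 ↔ ∀ i, (J h i : ZMod t) = 1 := by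
      constructor
      · intro h1 i
        have h2 := congrArg (fun g : Fin m → zpowers u => ((g i : (ZMod t)ˣ) : ZMod t)) h1
        exact h2
      · intro h1
        funext i
        exact Subtype.ext (Units.ext (h1 i))
    rw [h1]
    constructor
    · rintro h2 _ ⟨i, rfl⟩
      have h3 := hJ h i
      have h4 := h2 i
      rw [← Nat.cast_one, ← hpow i, pow_one] at h4
      rw [h4, mul_inv_eq_iff_eq_mul] at h3
      exact h3.symm
    · intro h2 i
      have h3 := h2 (f i) ⟨i, rfl⟩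
      have h4 : (h : Y) * f i * (h : Y)⁻¹ = f i := by rw [← h3, mul_inv_cancel_right]
      rw [hJ h i] at h4
      rw [← Nat.cast_one, ← hpow i, pow_one]
      exact h4
  have hc : Nat.card (Fin m → zpowers u) = orderOf u ^ m := by
    rw [Nat.card_fun, Nat.card_zpowers, Nat.card_eq_fintype_card, Fintype.card_fin]
  have h2 : (centralizer (Set.range f)).relIndex N = Nat.card θ.range := by
    rw [relIndex, ← hk, Subgroup.index_ker]
  rw [h2, ← hc]
  exact Subgroup.card_subgroup_dvd_card _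

end gen

/-- an odd Hall subgroup of a symmetric group involves at most one prime -/
theorem one_prime {π : Set ℕ} (h2 : 2 ∉ π) {a : ℕ} (hE : IsEPiGroup π (Equiv.Perm (Fin a))) {r s : ℕ} (hr : r.Prime)
    (hs : s.Prime) (hrπ : r ∈ π) (hsπ : s ∈ π) (hra : r ≤ a) (hsa : s ≤ a) : r = s := by
  by_contra hne
  have h1 : 2 ≤ a := hr.two_le.trans hra
  have hr3 : r ≠ 2 := fun h => h2 (h ▸ hrπ)
  have hr' := hr.two_le
  rcases (Cfsg.Agent.S2536.result a π ⟨r, s, hr, hs, hne, hrπ, hsπ, hra, hsa⟩ ⟨2, Nat.prime_two, h1, h2⟩).1 hE with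
    ⟨-, h⟩ | ⟨-, h⟩
  · exact h2 ((h 2 Nat.prime_two h1).2 (by omega))
  · exact h2 ((h 2 Nat.prime_two h1).2 (Or.inl rfl))

/-- **Task G** -/
theorem relIndex_Cz {F : Type} [Field F] [Fintype F] {n q a t : ℕ} {π : Set ℕ} (hF : Fintype.card F = q ^ 2)
    (h2 : 2 ∉ π) (hp : ∀ r ∈ π, r.Prime → (r : F) ≠ 0)
    {H : Subgroup (GU n F q)} (hH : IsPiHall π H) {z : Fin a → GU n F q} (hz : Fr q H t a z)
    (hpow : ∀ (h : GU n F q) (i : Fin a) (j : ℕ), h * z i * h⁻¹ = z i ^ j → ∃ k : ℕ, (j : ZMod t) = (-(q : ZMod t)) ^ k) :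
    ∃ s k : ℕ, s.Prime ∧ (∀ r ∈ π, r.Prime → r ≤ a → r = s) ∧ (Cz z).relIndex H ∣ eU q t ^ a * s ^ k ∧
      s ^ k ∣ a.factorial ∧
      ((∃ i, ∀ h ∈ H, (Rg (rU n F q) (z i)).map (rU n F q h) = Rg (rU n F q) (z i)) ∨ 1 ≤ k ∧ s ∈ π ∧ s ∣ a) := by
  have ht := hz.ht
  have := Fact.mk ht
  have D := linDat_GU (n := n) hF
  have ha : 0 < a := pos D ht hz.odd hz.ne (hz.dvd.trans (card_subgroup_dvd_card H)) hz.fm
  have hHC : HC F H := ⟨S0205.result (odd_of_piN h2 hH.1), fun r hr hd => ⟨by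
    rintro rfl
    exact h2 (hH.1 2 hr hd), hp r (hH.1 r hr hd) hr⟩⟩
  obtain ⟨φ, hφ, hφH⟩ := exists_perm D ht hz.ne hz.fm hz.st hH
  have hE : IsEPiGroup π (Equiv.Perm (Fin a)) := ⟨_, hφH⟩
  obtain ⟨s, hs, hs1⟩ : ∃ s : ℕ, s.Prime ∧ ∀ r ∈ π, r.Prime → r ≤ a → r = s := by
    by_cases h : ∃ s ∈ π, s.Prime ∧ s ≤ a
    · obtain ⟨s, hsπ, hs, hsa⟩ := h
      exact ⟨s, hs, fun r hrπ hr hra => one_prime h2 hE hr hs hrπ hsπ hra hsa⟩
    · push Not at h
      exact ⟨2, Nat.prime_two, fun r hrπ hr hra => absurd hra (by have := h r hrπ hr; omega)⟩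
  have hcard : Nat.card φ.range ∣ a.factorial := by
    have := Subgroup.card_subgroup_dvd_card φ.range
    rwa [Nat.card_perm, Nat.card_fin] at this
  obtain ⟨k, hk⟩ : ∃ k : ℕ, Nat.card φ.range = s ^ k := by
    refine ⟨_, Nat.eq_prime_pow_of_unique_prime_dvd Nat.card_pos.ne' fun {d} hd hdP => ?_⟩
    exact hs1 d (hφH.1 d hd hdP) hd ((Nat.Prime.dvd_factorial hd).1 (hdP.trans hcard))
  have := Fact.mk hs
  -- the unit
  have hq0 : -(q : ZMod t) ≠ 0 := q_ne hF ht hz.ne
  let u : (ZMod t)ˣ := Units.mk0 (-(q : ZMod t)) hq0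
  have hou : orderOf u = eU q t := by rw [← orderOf_units]; rfl
  let N : Subgroup (GU n F q) := φ.ker.map H.subtype
  have hNH : N ≤ H := Subgroup.map_subtype_le _
  have hCN : Cz z ⊓ H ≤ N := by
    rintro h ⟨h1, h3⟩
    refine ⟨⟨h, h3⟩, ?_, rfl⟩
    rw [SetLike.mem_coe, MonoidHom.mem_ker]
    ext i
    congr 1
    apply frame_inj D ht hz.ne hz.fm
    rw [← hφ ⟨h, h3⟩ i]
    have h4 : h * z i * h⁻¹ = z i := by
      rw [mul_inv_eq_iff_eq_mul]
      exact (mem_centralizer_iff.1 h1 (z i) ⟨i, rfl⟩).symm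
    change (Rg (rU n F q) (z i)).map (rU n F q h) = _
    rw [← Rg_conj, h4]
    rfl
  have hNc : ∀ h ∈ N, ∀ i, ∃ j : ℕ, h * z i * h⁻¹ = z i ^ j := by
    rintro _ ⟨h, hh, rfl⟩ i
    refine conj_pow D hHC ht hz.odd hz.ne (hz.fm.isZ i) (hz.fm.mem i) h.2 ?_
    have := hφ h i
    rw [SetLike.mem_coe, MonoidHom.mem_ker] at hh
    rw [hh] at this
    exact this
  have h3 := ker_card D ht hz.ne hz.fm hNc u (fun h _ i j hj => by
    obtain ⟨k, hk⟩ := hpow h i j hj
    exact ⟨k, hk⟩)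
  rw [hou] at h3
  have h4 : (Cz z).relIndex H = (Cz z).relIndex N * N.relIndex H := by
    rw [← Subgroup.inf_relIndex_right (Cz z) H, ← Subgroup.relIndex_mul_relIndex _ _ _ hCN hNH]
    congr 1
    rw [← Subgroup.inf_relIndex_right (Cz z) N, ← Subgroup.inf_relIndex_right (Cz z ⊓ H) N]
    congr 1
    rw [inf_assoc, inf_eq_right.2 hNH]
  have h5 : N.relIndex H = s ^ k := by
    rw [← hk]
    have : N.subgroupOf H = φ.ker := by
      rw [subgroupOf, Subgroup.comap_map_eq_self_of_injective H.subtype_injective]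
    rw [relIndex, this, Subgroup.index_ker]
  refine ⟨s, k, hs, hs1, ?_, hk ▸ hcard, ?_⟩
  · rw [h4, h5]
    exact Nat.mul_dvd_mul_right h3 _
  · by_cases hfix : ∃ i, ∀ h ∈ H, (Rg (rU n F q) (z i)).map (rU n F q h) = Rg (rU n F q) (z i)
    · exact Or.inl hfix
    · right
      have hfix' : ∀ i : Fin a, ∃ g : φ.range, (g : Equiv.Perm (Fin a)) i ≠ i := by
        intro i
        by_contra hcon
        push Not at hcon
        apply hfix
        refine ⟨i, fun h hh => ?_⟩
        have h6 := hφ ⟨h, hh⟩ i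
        rw [hcon ⟨φ ⟨h, hh⟩, ⟨_, rfl⟩⟩] at h6
        exact h6
      have hk1 : 1 ≤ k := by
        by_contra hk0
        have : k = 0 := by omega
        rw [this, pow_zero] at hk
        obtain ⟨g, hg⟩ := hfix' ⟨0, ha⟩
        have h6 := (Nat.card_eq_one_iff_unique.1 hk).1
        apply hg
        rw [show g = 1 from Subsingleton.elim _ _]
        rfl
      have hsπ : s ∈ π := hφH.1 s hs (hk ▸ dvd_pow_self s (by omega))
      refine ⟨hk1, hsπ, ?_⟩
      by_contra hsa
      have hpg : IsPGroup s φ.range := IsPGroup.of_card hk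
      obtain ⟨i, hi⟩ := hpg.nonempty_fixed_point_of_prime_not_dvd_card (Fin a) (by
        rw [Nat.card_eq_fintype_card, Fintype.card_fin]
        exact hsa)
      obtain ⟨g, hg⟩ := hfix' i
      exact hg (hi g)

end Cfsg.Agent.H125.DPi.RelCz
end

-- part: H491/DP/NumU
section
/-!
# S4247, row PSU, piece I: the numbers (helper491)
-/

set_option autoImplicit false

namespace Cfsg.Agent.H491.DP

open Cfsg.Agent.H715.DPU (tU)

theorem two_f_le {p f q : ℕ} (hp : p.Prime) (hf : 1 ≤ f) (hq : q = p ^ f) : 2 * f ≤ q := by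
  rw [hq]
  refine le_trans ?_ (Nat.pow_le_pow_left hp.two_le f)
  clear hq
  induction f, hf using Nat.le_induction with
  | base => norm_num
  | succ f hf ih => rw [pow_succ]; omega

theorem crude_step {q d : ℕ} (hq : 2 ≤ q) (hd : 1 ≤ d) (h : 3 * (d * (q ^ d + 1)) * q ≤ 2 * (q ^ d) ^ 2) :
    3 * ((d + 1) * (q ^ (d + 1) + 1)) * q ≤ 2 * (q ^ (d + 1)) ^ 2 := by
  rw [pow_succ]
  generalize q ^ d = Q at h
  have h1 : (d + 1) * (Q * q + 1) ≤ (d * (Q + 1)) * q ^ 2 := by
    calc (d + 1) * (Q * q + 1) ≤ (d * q) * ((Q + 1) * q) := by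
          apply Nat.mul_le_mul
          · nlinarith only [hq, hd]
          · linarith only [hq]
      _ = (d * (Q + 1)) * q ^ 2 := by ring
  calc 3 * ((d + 1) * (Q * q + 1)) * q ≤ 3 * ((d * (Q + 1)) * q ^ 2) * q := by
        exact Nat.mul_le_mul_right _ (Nat.mul_le_mul_left _ h1)
    _ = (3 * (d * (Q + 1)) * q) * q ^ 2 := by ring
    _ ≤ (2 * Q ^ 2) * q ^ 2 := Nat.mul_le_mul_right _ h
    _ = 2 * (Q * q) ^ 2 := by ring

theorem crude {q d : ℕ} (h : (q = 2 ∧ 4 ≤ d) ∨ (3 ≤ q ∧ 3 ≤ d)) : 3 * (d * (q ^ d + 1)) * q ≤ 2 * (q ^ d) ^ 2 := by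
  rcases h with ⟨rfl, hd⟩ | ⟨hq, hd⟩
  · induction d, hd using Nat.le_induction with
    | base => norm_num
    | succ d hd ih => exact crude_step le_rfl (by omega) ih
  · induction d, hd using Nat.le_induction with
    | base =>
      have h9 : 9 ≤ q ^ 2 := by nlinarith
      have h3 : 1 ≤ q ^ 3 := Nat.one_le_pow _ _ (by omega)
      have h4 : 9 * (q ^ 3 + 1) ≤ 2 * (q ^ 2 * q ^ 3) := by nlinarith
      calc 3 * (3 * (q ^ 3 + 1)) * q = (9 * (q ^ 3 + 1)) * q := by ring
        _ ≤ (2 * (q ^ 2 * q ^ 3)) * q := Nat.mul_le_mul_right _ h4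
        _ = 2 * (q ^ 3) ^ 2 := by ring
    | succ d hd ih => exact crude_step (by omega) (by omega) ih

theorem tU_le (q d : ℕ) : tU q d ≤ q ^ d + 1 := by
  unfold tU
  split_ifs
  · omega
  · exact le_rfl

theorem tU_bound {q d : ℕ} (h : (q = 2 ∧ 4 ≤ d) ∨ (3 ≤ q ∧ 2 ≤ d)) : 3 * (d * tU q d) * q ≤ 2 * (q ^ d) ^ 2 := by
  by_cases h3 : 3 ≤ d
  · refine le_trans ?_ (crude (q := q) (d := d) (by omega))
    exact Nat.mul_le_mul_right _ (Nat.mul_le_mul_left _ (Nat.mul_le_mul_left _ (tU_le q d)))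
  · obtain rfl : d = 2 := by omega
    have hq : 3 ≤ q := by omega
    have h1 : tU q 2 = q ^ 2 - 1 := by
      unfold tU
      rw [if_pos (by decide)]
    rw [h1]
    have h2 : 3 * (q ^ 2 - 1) ≤ q ^ 3 := by
      have h3 : 3 * q ^ 2 ≤ q ^ 3 := by
        calc 3 * q ^ 2 ≤ q * q ^ 2 := Nat.mul_le_mul_right _ hq
          _ = q ^ 3 := by ring
      omega
    calc 3 * (2 * (q ^ 2 - 1)) * q = 2 * q * (3 * (q ^ 2 - 1)) := by ring
      _ ≤ 2 * q * q ^ 3 := Nat.mul_le_mul_left _ h2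
      _ = 2 * (q ^ 2) ^ 2 := by ring

/-- the engine -/
theorem engine {L C u Q a x q α β : ℕ} (hL : 3 * L ^ 2 ≤ C * (3 * u ^ 2) ^ a) (hα : α * (3 * u ^ 2) ≤ β * Q ^ 4)
    (hN : Q ^ a = q * x) (hx : 16 ≤ x) (hαp : 0 < α) (hE : 8 * C * β ^ a * q ^ 2 ≤ 21 * α ^ a) :
    L ≤ Q ^ a * (x - 1) := by
  obtain ⟨y, rfl⟩ : ∃ y, x = y + 1 := ⟨x - 1, by omega⟩
  rw [Nat.add_sub_cancel]
  by_contra hlt
  push Not at hlt
  set N := Q ^ a with hNd
  have h1 : α ^ a * (3 * u ^ 2) ^ a ≤ β ^ a * N ^ 4 := by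
    calc α ^ a * (3 * u ^ 2) ^ a = (α * (3 * u ^ 2)) ^ a := (mul_pow _ _ _).symm
      _ ≤ (β * Q ^ 4) ^ a := Nat.pow_le_pow_left hα a
      _ = β ^ a * N ^ 4 := by rw [mul_pow, hNd, ← pow_mul, ← pow_mul, mul_comm 4 a]
  have h2 : 3 * L ^ 2 * α ^ a ≤ C * β ^ a * N ^ 4 := by
    calc 3 * L ^ 2 * α ^ a ≤ C * (3 * u ^ 2) ^ a * α ^ a := Nat.mul_le_mul_right _ hL
      _ = C * (α ^ a * (3 * u ^ 2) ^ a) := by ring
      _ ≤ C * (β ^ a * N ^ 4) := Nat.mul_le_mul_left _ h1
      _ = C * β ^ a * N ^ 4 := by ring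
  have h3 : (N * y) ^ 2 < L ^ 2 := Nat.pow_lt_pow_left hlt (by norm_num)
  have h4 : 7 * (y + 1) ^ 2 ≤ 8 * y ^ 2 := by nlinarith only [hx]
  have hpos : 0 < α ^ a := pow_pos hαp a
  have h5 : 21 * α ^ a * (N ^ 2 * (y + 1) ^ 2) < 8 * (3 * L ^ 2 * α ^ a) := by
    calc 21 * α ^ a * (N ^ 2 * (y + 1) ^ 2) = 3 * α ^ a * N ^ 2 * (7 * (y + 1) ^ 2) := by ring
      _ ≤ 3 * α ^ a * N ^ 2 * (8 * y ^ 2) := Nat.mul_le_mul_left _ h4
      _ = 24 * α ^ a * (N * y) ^ 2 := by ring
      _ < 24 * α ^ a * L ^ 2 := Nat.mul_lt_mul_of_pos_left h3 (by positivity)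
      _ = 8 * (3 * L ^ 2 * α ^ a) := by ring
  have h6 : 8 * (3 * L ^ 2 * α ^ a) ≤ 8 * C * β ^ a * q ^ 2 * (N ^ 2 * (y + 1) ^ 2) := by
    calc 8 * (3 * L ^ 2 * α ^ a) ≤ 8 * (C * β ^ a * N ^ 4) := Nat.mul_le_mul_left _ h2
      _ = 8 * C * β ^ a * (N ^ 2 * N ^ 2) := by ring
      _ = 8 * C * β ^ a * (N ^ 2 * (q * (y + 1)) ^ 2) := by rw [hN]
      _ = 8 * C * β ^ a * q ^ 2 * (N ^ 2 * (y + 1) ^ 2) := by ring
  have h7 := Nat.mul_le_mul_right (N ^ 2 * (y + 1) ^ 2) hE
  omega

theorem hE2 {q a : ℕ} (hq : 2 ≤ q) (ha : 3 ≤ a) :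
    8 * (q ^ 2 * (q - 1) ^ 2) * 4 ^ a * q ^ 2 ≤ 21 * (3 * q ^ 2) ^ a := by
  have h1 : (q - 1) ^ 2 ≤ q ^ 2 := Nat.pow_le_pow_left (Nat.sub_le _ _) 2
  induction a, ha using Nat.le_induction with
  | base =>
    calc 8 * (q ^ 2 * (q - 1) ^ 2) * 4 ^ 3 * q ^ 2 ≤ 8 * (q ^ 2 * q ^ 2) * 4 ^ 3 * q ^ 2 :=
          Nat.mul_le_mul_right _ (Nat.mul_le_mul_right _ (Nat.mul_le_mul_left _ (Nat.mul_le_mul_left _ h1)))
      _ = 512 * q ^ 6 := by ring
      _ ≤ 567 * q ^ 6 := Nat.mul_le_mul_right _ (by norm_num)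
      _ = 21 * (3 * q ^ 2) ^ 3 := by ring
  | succ a ha ih =>
    have h2 : 4 ≤ 3 * q ^ 2 := by nlinarith only [hq]
    calc 8 * (q ^ 2 * (q - 1) ^ 2) * 4 ^ (a + 1) * q ^ 2 = (8 * (q ^ 2 * (q - 1) ^ 2) * 4 ^ a * q ^ 2) * 4 := by ring
      _ ≤ (21 * (3 * q ^ 2) ^ a) * (3 * q ^ 2) := Nat.mul_le_mul ih h2
      _ = 21 * (3 * q ^ 2) ^ (a + 1) := by ring

theorem hE1 {q a : ℕ} (hq : 5 ≤ q) (ha : 5 ≤ a) :
    8 * (q ^ 2 * (q - 1) ^ 2) * 108 ^ a * q ^ 2 ≤ 21 * (25 * q ^ 2) ^ a := by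
  have h1 : (q - 1) ^ 2 ≤ q ^ 2 := Nat.pow_le_pow_left (Nat.sub_le _ _) 2
  induction a, ha using Nat.le_induction with
  | base =>
    have h4 : 5 ^ 4 ≤ q ^ 4 := Nat.pow_le_pow_left hq 4
    calc 8 * (q ^ 2 * (q - 1) ^ 2) * 108 ^ 5 * q ^ 2 ≤ 8 * (q ^ 2 * q ^ 2) * 108 ^ 5 * q ^ 2 :=
          Nat.mul_le_mul_right _ (Nat.mul_le_mul_right _ (Nat.mul_le_mul_left _ (Nat.mul_le_mul_left _ h1)))
      _ = 117546246144 * q ^ 6 := by ring
      _ ≤ (205078125 * 5 ^ 4) * q ^ 6 := Nat.mul_le_mul_right _ (by norm_num)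
      _ ≤ (205078125 * q ^ 4) * q ^ 6 := Nat.mul_le_mul_right _ (Nat.mul_le_mul_left _ h4)
      _ = 21 * (25 * q ^ 2) ^ 5 := by ring
  | succ a ha ih =>
    have h2 : 108 ≤ 25 * q ^ 2 := by nlinarith only [hq]
    calc 8 * (q ^ 2 * (q - 1) ^ 2) * 108 ^ (a + 1) * q ^ 2 = (8 * (q ^ 2 * (q - 1) ^ 2) * 108 ^ a * q ^ 2) * 108 := by ring
      _ ≤ (21 * (25 * q ^ 2) ^ a) * (25 * q ^ 2) := Nat.mul_le_mul ih h2
      _ = 21 * (25 * q ^ 2) ^ (a + 1) := by ring

theorem hE4 {a : ℕ} (ha : 6 ≤ a) : 8 * (4 ^ 2 * (4 - 1) ^ 2) * 75 ^ a * 4 ^ 2 ≤ 21 * 256 ^ a := by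
  induction a, ha using Nat.le_induction with
  | base => norm_num
  | succ a ha ih =>
    calc 8 * (4 ^ 2 * (4 - 1) ^ 2) * 75 ^ (a + 1) * 4 ^ 2 = (8 * (4 ^ 2 * (4 - 1) ^ 2) * 75 ^ a * 4 ^ 2) * 75 := by ring
      _ ≤ (21 * 256 ^ a) * 256 := Nat.mul_le_mul ih (by norm_num)
      _ = 21 * 256 ^ (a + 1) := by ring

theorem sq_bound {c q t d a S : ℕ} (hc : c ≤ q) (ha : 1 ≤ a) (hS : S ^ 2 ≤ 3 ^ (a - 1)) :
    3 * (c * t ^ a * (d ^ a * S) * (q - 1)) ^ 2 ≤ (q ^ 2 * (q - 1) ^ 2) * (3 * (d * t) ^ 2) ^ a := by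
  obtain ⟨b, rfl⟩ : ∃ b, a = b + 1 := ⟨a - 1, by omega⟩
  rw [Nat.add_sub_cancel] at hS
  calc 3 * (c * t ^ (b + 1) * (d ^ (b + 1) * S) * (q - 1)) ^ 2
      = 3 * (c ^ 2 * ((d * t) ^ 2) ^ (b + 1) * (q - 1) ^ 2) * S ^ 2 := by ring
    _ ≤ 3 * (q ^ 2 * ((d * t) ^ 2) ^ (b + 1) * (q - 1) ^ 2) * 3 ^ b := by
      apply Nat.mul_le_mul _ hS
      exact Nat.mul_le_mul_left _ (Nat.mul_le_mul_right _ (Nat.mul_le_mul_right _ (Nat.pow_le_pow_left hc 2)))
    _ = (q ^ 2 * (q - 1) ^ 2) * (3 * (d * t) ^ 2) ^ (b + 1) := by rw [mul_pow 3]; ring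

theorem pow_le_five {s k : ℕ} (hs : s.Prime) (hs2 : s ≠ 2) (hk : s ^ k ∣ 120) : s ^ k ≤ 5 := by
  rcases Nat.eq_zero_or_pos k with rfl | hk0
  · norm_num
  · have h1 : s ∣ 120 := dvd_trans (dvd_pow_self s hk0.ne') hk
    have h2 : s = 3 ∨ s = 5 := by
      rw [show 120 = 2 ^ 3 * (3 * 5) by norm_num] at h1
      rcases (hs.dvd_mul).1 h1 with h | h
      · exact absurd ((Nat.prime_dvd_prime_iff_eq hs Nat.prime_two).1 (hs.dvd_of_dvd_pow h)) hs2
      · rcases (hs.dvd_mul).1 h with h | h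
        · exact Or.inl ((Nat.prime_dvd_prime_iff_eq hs Nat.prime_three).1 h)
        · exact Or.inr ((Nat.prime_dvd_prime_iff_eq hs Nat.prime_five).1 h)
    have h3 : k = 1 := by
      by_contra h
      have h4 : s ^ 2 ∣ 120 := dvd_trans (pow_dvd_pow s (by omega)) hk
      rcases h2 with rfl | rfl <;> norm_num at h4
    rw [h3, pow_one]
    omega

/-- `a ≥ 3` -/
theorem main3 {c q d a n s k : ℕ} (hc : c ≤ q) (hn : n = a * d) (h5 : 5 ≤ n) (ha : 3 ≤ a) (hs : s.Prime)
    (hs2 : s ≠ 2) (hk : s ^ k ∣ a.factorial) (hq : 2 ≤ q) (h2 : q = 2 → 4 ≤ d) (h3 : q = 3 → 2 ≤ d) :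
    c * tU q d ^ a * (d ^ a * s ^ k) * (q - 1) ≤ q ^ n * (q ^ (n - 1) - 1) := by
  have hs3 : 3 ≤ s := by
    have := hs.two_le
    omega
  have hS := fact_bound hs hs3 hk
  have hsq := sq_bound (t := tU q d) (d := d) hc (by omega) hS
  have hN : (q ^ d) ^ a = q * q ^ (n - 1) := by
    rw [← pow_mul, ← pow_succ', Nat.sub_add_cancel (by omega), hn, mul_comm]
  have hN' : q ^ n = (q ^ d) ^ a := by rw [← pow_mul, hn, mul_comm]
  have hx : 16 ≤ q ^ (n - 1) := by
    calc 16 = 2 ^ 4 := by norm_num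
      _ ≤ q ^ 4 := Nat.pow_le_pow_left hq 4
      _ ≤ q ^ (n - 1) := Nat.pow_le_pow_right (by omega) (by omega)
  rw [hN']
  by_cases hd : d = 1
  · subst hd
    have han : a = n := by omega
    have ht : tU q 1 = q + 1 := by
      unfold tU
      rw [if_neg (by decide), pow_one]
    by_cases hq4 : q = 4
    · subst hq4
      by_cases ha5 : a = 5
      · subst ha5
        subst han
        have h6 := pow_le_five hs hs2 (show s ^ k ∣ 120 from hk)
        rw [ht]
        calc c * (4 + 1) ^ 5 * (1 ^ 5 * s ^ k) * (4 - 1) ≤ 4 * (4 + 1) ^ 5 * (1 ^ 5 * 5) * (4 - 1) :=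
              Nat.mul_le_mul_right _ (Nat.mul_le_mul (Nat.mul_le_mul_right _ hc) (Nat.mul_le_mul_left _ h6))
          _ ≤ (4 ^ 1) ^ 5 * (4 ^ (5 - 1) - 1) := by norm_num
      · refine engine (α := 256) (β := 75) hsq ?_ hN hx (by norm_num) (hE4 (by omega))
        rw [ht]
        norm_num
    · have hq5 : 5 ≤ q := by
        by_contra h
        have : q = 2 ∨ q = 3 := by omega
        rcases this with h' | h'
        · have := h2 h'; omega
        · have := h3 h'; omega
      refine engine (α := 25 * q ^ 2) (β := 108) hsq ?_ hN hx (by positivity) (hE1 hq5 (by omega))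
      rw [ht, one_mul, pow_one]
      have h6 : 5 * (q + 1) ≤ 6 * q := by omega
      have h7 : (5 * (q + 1)) ^ 2 ≤ (6 * q) ^ 2 := Nat.pow_le_pow_left h6 2
      calc 25 * q ^ 2 * (3 * (q + 1) ^ 2) = 3 * q ^ 2 * (5 * (q + 1)) ^ 2 := by ring
        _ ≤ 3 * q ^ 2 * (6 * q) ^ 2 := Nat.mul_le_mul_left _ h7
        _ = 108 * q ^ 4 := by ring
  · have hd2 : 2 ≤ d := by
      rcases Nat.eq_zero_or_pos d with h | h
      · rw [h, mul_zero] at hn; omega
      · omega
    have hA := tU_bound (q := q) (d := d) (by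
      by_cases h : q = 2
      · exact Or.inl ⟨h, h2 h⟩
      · exact Or.inr ⟨by omega, hd2⟩)
    refine engine (α := 3 * q ^ 2) (β := 4) hsq ?_ hN hx (by positivity) (hE2 hq ha)
    calc 3 * q ^ 2 * (3 * (d * tU q d) ^ 2) = (3 * (d * tU q d) * q) ^ 2 := by ring
      _ ≤ (2 * (q ^ d) ^ 2) ^ 2 := Nat.pow_le_pow_left hA 2
      _ = 4 * (q ^ d) ^ 4 := by ring

theorem small {q n : ℕ} (hq : 2 ≤ q) (hn : 5 ≤ n) : q * (q - 1) * n + 1 < q ^ (n - 1) := by
  obtain ⟨r, rfl⟩ : ∃ r, q = r + 2 := ⟨q - 2, by omega⟩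
  rw [show r + 2 - 1 = r + 1 by omega]
  induction n, hn using Nat.le_induction with
  | base =>
    rw [show 5 - 1 = 4 by norm_num]
    have : (r + 2) ^ 4 = r ^ 4 + 8 * r ^ 3 + 24 * r ^ 2 + 32 * r + 16 := by ring
    rw [this]
    linarith only [Nat.zero_le (r ^ 4), Nat.zero_le (r ^ 3), _root_.sq_nonneg (↑r : ℤ), _root_.Nat.cast_nonneg (α := ℤ) (r)]
  | succ n hn ih =>
    obtain ⟨m, rfl⟩ : ∃ m, n = m + 1 := ⟨n - 1, by omega⟩
    rw [Nat.add_sub_cancel] at ih ⊢
    have h1 : r + 2 ≤ (r + 2) ^ m := Nat.le_self_pow (by omega) _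
    calc (r + 2) * (r + 1) * (m + 1 + 1) + 1 = ((r + 2) * (r + 1) * (m + 1) + 1) + (r + 2) * (r + 1) := by ring
      _ < (r + 2) ^ m + (r + 2) ^ m * (r + 1) := Nat.add_lt_add_of_lt_of_le ih (Nat.mul_le_mul_right _ h1)
      _ = (r + 2) ^ (m + 1) := by ring

theorem R0_lt {q n : ℕ} (hq : 2 ≤ q) (hn : 3 ≤ n) :
    ((q ^ n * (q ^ (n - 1) - 1) : ℕ) : ℤ) < Cfsg.Agent.H77.Step1.In q n := by
  obtain ⟨m, rfl⟩ : ∃ m, n = m + 2 := ⟨n - 2, by omega⟩
  unfold Cfsg.Agent.H77.Step1.In
  rw [show m + 2 - 2 = m by omega, show m + 2 - 1 = m + 1 by omega]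
  have h1 : 1 ≤ q ^ (m + 1) := Nat.one_le_pow _ _ (by omega)
  have h2 : (1 : ℤ) ≤ (q : ℤ) ^ m := by
    exact_mod_cast Nat.one_le_pow m q (by omega)
  have hq' : (2 : ℤ) ≤ q := by exact_mod_cast hq
  have h3 : ((-1 : ℤ)) ^ (m + 2) = 1 ∨ ((-1 : ℤ)) ^ (m + 2) = -1 := neg_one_pow_eq_or ℤ _
  push_cast [Nat.cast_sub h1]
  rw [show (q : ℤ) ^ (m + 2) = (q : ℤ) ^ 2 * (q : ℤ) ^ m by ring, show (q : ℤ) ^ (m + 1) = q * (q : ℤ) ^ m by ring]
  generalize (q : ℤ) ^ m = X at h2
  have h4 : (2 : ℤ) ≤ q * X := by nlinarith only [hq, h2]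
  rcases h3 with h3 | h3 <;> rw [h3]
  · have h5 : (q : ℤ) ^ 2 * X = q * (q * X) := by ring
    rw [h5]
    nlinarith only [hq, h4]
  · linarith only [h4]

/-- Task I: numbers. -/
theorem num_psu {p f q n a d s k : ℕ} (hp : p.Prime) (hf : 1 ≤ f) (hq : q = p ^ f) (hn : n = a * d) (h5 : 5 ≤ n)
    (ha : a = 1 ∨ 3 ≤ a) (hs : s.Prime) (hs2 : s ≠ 2) (hk : s ^ k ∣ a.factorial) (h2 : q = 2 → 4 ≤ d) (h3 : q = 3 → 2 ≤ d) :
    ((2 * f * tU q d ^ a * (d ^ a * s ^ k) * (q - 1) : ℕ) : ℤ) < Cfsg.Agent.H77.Step1.In q n ∧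
      (q = 2 → Even n → 2 * tU 2 d ^ a * (d ^ a * s ^ k) < 2 ^ (n - 1) * (2 ^ n - 1)) := by
  have hc := two_f_le hp hf hq
  have hq2 : 2 ≤ q := by
    rw [hq]
    calc 2 ≤ p := hp.two_le
      _ ≤ p ^ f := Nat.le_self_pow (by omega) _
  rcases ha with rfl | ha
  · have hd : d = n := by omega
    subst hd
    have hsk : s ^ k = 1 := Nat.dvd_one.1 (by simpa using hk)
    rw [hsk, mul_one, pow_one, pow_one]
    have hsm := small hq2 h5
    have h6 : 2 * f * d * (q - 1) ≤ q * (q - 1) * d := by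
      calc 2 * f * d * (q - 1) ≤ q * d * (q - 1) := Nat.mul_le_mul_right _ (Nat.mul_le_mul_right _ hc)
        _ = q * (q - 1) * d := by ring
    constructor
    · have h1 : 1 ≤ q ^ d := Nat.one_le_pow _ _ (by omega)
      have h7 : (((2 * f * d * (q - 1) : ℕ) : ℤ)) + 1 < (q : ℤ) ^ (d - 1) := by
        have : 2 * f * d * (q - 1) + 1 < q ^ (d - 1) := by omega
        exact_mod_cast this
      have e1 : (q : ℤ) ^ 2 * (q : ℤ) ^ (d - 2) = (q : ℤ) ^ d := by
        rw [← pow_add]; congr 1; omega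
      have e2 : (q : ℤ) * (q : ℤ) ^ (d - 2) = (q : ℤ) ^ (d - 1) := by
        rw [← pow_succ']; congr 1; omega
      unfold Cfsg.Agent.H77.Step1.In
      rw [e1, e2]
      have e3 : ((2 * f * tU q d * d * (q - 1) : ℕ) : ℤ) = (tU q d : ℤ) * ((2 * f * d * (q - 1) : ℕ) : ℤ) := by
        push_cast; ring
      rw [e3]
      have h8 : (32 : ℤ) ≤ (q : ℤ) ^ d := by
        have : 32 ≤ q ^ d := by
          calc 32 = 2 ^ 5 := by norm_num
            _ ≤ q ^ 5 := Nat.pow_le_pow_left hq2 5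
            _ ≤ q ^ d := Nat.pow_le_pow_right (by omega) h5
        exact_mod_cast this
      rcases Nat.even_or_odd d with he | ho
      · have e4 : (tU q d : ℤ) = (q : ℤ) ^ d - 1 := by
          unfold tU
          rw [if_pos he, Nat.cast_sub h1]
          push_cast; ring
        rw [e4, he.neg_one_pow]
        exact mul_lt_mul_of_pos_left (by linarith only [h7]) (by linarith only [h8])
      · have e4 : (tU q d : ℤ) = (q : ℤ) ^ d + 1 := by
          unfold tU
          rw [if_neg (Nat.not_even_iff_odd.2 ho)]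
          push_cast; ring
        rw [e4, ho.neg_one_pow, sub_neg_eq_add]
        exact mul_lt_mul_of_pos_left (by linarith only [h7]) (by linarith only [h8])
    · rintro rfl he
      have h1 : 2 ≤ 2 ^ d := by
        calc 2 = 2 ^ 1 := by norm_num
          _ ≤ 2 ^ d := Nat.pow_le_pow_right (by norm_num) (by omega)
      have e4 : tU 2 d = 2 ^ d - 1 := by
        unfold tU
        rw [if_pos he]
      rw [e4, pow_one]
      calc 2 * (2 ^ d - 1) * d = (2 * (2 - 1) * d) * (2 ^ d - 1) := by ring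
        _ < 2 ^ (d - 1) * (2 ^ d - 1) := Nat.mul_lt_mul_of_pos_right (by omega) (by omega)
  · have hm := main3 hc hn h5 ha hs hs2 hk hq2 h2 h3
    refine ⟨lt_of_le_of_lt (by exact_mod_cast hm) (R0_lt hq2 (by omega)), ?_⟩
    rintro rfl -
    have hm' := main3 (c := 2) le_rfl hn h5 ha hs hs2 hk hq2 h2 h3
    rw [show 2 - 1 = 1 by norm_num, mul_one] at hm'
    refine lt_of_le_of_lt hm' ?_
    have h1 : 16 ≤ 2 ^ (n - 1) := by
      calc 16 = 2 ^ 4 := by norm_num
        _ ≤ 2 ^ (n - 1) := Nat.pow_le_pow_right (by norm_num) (by omega)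
    have h6 : 2 ^ n = 2 * 2 ^ (n - 1) := by
      rw [← pow_succ', Nat.sub_add_cancel (by omega)]
    rw [h6]
    generalize 2 ^ (n - 1) = X at h1
    obtain ⟨Y, rfl⟩ : ∃ Y, X = Y + 1 := ⟨X - 1, by omega⟩
    rw [Nat.add_sub_cancel, show 2 * (Y + 1) - 1 = 2 * Y + 1 by omega]
    linarith only []

end Cfsg.Agent.H491.DP
end

-- part: H715/DPU/Asm
section
/-!
# S4247, row PSU: assembly (helper715)
-/

set_option autoImplicit false

namespace Cfsg.Agent.H715.DPU

open Subgroup Cfsg Matrix Module Cfsg.Agent.H988.CPi Cfsg.Agent.H571.RV Cfsg.Agent.H817.DPi Cfsg.Agent.H380.RV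
  Cfsg.Agent.H553.RV Cfsg.Agent.LieClassical.HermBasic
open Cfsg.Agent.ClassicalGeometry.PSUAutBasic (pr pr_surjective)
open Cfsg.Agent.ClassicalGeometry.PSUAutCount (gm toAut gm_mul gm_inj herm_gm)

/-- `H` nilpotent implies `P` nilpotent -/
theorem Up.nil {F : Type*} [Field F] {n q : ℕ} {π : Set ℕ} {P : Subgroup (PSU n F q)} {H : Subgroup (GU n F q)}
    (hU : Up π P H) (h : Group.IsNilpotent H) : Group.IsNilpotent P := by
  have h1 : P = (H.comap (jU n F q)).map (pr n F q) := by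
    ext x
    rw [hU.mem]
    constructor
    · rintro ⟨g, hg, rfl⟩
      exact ⟨g, hg, rfl⟩
    · rintro ⟨g, hg, rfl⟩
      exact ⟨g, hg, rfl⟩
  have hj : Function.Injective (jU n F q) := by
    intro a b h
    exact Subtype.ext (Subtype.ext (congrArg (fun x : GU n F q => x.1.1) h))
  let φ : H.comap (jU n F q) →* H := (jU n F q).subgroupComap H
  have hφ : Function.Injective φ := by
    intro a b hab
    apply Subtype.ext
    apply hj
    exact congrArg (fun x : H => (x : GU n F q)) hab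
  have h2 : Group.IsNilpotent (H.comap (jU n F q)) := 
    _root_.isNilpotent_of_ker_le_center φ (by rw [(MonoidHom.ker_eq_bot_iff φ).2 hφ]; exact bot_le)
  rw [h1]
  exact Group.nilpotent_of_surjective ((pr n F q).subgroupMap (H.comap (jU n F q)))
    ((pr n F q).subgroupMap_surjective _)

theorem nil_of_le {Y : Type*} [Group Y] {H C : Subgroup Y} (hC : ∀ x ∈ C, ∀ y ∈ C, x * y = y * x)
    (h : C.relIndex H = 1) : Group.IsNilpotent H := by
  have h1 : H ≤ C := Subgroup.relIndex_eq_one.1 h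
  have hcomm : ∀ x y : H, x * y = y * x := fun x y => Subtype.ext (hC x (h1 x.2) y (h1 y.2))
  letI : CommGroup H := { (inferInstance : Group H) with mul_comm := hcomm }
  exact CommGroup.isNilpotent

theorem nil_of_pow {Y : Type*} [Group Y] [Finite Y] {H : Subgroup Y} {r : ℕ} (hr : r.Prime)
    (h : ∀ s : ℕ, s.Prime → s ∣ Nat.card H → s = r) : Group.IsNilpotent H := by
  have := Fact.mk hr
  have h1 : IsPGroup r H := by
    rw [IsPGroup.iff_card]
    refine ⟨_, Nat.eq_prime_pow_of_unique_prime_dvd Nat.card_pos.ne' fun {s} hs hd => h s hs hd⟩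
  exact h1.isNilpotent

/-- the order of `H` -/
theorem card_dvd {Y : Type*} [Group Y] [Finite Y] (H C : Subgroup Y) : Nat.card H ∣ Nat.card C * C.relIndex H := by
  have h1 := (C.subgroupOf H).card_mul_index
  have h2 : Nat.card (C.subgroupOf H) ∣ Nat.card C := by
    have h3 : Nat.card (C.subgroupOf H) = Nat.card (C ⊓ H : Subgroup Y) := by
      rw [← Subgroup.card_map_of_injective H.subtype_injective, Subgroup.subgroupOf_map_subtype]
    rw [h3]
    exact Subgroup.card_dvd_of_le inf_le_left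
  rw [← h1]
  exact mul_dvd_mul_right h2 _

/-- the data of the assembly -/
structure Dt' (F : Type) [Field F] [Fintype F] (n q a t : ℕ) (π : Set ℕ) (P : Subgroup (PSU n F q))
    (K B : Subgroup (MulAut (PSU n F q))) (H : Subgroup (GU n F q)) (z : Fin a → GU n F q) : Prop where
  hF : Fintype.card F = q ^ 2
  hn : 3 ≤ n
  h32 : ¬ (n = 3 ∧ q = 2)
  hpn : ∀ r ∈ π, r.Prime → (r : F) ≠ 0
  hc : Cfg π P K B
  hU : Up π P H
  hz : Fr q H t a z
  h5 : n = 3 → eU q t = 1 → 5 ≤ t
  hK : ∀ (A : GU n F q) (τ : F ≃+* F), toAut A τ ∈ K →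
    (∀ i, Sv A τ (At z i)) ∧ (τ = 1 → A ∈ Cz z) ∧ ((∀ x, τ x = x ^ q) → Even (eU q t))
  hb : ∀ W : Submodule F (Fin n → F), W ≠ ⊥ → W ≠ ⊤ → Nd q W → (∀ g ∈ H, ∀ w ∈ W, gm g *ᵥ w ∈ W) →
    (∀ (A : GU n F q) (τ : F ≃+* F), toAut A τ ∈ K → Sv A τ W) → False
  hCz : n = a * eU q t → (∀ x ∈ Cz z, ∀ y ∈ Cz z, x * y = y * x) ∧ Nat.card (Cz z) ∣ tU q (eU q t) ^ a

variable {F : Type} [Field F] [Fintype F] {n q a t : ℕ} {π : Set ℕ} {P : Subgroup (PSU n F q)}
    {K B : Subgroup (MulAut (PSU n F q))} {H : Subgroup (GU n F q)} {z : Fin a → GU n F q}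

theorem Dt'.nn (D : Dt' F n q a t π P K B H z) : ¬ Group.IsNilpotent H := fun h => D.hc.nnil (D.hU.nil h)

theorem Dt'.n_eq (D : Dt' F n q a t π P K B H z) : n = a * eU q t := by
  by_cases h : V1 z = ⊤
  · exact D.hz.finrank_eq h
  · exact absurd (D.hb (V1 z) (D.hz.V1_ne_bot D.hF) h (D.hz.nd_V1 D.hF) (fun g hg => D.hz.H_V1 hg)
      (fun A τ hA => Sv.iSup (D.hK A τ hA).1)) not_false

theorem Dt'.odd (D : Dt' F n q a t π P K B H z) : Odd (Nat.card H) := by
  rw [← Nat.not_even_iff_odd, even_iff_two_dvd]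
  exact fun h => D.hc.two (D.hU.hall.1 2 Nat.prime_two h)

/-- the permutation part -/
theorem Dt'.perm (D : Dt' F n q a t π P K B H z) :
    ∃ s k : ℕ, s.Prime ∧ s ≠ 2 ∧ (∀ r ∈ π, r.Prime → r ≤ a → r = s) ∧ (Cz z).relIndex H ∣ eU q t ^ a * s ^ k ∧
      s ^ k ∣ a.factorial ∧ (a = 1 ∨ 3 ≤ a ∧ s ∈ π ∧ s ∣ a) := by
  obtain ⟨s, k, hs, hsπ, hrel, hk, hfix⟩ := Cfsg.Agent.H125.DPi.RelCz.relIndex_Cz D.hF D.hc.two D.hpn D.hU.hall D.hz
    (Cfsg.Agent.H735.DPU.pow_of_conj D.hF D.hz)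
  have ha1 := D.hz.a_pos D.hF
  rcases Nat.eq_or_lt_of_le ha1 with h1 | h1
  · -- `a = 1`
    rw [← h1, Nat.factorial_one, Nat.dvd_one, Nat.pow_eq_one] at hk
    rcases hk with hk | hk
    · exact absurd hk hs.one_lt.ne'
    · refine ⟨3, 0, Nat.prime_three, by norm_num, ?_, ?_, ?_, Or.inl h1.symm⟩
      · intro r _ hr hra
        have := hr.two_le
        omega
      · rw [pow_zero]
        rw [hk, pow_zero] at hrel
        exact hrel
      · rw [pow_zero]
        exact one_dvd _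
  · have h2 : 1 ≤ k ∧ s ∈ π ∧ s ∣ a := by
      rcases hfix with ⟨i, hi⟩ | h2
      · exfalso
        refine D.hb (At z i) (D.hz.At_ne_bot D.hF i) (D.hz.At_ne_top D.n_eq h1 (by have := D.hn; omega) i)
          (D.hz.nd_At D.hF i) ?_ (fun A τ hA => (D.hK A τ hA).1 i)
        intro g hg w hw
        have h3 := hi g hg
        have h4 : rU n F q g w ∈ (Rg (rU n F q) (z i)).map (rU n F q g) := ⟨w, hw, rfl⟩
        rw [h3] at h4
        exact h4
      · exact h2
    have hs2 : s ≠ 2 := by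
      rintro rfl
      exact D.hc.two h2.2.1
    refine ⟨s, k, hs, hs2, hsπ, hrel, hk, Or.inr ⟨?_, h2.2⟩⟩
    have h3 := hs.two_le
    have h4 := Nat.le_of_dvd ha1 h2.2.2
    omega

theorem tU_pos {q d : ℕ} (hq : 2 ≤ q) (hd : 1 ≤ d) : 0 < tU q d := by
  rw [tU]
  split_ifs
  · have h1 : q ^ 1 ≤ q ^ d := Nat.pow_le_pow_right (by omega) hd
    rw [pow_one] at h1
    omega
  · omega

/-- the case `n ≥ 5` -/
theorem Dt'.big (D : Dt' F n q a t π P K B H z) (h5 : 5 ≤ n) : False := by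
  obtain ⟨p, f, hp, hch, hq, hf⟩ := exists_prime_pow D.hF
  have hq2 : 2 ≤ q := two_le D.hF
  obtain ⟨s, k, hs, hs2, hsπ, hrel, hk, ha⟩ := D.perm
  obtain ⟨hBt, κ, hκ, hκo, -, hle⟩ := index_le D.hF D.hn D.h32 hp hf hq D.hc D.hU (z := z) (t := t)
    (fun A τ hA => (D.hK A τ hA).2)
  obtain ⟨-, hCz⟩ := D.hCz D.n_eq
  have hd := D.hz.d_pos D.hF
  have hπt : t ∈ π := D.hU.hall.1 t D.hz.ht D.hz.dvd
  have hfinG : Finite (GU n F q) := LieClassical.GUOrder.finite_GU n
  -- `q = 2`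
  have hd2 : q = 2 → 4 ≤ eU q t := by
    intro h2
    by_cases hd1 : eU q t = 1
    · exfalso
      have h3 : t ∣ q + 1 := dvd_succ_of_one hd1
      rw [h2] at h3
      have ht3 : t = 3 := (Nat.prime_dvd_prime_iff_eq D.hz.ht Nat.prime_three).1 h3
      have hn := D.n_eq
      rw [hd1, mul_one] at hn
      have hs3 : 3 = s := hsπ 3 (ht3 ▸ hπt) Nat.prime_three (by omega)
      apply D.nn
      refine nil_of_pow Nat.prime_three fun r hr hrd => ?_
      have h4 := (hrd.trans (card_dvd H (Cz z))).trans (mul_dvd_mul hCz hrel)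
      rw [hd1, one_pow, one_mul, ← hs3] at h4
      have h5 : tU q 1 = 3 := by rw [tU, if_neg (by decide), h2, pow_one]
      rw [h5, ← pow_add] at h4
      exact (Nat.prime_dvd_prime_iff_eq hr Nat.prime_three).1 (hr.dvd_of_dvd_pow h4)
    · have hd1' : orderOf (-((2 : ℕ) : ZMod t)) ≠ 1 := by rw [← h2]; exact hd1
      have hd' : 1 ≤ orderOf (-((2 : ℕ) : ZMod t)) := by rw [← h2]; exact hd
      have h3 := d_two D.hz.ht D.hz.odd hd1' hd'
      rw [← h2] at h3
      exact h3
  have hd3 : q = 3 → 2 ≤ eU q t := by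
    intro h3
    by_contra hcon
    have hd1 : eU q t = 1 := by omega
    have h4 : t ∣ q + 1 := dvd_succ_of_one hd1
    rw [h3] at h4
    have h5 : t ∣ 2 ^ 2 := h4
    have h6 := (Nat.prime_dvd_prime_iff_eq D.hz.ht Nat.prime_two).1 (D.hz.ht.dvd_of_dvd_pow h5)
    have h7 := D.hz.odd
    rw [h6] at h7
    exact absurd h7 (by decide)
  have hnum := Cfsg.Agent.H491.DP.num_psu hp hf hq D.n_eq h5 (ha.imp id And.left) hs hs2 hk hd2 hd3
  have hκ1 : κ ≤ 2 * f := Nat.le_of_dvd (by omega) hκ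
  have hX : (B.comap MulAut.conj).index * (q + 1) ≤ 2 * f * tU q (eU q t) ^ a * (eU q t ^ a * s ^ k) := by
    refine hle.trans ?_
    rw [mul_assoc (2 * f)]
    refine Nat.mul_le_mul hκ1 (Nat.mul_le_mul (Nat.le_of_dvd (pow_pos (tU_pos hq2 hd) _) hCz) (Nat.le_of_dvd ?_ hrel))
    exact Nat.mul_pos (pow_pos hd _) (pow_pos hs.pos _)
  rcases Cfsg.Agent.H77.Final.lower D.hF h5 _ hBt with h | ⟨h2, hev, h⟩
  · have h1 : (((B.comap MulAut.conj).index * (q + 1) * (q - 1) : ℕ) : ℤ) =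
        (((B.comap MulAut.conj).index : ℕ) : ℤ) * ((q : ℤ) ^ 2 - 1) := by
      push_cast [Nat.cast_sub (show 1 ≤ q by omega)]
      ring
    rw [← h1] at h
    have h3 := Nat.mul_le_mul_right (q - 1) hX
    have h4 : (((B.comap MulAut.conj).index * (q + 1) * (q - 1) : ℕ) : ℤ) <
        Cfsg.Agent.H77.Step1.In q n := lt_of_le_of_lt (by exact_mod_cast h3) hnum.1
    exact absurd h (not_le.2 h4)
  · have hf1 : f = 1 := by
      by_contra hne
      have h3 : 2 ^ 2 ≤ p ^ f := (Nat.pow_le_pow_left hp.two_le 2).trans (Nat.pow_le_pow_right hp.pos (by omega))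
      omega
    have h3 := hnum.2 h2 hev
    subst h2
    rw [hf1, mul_one] at hX
    have h4 : 3 * (B.comap MulAut.conj).index < 2 ^ (n - 1) * (2 ^ n - 1) := by
      calc 3 * (B.comap MulAut.conj).index = (B.comap MulAut.conj).index * (2 + 1) := by ring
        _ ≤ _ := hX
        _ < _ := h3
    obtain ⟨m, rfl⟩ : ∃ m, n = m + 2 := ⟨n - 2, by omega⟩
    have h5' : ((3 * (B.comap MulAut.conj).index : ℕ) : ℤ) < ((2 ^ (m + 2 - 1) * (2 ^ (m + 2) - 1) : ℕ) : ℤ) := by
      exact_mod_cast h4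
    have h6 : ((2 ^ (m + 2 - 1) * (2 ^ (m + 2) - 1) : ℕ) : ℤ) = 2 * ((2 : ℤ) ^ (m + 2 - 2) * (4 * (2 : ℤ) ^ (m + 2 - 2) - 1)) := by
      rw [show m + 2 - 1 = m + 1 by omega, show m + 2 - 2 = m by omega]
      push_cast [Nat.cast_sub (show 1 ≤ 2 ^ (m + 2) from Nat.one_le_two_pow)]
      ring
    rw [h6] at h5'
    push_cast at h5'
    exact absurd h (not_le.2 h5')

/-- the torus does not contain `H` -/
theorem Dt'.rel_ne_one (D : Dt' F n q a t π P K B H z) : (Cz z).relIndex H ≠ 1 := fun h =>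
  D.nn (nil_of_le (D.hCz D.n_eq).1 h)

theorem relIndex_dvd {Y : Type*} [Group Y] (C H : Subgroup Y) : C.relIndex H ∣ Nat.card H :=
  (C.subgroupOf H).index_dvd_card

/-- the case `n = 4` -/
theorem Dt'.four (D : Dt' F n q a t π P K B H z) (h4 : n = 4) : False := by
  obtain ⟨s, k, hs, hs2, hsπ, hrel, hk, ha⟩ := D.perm
  have hn := D.n_eq
  rw [h4] at hn
  rcases ha with ha | ⟨ha3, -, hsa⟩
  · subst ha
    rw [one_mul] at hn
    rw [Nat.factorial_one, Nat.dvd_one] at hk
    rw [hk, mul_one, pow_one, ← hn] at hrel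
    have h1 : Nat.Coprime ((Cz z).relIndex H) 4 := by
      have h2 : Odd ((Cz z).relIndex H) := D.odd.of_dvd_nat (relIndex_dvd _ _)
      rw [Nat.coprime_comm, show (4 : ℕ) = 2 ^ 2 by norm_num]
      exact Nat.Coprime.pow_left 2 (Nat.coprime_two_left.2 h2)
    exact D.rel_ne_one (Nat.eq_one_of_dvd_coprimes h1 dvd_rfl hrel)
  · have h1 : a ∣ 4 := ⟨_, hn⟩
    have h2 : a = 4 := by
      have h3 := Nat.le_of_dvd (by norm_num) h1
      interval_cases a <;> omega
    rw [h2, show (4 : ℕ) = 2 ^ 2 by norm_num] at hsa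
    exact hs2 ((Nat.prime_dvd_prime_iff_eq hs Nat.prime_two).1 (hs.dvd_of_dvd_pow hsa))

theorem card_PSU_three_four {F : Type*} [Field F] [Fintype F] (hF : Fintype.card F = 4 ^ 2) :
    Nat.card (PSU 3 F 4) = 832 * 75 := by
  have h := Cfsg.Agent.S0280.result hF 3 (by norm_num)
  have h1 : Nat.gcd 3 (4 + 1) = 1 := by decide
  have h2 : (∏ i ∈ Finset.range 3, (if Even i then 4 ^ (i + 1) + 1 else 4 ^ (i + 1) - 1)) = 4875 := by decide
  rw [h1, h2] at h
  omega

/-- the order of `GU_3(q)`: the `3`-part -/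
theorem no_three_part {F : Type} [Field F] [Fintype F] {q : ℕ} {π : Set ℕ} (hF : Fintype.card F = q ^ 2)
    {H : Subgroup (GU 3 F q)} (hH : IsPiHall π H) (h3 : 3 ∈ π) (hd : Nat.card H ∣ (q ^ 3 + 1) * 3)
    (hq : q = 5 ∨ q = 8) : False := by
  have h1 := S0277.result hF 3
  have hfinG : Finite (GU 3 F q) := LieClassical.GUOrder.finite_GU 3
  have h2 := H.card_mul_index
  rw [h1] at h2
  have hco : ∀ k : ℕ, Nat.Coprime (3 ^ k) H.index := fun k =>
    Nat.Coprime.pow_left k ((Nat.prime_three.coprime_iff_not_dvd).2 (hH.2 3 Nat.prime_three h3))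
  rcases hq with rfl | rfl
  · have h4 : (3 : ℕ) ^ 4 ∣ Nat.card H * H.index := by
      rw [h2]
      decide
    have h5 := ((hco 4).dvd_of_dvd_mul_right h4).trans hd
    revert h5
    decide
  · have h4 : (3 : ℕ) ^ 7 ∣ Nat.card H * H.index := by
      rw [h2]
      decide
    have h5 := ((hco 7).dvd_of_dvd_mul_right h4).trans hd
    revert h5
    decide

end Cfsg.Agent.H715.DPU
end

-- part: H715/DPU/Three
section
/-!
# S4247, row PSU: dimension three (helper715)
-/

set_option autoImplicit false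

namespace Cfsg.Agent.H715.DPU

open Subgroup Cfsg Matrix Module Cfsg.Agent.H988.CPi Cfsg.Agent.H571.RV Cfsg.Agent.H817.DPi Cfsg.Agent.H380.RV
  Cfsg.Agent.H553.RV Cfsg.Agent.LieClassical.HermBasic
open Cfsg.Agent.ClassicalGeometry.PSUAutBasic (pr pr_surjective)
open Cfsg.Agent.ClassicalGeometry.PSUAutCount (gm toAut gm_mul gm_inj herm_gm)
open Cfsg.Agent.CpAutU.Desc (toAut_one)

theorem Up.card_dvd {F : Type} [Field F] [Fintype F] {n q : ℕ} {π : Set ℕ} {P : Subgroup (PSU n F q)}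
    {H : Subgroup (GU n F q)} (hU : Up π P H) : Nat.card P ∣ Nat.card H := by
  have hfinG : Finite (GU n F q) := LieClassical.GUOrder.finite_GU n
  have h1 : P = (H.comap (jU n F q)).map (pr n F q) := by
    ext x
    rw [hU.mem]
    constructor
    · rintro ⟨g, hg, rfl⟩
      exact ⟨g, hg, rfl⟩
    · rintro ⟨g, hg, rfl⟩
      exact ⟨g, hg, rfl⟩
  have hj : Function.Injective (jU n F q) := by
    intro a b h
    exact Subtype.ext (Subtype.ext (congrArg (fun x : GU n F q => x.1.1) h))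
  rw [h1]
  refine (Subgroup.card_map_dvd (H := H.comap (jU n F q)) (pr n F q)).trans ?_
  rw [← Subgroup.card_map_of_injective hj]
  exact Subgroup.card_dvd_of_le (Subgroup.map_comap_le _ _)

variable {F : Type} [Field F] [Fintype F] {n q a t : ℕ} {π : Set ℕ} {P : Subgroup (PSU n F q)}
    {K B : Subgroup (MulAut (PSU n F q))} {H : Subgroup (GU n F q)} {z : Fin a → GU n F q}

omit [Fintype F] in
theorem toAut_pow' (A : GU n F q) (j : ℕ) : toAut (A ^ j) 1 = toAut A 1 ^ j := by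
  induction j with
  | zero => rw [pow_zero, pow_zero, toAut_one]
  | succ j ih => rw [pow_succ, pow_succ, ← ih, toAut_mul_one]

/-- `K` is trivial if the torus is a `π`-group and the field part is trivial -/
theorem Dt'.K_trivial (D : Dt' F n q a t π P K B H z) {K0 : Subgroup (MulAut (PSU n F q))} (hK0 : K0 ≤ K)
    (h1 : ∀ k ∈ K0, ∃ A : GU n F q, k = toAut A 1) (hco : Nat.Coprime (Nat.card (Cz z)) (Nat.card K)) :
    Nat.card K0 = 1 := by
  have hfinG : Finite (GU n F q) := LieClassical.GUOrder.finite_GU n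
  rw [Subgroup.card_eq_one, Subgroup.eq_bot_iff_forall]
  intro k hk
  obtain ⟨A, hA⟩ := h1 k hk
  have hAC : A ∈ Cz z := (D.hK A 1 (by rw [← hA]; exact hK0 hk)).2.1 rfl
  have h2 : A ^ Nat.card (Cz z) = 1 := by
    have h3 := pow_card_eq_one' (x := (⟨A, hAC⟩ : Cz z))
    exact congrArg Subtype.val h3
  have h3 : orderOf k ∣ Nat.card (Cz z) := by
    apply orderOf_dvd_of_pow_eq_one
    rw [hA, ← toAut_pow', h2, toAut_one]
  have h4 : orderOf k ∣ Nat.card K := by
    have h5 := _root_.orderOf_dvd_natCard (⟨k, hK0 hk⟩ : K)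
    rwa [Subgroup.orderOf_mk] at h5
  exact orderOf_eq_one_iff.1 (Nat.eq_one_of_dvd_coprimes hco h3 h4)

/-- the case `PSU_3(4)` -/
theorem Dt'.four' {P : Subgroup (PSU 3 F 4)} {K B : Subgroup (MulAut (PSU 3 F 4))} {H : Subgroup (GU 3 F 4)}
    {z : Fin a → GU 3 F 4} (D : Dt' F 3 4 a t π P K B H z)
    (h75 : ∀ B' : Subgroup (PSU 3 F 4), Nat.card B' ≠ 832) (h3 : 3 ∈ π) (h5 : 5 ∈ π)
    (hCz : Nat.card (Cz z) ∣ 5 ^ 3) {k : ℕ} (hrel : (Cz z).relIndex H ∣ 3 ^ k)
    {κ : ℕ} (hκ : κ = 1) {K0 : Subgroup (MulAut (PSU 3 F 4))} (hK0 : K0 ≤ K) (hcK : Nat.card K = κ * Nat.card K0)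
    (hA : ∀ k ∈ K0, ∃ A : GU 3 F 4, k = toAut A 1) : False := by
  have hs : IsSimpleGroup (PSU 3 F 4) := Cfsg.Agent.S0283.result D.hF 3 D.hn D.h32
  have hna : ¬ IsMulCommutative (PSU 3 F 4) := Cfsg.Agent.CpAut.Fix.not_comm_quot (H := SU 3 F 4)
  have hfinG : Finite (GU 3 F 4) := LieClassical.GUOrder.finite_GU 3
  have hcard := card_PSU_three_four D.hF
  -- `K = 1`
  have hcoK : Nat.Coprime (Nat.card (Cz z)) (Nat.card K) := by
    refine Nat.Coprime.coprime_dvd_left hCz (Nat.Coprime.pow_left 3 ?_)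
    exact (Nat.prime_five.coprime_iff_not_dvd).2 (D.hc.piK 5 Nat.prime_five h5)
  have hK1 := D.K_trivial hK0 hA hcoK
  rw [hκ, hK1, mul_one] at hcK
  -- `|P|` divides `75`
  have hP1 : Nat.card P ∣ 5 ^ 3 * 3 ^ k :=
    (D.hU.card_dvd.trans (DPU.card_dvd H (Cz z))).trans (mul_dvd_mul hCz hrel)
  have hP2 : Nat.Coprime (Nat.card P) 832 := by
    refine Nat.Coprime.coprime_dvd_left hP1 (Nat.Coprime.mul_left ?_ (Nat.Coprime.pow_left k (by decide)))
    decide
  have hP3 : Nat.card P ∣ 75 := by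
    refine hP2.dvd_of_dvd_mul_left ?_
    rw [← hcard]
    exact P.card_subgroup_dvd_card
  obtain ⟨-, hidx⟩ := index_le_mul hna D.hc
  rw [hcK, mul_one] at hidx
  have hidx' : (B.comap MulAut.conj).index ≤ 75 := hidx.trans (Nat.le_of_dvd (by norm_num) hP3)
  -- `|B'|` divides `832`
  have hB1 : Nat.card (B.comap MulAut.conj) ∣ Nat.card B := by
    rw [← Subgroup.card_map_of_injective (Cfsg.Agent.H462.DPK.conj_injective hna)]
    exact Subgroup.card_dvd_of_le (Subgroup.map_comap_le _ _)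
  have hB2 : Nat.Coprime (Nat.card (B.comap MulAut.conj)) 75 := by
    refine Nat.Coprime.coprime_dvd_left hB1 ?_
    have h1 : Nat.Coprime 3 (Nat.card B) := (Nat.prime_three.coprime_iff_not_dvd).2 (D.hc.piB 3 Nat.prime_three h3)
    have h2 : Nat.Coprime 5 (Nat.card B) := (Nat.prime_five.coprime_iff_not_dvd).2 (D.hc.piB 5 Nat.prime_five h5)
    rw [Nat.coprime_comm, show (75 : ℕ) = 3 * 5 ^ 2 by norm_num]
    exact Nat.Coprime.mul_left h1 (Nat.Coprime.pow_left 2 h2)
  have hB3 := (B.comap MulAut.conj).card_mul_index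
  rw [hcard] at hB3
  have hB4 : Nat.card (B.comap MulAut.conj) ∣ 832 := hB2.dvd_of_dvd_mul_right ⟨_, hB3.symm⟩
  have hB5 : Nat.card (B.comap MulAut.conj) = 832 := by
    refine le_antisymm (Nat.le_of_dvd (by norm_num) hB4) ?_
    by_contra hcon
    push Not at hcon
    have h1 : Nat.card (B.comap MulAut.conj) * (B.comap MulAut.conj).index < 832 * 75 := by
      have h2 : 0 < (B.comap MulAut.conj).index := Nat.pos_of_ne_zero Subgroup.index_ne_zero_of_finite
      calc _ ≤ Nat.card (B.comap MulAut.conj) * 75 := Nat.mul_le_mul_left _ hidx'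
        _ < 832 * 75 := Nat.mul_lt_mul_of_pos_right hcon (by norm_num)
    omega
  exact h75 _ hB5

theorem not_dvd_of_ge {t m : ℕ} (ht : t.Prime) (h5 : 5 ≤ t) (h : t ∣ m) (hm : m = 3 ∨ m = 4 ∨ m = 6 ∨ m = 9) : False := by
  have h1 : t ∣ 36 := by
    rcases hm with rfl | rfl | rfl | rfl
    · exact h.trans (by norm_num)
    · exact h.trans (by norm_num)
    · exact h.trans (by norm_num)
    · exact h.trans (by norm_num)
  have h2 : t ∣ 6 ^ 2 := h1
  have h3 : t ∣ 2 * 3 := ht.dvd_of_dvd_pow h2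
  rcases (ht.dvd_mul).1 h3 with h4 | h4
  · have := Nat.le_of_dvd (by norm_num) h4
    omega
  · have := Nat.le_of_dvd (by norm_num) h4
    omega

/-- the case `n = 3` -/
theorem Dt'.three {P : Subgroup (PSU 3 F q)} {K B : Subgroup (MulAut (PSU 3 F q))} {H : Subgroup (GU 3 F q)}
    {z : Fin a → GU 3 F q} (D : Dt' F 3 q a t π P K B H z)
    (h75 : Fintype.card F = 4 ^ 2 → ∀ B' : Subgroup (PSU 3 F 4), Nat.card B' ≠ 832) : False := by
  obtain ⟨p, f, hp, hch, hq, hf⟩ := exists_prime_pow D.hF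
  have hq2 : 2 ≤ q := two_le D.hF
  obtain ⟨s, k, hs, hs2, hsπ, hrel, hk, ha⟩ := D.perm
  obtain ⟨hBt, κ, hκ, hκo, ⟨K0, hK0, hcK, hA⟩, hle⟩ := index_le D.hF D.hn D.h32 hp hf hq D.hc D.hU (z := z) (t := t)
    (fun A τ hA => (D.hK A τ hA).2)
  obtain ⟨-, hCz⟩ := D.hCz D.n_eq
  have hn := D.n_eq
  have hfinG : Finite (GU 3 F q) := LieClassical.GUOrder.finite_GU 3
  have hrn := D.rel_ne_one
  have hq' : q ≠ 2 := fun h => D.h32 ⟨rfl, h⟩
  rcases ha with ha | ⟨ha3, hsπ', hsa⟩
  · -- `a = 1`, `d = 3`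
    subst ha
    rw [one_mul] at hn
    rw [Nat.factorial_one, Nat.dvd_one] at hk
    rw [hk, mul_one, pow_one, ← hn] at hrel
    have hr3 : (Cz z).relIndex H = 3 := ((Nat.dvd_prime Nat.prime_three).1 hrel).resolve_left hrn
    have h3H : 3 ∣ Nat.card H := by
      have h1 := relIndex_dvd (Cz z) H
      rwa [hr3] at h1
    have h3π : 3 ∈ π := D.hU.hall.1 3 Nat.prime_three h3H
    have hT : tU q 3 = q ^ 3 + 1 := by rw [tU, if_neg (by decide)]
    rw [← hn, pow_one, hT] at hCz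
    have hHd : Nat.card H ∣ (q ^ 3 + 1) * 3 := by
      have h1 := card_dvd H (Cz z)
      rw [hr3] at h1
      exact h1.trans (mul_dvd_mul_right hCz 3)
    have hκ1 : Odd κ := hκo (by rw [← hn]; decide)
    have h58 : ¬ (q = 5 ∨ q = 8) := fun h => no_three_part D.hF D.hU.hall h3π hHd h
    push Not at h58
    have hmin := (Cfsg.Agent.S2148.result q D.hF (by omega) h58.1).1 _ hBt
    rw [hr3] at hle
    have h1 : (q ^ 3 + 1) * (q + 1) ≤ (q ^ 3 + 1) * (3 * κ) := by
      calc (q ^ 3 + 1) * (q + 1) ≤ (B.comap MulAut.conj).index * (q + 1) := Nat.mul_le_mul_right _ hmin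
        _ ≤ κ * (Nat.card (Cz z) * 3) := hle
        _ ≤ κ * ((q ^ 3 + 1) * 3) := Nat.mul_le_mul_left _ (Nat.mul_le_mul_right _ (Nat.le_of_dvd (by omega) hCz))
        _ = _ := by ring
    have h2 : q + 1 ≤ 3 * κ := Nat.le_of_mul_le_mul_left h1 (by omega)
    rcases num31 hp hf hq hκ hκ1 h2 with h | h
    · exact h58.2 h
    · exact hq' h
  · -- `a = 3`, `d = 1`
    have ha : a = 3 := by
      have h1 : a ∣ 3 := ⟨_, hn⟩
      exact le_antisymm (Nat.le_of_dvd (by norm_num) h1) ha3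
    subst ha
    have hd : eU q t = 1 := by omega
    have ht5 := D.h5 rfl hd
    have htq : t ∣ q + 1 := dvd_succ_of_one hd
    have hs3 : s = 3 := (Nat.prime_dvd_prime_iff_eq hs Nat.prime_three).1 hsa
    subst hs3
    rw [hd, one_pow, one_mul] at hrel
    have hT : tU q 1 = q + 1 := by rw [tU, if_neg (by decide), pow_one]
    rw [hd, hT] at hCz
    have hk1 : k ≤ 1 := by
      by_contra hcon
      have h1 : 3 ^ 2 ∣ Nat.factorial 3 := (pow_dvd_pow 3 (by omega)).trans hk
      revert h1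
      decide
    have hrel3 : (Cz z).relIndex H ≤ 3 :=
      (Nat.le_of_dvd (by positivity) hrel).trans (by
        calc 3 ^ k ≤ 3 ^ 1 := Nat.pow_le_pow_right (by norm_num) hk1
          _ = 3 := by norm_num)
    have hκ1 : Odd κ := hκo (by rw [hd]; decide)
    have hq5 : q ≠ 5 := by
      rintro rfl
      exact not_dvd_of_ge D.hz.ht ht5 htq (by decide)
    have hmin := (Cfsg.Agent.S2148.result q D.hF (by (clear * - hq2 hq'; omega)) hq5).1 _ hBt
    have h1 : (q ^ 3 + 1) * (q + 1) ≤ κ * ((q + 1) ^ 3 * 3) := by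
      calc (q ^ 3 + 1) * (q + 1) ≤ (B.comap MulAut.conj).index * (q + 1) := Nat.mul_le_mul_right _ hmin
        _ ≤ κ * (Nat.card (Cz z) * (Cz z).relIndex H) := hle
        _ ≤ κ * ((q + 1) ^ 3 * 3) := Nat.mul_le_mul_left _ (Nat.mul_le_mul (Nat.le_of_dvd (by positivity) hCz) hrel3)
    rcases num33 hp hf hq hκ hκ1 h1 with h | h | h | h
    · exact hq' h
    · subst h
      exact not_dvd_of_ge D.hz.ht ht5 htq (by decide)
    · subst h
      have ht : t = 5 := (Nat.prime_dvd_prime_iff_eq D.hz.ht Nat.prime_five).1 htq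
      have hf2 : f = 2 := by
        by_contra hne
        have hf3 : f = 1 ∨ 3 ≤ f := by omega
        rcases hf3 with h2 | h2
        · rw [h2, pow_one] at hq
          rw [← hq] at hp
          exact absurd hp (by decide)
        · have h3 : 2 ^ 3 ≤ p ^ f := (Nat.pow_le_pow_left hp.two_le 3).trans (Nat.pow_le_pow_right hp.pos h2)
          omega
      have hκ2 : κ = 1 := by
        obtain ⟨h2, h3⟩ := kappa_le hf hκ hκ1
        obtain ⟨m, rfl⟩ := hκ1
        (clear * - hf2 h3; omega)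
      refine D.four' (h75 D.hF) hsπ' ?_ hCz hrel hκ2 hK0 hcK hA
      rw [← ht]
      exact D.hU.hall.1 t D.hz.ht D.hz.dvd
    · subst h
      exact not_dvd_of_ge D.hz.ht ht5 htq (by decide)

/-- **The core.** -/
theorem Dt'.false (D : Dt' F n q a t π P K B H z)
    (h75 : Fintype.card F = 4 ^ 2 → ∀ B' : Subgroup (PSU 3 F 4), Nat.card B' ≠ 832) : False := by
  have hn := D.hn
  rcases Nat.lt_or_ge n 5 with h | h
  · have h2 : n = 3 ∨ n = 4 := by omega
    rcases h2 with rfl | h2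
    · exact D.three h75
    · exact D.four h2
  · exact D.big h

end Cfsg.Agent.H715.DPU
end

private theorem dce_bd13aafbd1f0 : _root_.True := by
  try have : _root_.True := by simp only [_root_.Cfsg.Agent.H715.DPU.tU.eq_1]
  exact _root_.True.intro
end

-- part: H715/DPU/RowOf
section
prune_inst 0x343039044440100000008082c1000064680000000000880048a10b040208a0620d00a80000800111580a810000010020020000b000000000002000000005012090021204a148000006009f000000610200000000300000000000000000010004000000000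
set_option linter.all false
open scoped Cfsg.Agent.FastGrp

-- part: H38/NP/Irr
section
/-!
# The dimensions of the nonabelian irreducible modules of an `r`-group over a finite field (helper38)
-/

set_option autoImplicit false

namespace Cfsg.Agent.H38.NP

open Module

/-- `dim_F W = k r^i`, `i ≥ 1`, `r` divides `|F|^k - 1`. -/
theorem exists_dim_irr {F W R : Type*} [Field F] [Finite F] [AddCommGroup W] [Module F W] [Module.Finite F W] [Nontrivial W]
    [Group R] [Finite R] {r : ℕ} [Fact r.Prime] (hr2 : r ≠ 2) (hR : IsPGroup r R) (ρ : R →* Module.End F W)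
    (hirr : ∀ U : Submodule F W, (∀ g, ∀ u ∈ U, ρ g u ∈ U) → U = ⊥ ∨ U = ⊤)
    (hna : ∃ g h, ρ g * ρ h ≠ ρ h * ρ g) :
    ∃ k i, 1 ≤ i ∧ 1 ≤ k ∧ finrank F W = k * r ^ i ∧ r ∣ Nat.card F ^ k - 1 := by
  classical
  have hr : r.Prime := Fact.out
  obtain ⟨E, hE⟩ : ∃ E : Subalgebra F (Module.End F W), E = Subalgebra.centralizer F (Set.range ρ) := ⟨_, rfl⟩
  have hmem : ∀ a : Module.End F W, a ∈ E ↔ ∀ g, a * ρ g = ρ g * a := by
    intro a
    rw [hE, Subalgebra.mem_centralizer_iff]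
    constructor
    · intro h g
      exact (h _ ⟨g, rfl⟩).symm
    · rintro h _ ⟨g, rfl⟩
      exact (h g).symm
  haveI : Finite W := Module.finite_of_finite F
  haveI : Finite (Module.End F W) := Finite.of_injective (fun f : Module.End F W => (f : W → W)) DFunLike.coe_injective
  haveI : Finite E := inferInstance
  have hinj : ∀ a ∈ E, a ≠ 0 → ∀ w, a w = 0 → w = 0 := by
    intro a ha ha0 w hw
    rcases hirr (LinearMap.ker a) (fun g u hu => by
      rw [LinearMap.mem_ker] at hu ⊢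
      have h1 := LinearMap.congr_fun ((hmem a).1 ha g) u
      rw [Module.End.mul_apply, Module.End.mul_apply, hu, map_zero] at h1
      exact h1) with h | h
    · have : w ∈ LinearMap.ker a := hw
      rwa [h, Submodule.mem_bot] at this
    · exact absurd (LinearMap.ker_eq_top.1 h) ha0
  haveI : NoZeroDivisors E := ⟨by
    intro a b hab
    by_cases ha : a = 0
    · exact Or.inl ha
    · right
      apply Subtype.ext
      ext w
      have ha' : (a : Module.End F W) ≠ 0 := fun h => ha (Subtype.ext h)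
      refine hinj a a.2 ha' _ ?_
      have h1 := congrArg (fun x : E => (x : Module.End F W) w) hab
      exact h1⟩
  haveI : IsDomain E := NoZeroDivisors.to_isDomain E
  have hf : IsField E := Finite.isDomain_to_isField E
  letI := hf.toField
  haveI : IsScalarTower F E W := ⟨fun c e w => rfl⟩
  haveI : Module.Finite E W := Module.Finite.of_restrictScalars_finite F E W
  let ρ' : R →* Module.End E W :=
    { toFun := fun g =>
        { toFun := fun w => ρ g w
          map_add' := fun x y => map_add _ x y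
          map_smul' := fun e w => by
            have h1 := LinearMap.congr_fun ((hmem e.1).1 e.2 g) w
            exact h1.symm }
      map_one' := by
        ext w
        show ρ 1 w = w
        rw [map_one]
        rfl
      map_mul' := fun g h => by
        ext w
        show ρ (g * h) w = ρ g (ρ h w)
        rw [map_mul]
        rfl }
  have hρ' : ∀ g w, ρ' g w = ρ g w := fun g w => rfl
  have hirr' : ∀ U : Submodule E W, (∀ g, ∀ u ∈ U, ρ' g u ∈ U) → U = ⊥ ∨ U = ⊤ := by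
    intro U hU
    rcases hirr (U.restrictScalars F) (fun g u hu => hU g u hu) with h | h
    · left
      rw [eq_bot_iff]
      intro u hu
      have h1 : u ∈ U.restrictScalars F := hu
      rwa [h] at h1
    · right
      rw [eq_top_iff]
      intro u _
      have h1 : u ∈ U.restrictScalars F := by rw [h]; exact Submodule.mem_top
      exact h1
  -- the dimension
  obtain ⟨g0, h0, hgh⟩ := hna
  have hg0 : ρ g0 ≠ 1 := by
    intro h
    rw [h, one_mul, mul_one] at hgh
    exact hgh rfl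
  -- the centre of the image
  let ρu : R →* (Module.End F W)ˣ := MonoidHom.toHomUnits ρ
  have hρu : ∀ g, ((ρu g : (Module.End F W)ˣ) : Module.End F W) = ρ g := fun g => rfl
  have hG : IsPGroup r ρu.range := hR.of_surjective ρu.rangeRestrict ρu.rangeRestrict_surjective
  haveI : Finite ρu.range := Set.Finite.to_subtype (Set.finite_range ρu)
  haveI : Nontrivial ρu.range := by
    refine ⟨⟨⟨ρu g0, g0, rfl⟩, 1, fun h => hg0 ?_⟩⟩
    have h1 := congrArg (fun x : ρu.range => ((x : (Module.End F W)ˣ) : Module.End F W)) h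
    exact h1
  haveI := hG.center_nontrivial
  obtain ⟨z, hz⟩ := exists_ne (1 : Subgroup.center ρu.range)
  have hzE : (((z : ρu.range) : (Module.End F W)ˣ) : Module.End F W) ∈ E := by
    rw [hmem]
    intro g
    have h1 := Subgroup.mem_center_iff.1 z.2 ⟨ρu g, g, rfl⟩
    have h2 := congrArg (fun x : ρu.range => ((x : (Module.End F W)ˣ) : Module.End F W)) h1
    exact h2.symm
  obtain ⟨n, hn⟩ := hG (z : ρu.range)
  obtain ⟨e, he⟩ : ∃ e : E, e = ⟨_, hzE⟩ := ⟨_, rfl⟩
  have he1 : e ^ r ^ n = 1 := by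
    apply Subtype.ext
    have h2 := congrArg (fun x : ρu.range => ((x : (Module.End F W)ˣ) : Module.End F W)) hn
    rw [he]
    simpa only [_root_.SubmonoidClass.mk_pow, _root_.OneMemClass.coe_one, _root_.SubmonoidClass.coe_pow, _root_.Units.val_pow_eq_pow_val, _root_.Units.val_one] using h2
  have hene : e ≠ 1 := by
    intro h
    apply hz
    apply Subtype.ext
    apply Subtype.ext
    apply Units.ext
    have h2 := congrArg Subtype.val h
    rw [he] at h2
    exact h2
  have hrE : r ∣ Nat.card E - 1 := by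
    have he0 : e ≠ 0 := by
      intro h
      rw [h, zero_pow (pow_ne_zero n hr.ne_zero)] at he1
      exact zero_ne_one he1
    have h1 : orderOf (Units.mk0 e he0) ∣ r ^ n := by
      apply orderOf_dvd_of_pow_eq_one
      apply Units.ext
      simpa only [_root_.Units.val_pow_eq_pow_val, _root_.Units.val_mk0, _root_.Units.val_one] using he1
    obtain ⟨t, -, ht⟩ := (Nat.dvd_prime_pow hr).1 h1
    have ht0 : t ≠ 0 := by
      rintro rfl
      rw [pow_zero, orderOf_eq_one_iff] at ht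
      apply hene
      have := congrArg Units.val ht
      simpa using this
    have h2 : r ∣ orderOf (Units.mk0 e he0) := by
      rw [ht]
      exact dvd_pow_self r ht0
    have h3 := h2.trans (orderOf_dvd_natCard (Units.mk0 e he0))
    rwa [Nat.card_units] at h3
  obtain ⟨i, hi⟩ := dim_pow hr2 hrE hR ρ' hirr'
  refine ⟨finrank F E, i, ?_, ?_, ?_, ?_⟩
  · by_contra hi0
    have hi1 : i = 0 := by omega
    rw [hi1, pow_zero] at hi
    obtain ⟨w, hw, hspan⟩ := finrank_eq_one_iff'.1 hi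
    apply hgh
    have hsc : ∀ g, ∃ a : E, ∀ v, ρ g v = a • v := by
      intro g
      obtain ⟨a, ha⟩ := hspan (ρ g w)
      refine ⟨a, fun v => ?_⟩
      obtain ⟨b, hb⟩ := hspan v
      have h1 : ρ g v = ρ' g v := rfl
      rw [h1, ← hb, map_smul, hρ', ← ha, smul_smul, smul_smul, mul_comm]
    obtain ⟨a, ha⟩ := hsc g0
    obtain ⟨b, hb⟩ := hsc h0
    refine LinearMap.ext fun v => ?_
    rw [Module.End.mul_apply, Module.End.mul_apply, ha, hb, hb, ha, smul_smul, smul_smul, mul_comm]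
  · exact finrank_pos
  · rw [← hi, finrank_mul_finrank]
  · rw [← Module.natCard_eq_pow_finrank]
    exact hrE

end Cfsg.Agent.H38.NP
end

-- part: H38/DPU/Fr
section
/-!
# The frame of a Hall subgroup of `GU_n(q)` (S4247, row PSU, task D), helper38
-/

set_option autoImplicit false

namespace Cfsg.Agent.H38.DPU

open Module Cfsg Cfsg.Agent.H988.CPi Cfsg.Agent.H571.RV Cfsg.Agent.H817.DPi Cfsg.Agent.H380.RV
  Cfsg.Agent.H553.RV Cfsg.Agent.H167.OP Cfsg.Agent.H170.HL Cfsg.Agent.H556.HallRowAbs Cfsg.Agent.H715.DPU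
  Cfsg.Agent.H556.HallLB
open scoped commutatorElement

section

variable {F : Type*} [Field F] [Finite F] {V : Type*} [AddCommGroup V] [Module F V] {Y : Type*} [Group Y]
  {ρ : Representation F Y V} [FiniteDimensional F V] [Finite Y]

/-- a `t`-group of small dimension is abelian -/
theorem comm_of_tgroup (hinj : Function.Injective ρ) {t : ℕ} (ht : t.Prime) (htF : (t : F) ≠ 0) (h5 : 5 ≤ t)
    (hfield : ∀ k, 1 ≤ k → t ∣ Nat.card F ^ k - 1 → t - 1 ≤ 2 * k) {L : Subgroup Y} (hL : IsPGroup t L)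
    (hdim : finrank F (CV ρ L) ≤ 2 * (t - 1)) : ∀ x ∈ L, ∀ y ∈ L, x * y = y * x := by
  classical
  haveI : Fact t.Prime := ⟨ht⟩
  by_contra hcon
  push Not at hcon
  obtain ⟨x, hx, y, hy, hxy⟩ := hcon
  haveI : Group.IsNilpotent L := hL.isNilpotent
  -- a central element of the commutator subgroup
  have hne : commutator L ≠ ⊥ := by
    intro h
    apply hxy
    have h1 : ⁅(⟨x, hx⟩ : L), ⟨y, hy⟩⁆ ∈ commutator L := Subgroup.commutator_mem_commutator (Subgroup.mem_top _) (Subgroup.mem_top _)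
    rw [h, Subgroup.mem_bot, commutatorElement_eq_one_iff_mul_comm] at h1
    exact congrArg Subtype.val h1
  have h2 := Cfsg.Agent.Lib.NormalAbelian.normal_inf_center_ne_bot (commutator L) hne
  rw [Ne, Subgroup.eq_bot_iff_forall] at h2
  push Not at h2
  obtain ⟨c, hc, hc1⟩ := h2
  obtain ⟨hcL, hcZ⟩ := Subgroup.mem_inf.1 hc
  obtain ⟨N, hN⟩ := hL c
  have hcN : (c : Y) ^ (t ^ N) = 1 := congrArg Subtype.val hN
  have htN : ((t ^ N : ℕ) : F) ≠ 0 := cardNeOfPow htF
  have hcc : ∀ g ∈ L, (c : Y) * g = g * c := by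
    intro g hg
    exact (congrArg Subtype.val (Subgroup.mem_center_iff.1 hcZ ⟨g, hg⟩)).symm
  -- `[V, c]` is `L`-invariant
  have hR0 : Rg ρ (c : Y) ≠ ⊥ := by
    intro h
    apply hc1
    exact Subtype.ext (eq_one_of_Rg hinj h)
  have hRinv : ∀ g ∈ L, ∀ w ∈ Rg ρ (c : Y), ρ g w ∈ Rg ρ (c : Y) := fun g hg w hw => comm_Rg (hcc g hg) hw
  -- a minimal invariant subspace
  have hex : ∃ n, ∃ U : Submodule F V, (∀ g ∈ L, ∀ w ∈ U, ρ g w ∈ U) ∧ U ≠ ⊥ ∧ U ≤ Rg ρ (c : Y) ∧ finrank F U = n :=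
    ⟨_, Rg ρ (c : Y), hRinv, hR0, le_rfl, rfl⟩
  obtain ⟨U, hUi, hU0, hUR, hUd⟩ := Nat.find_spec hex
  have hmin : ∀ U' : Submodule F V, (∀ g ∈ L, ∀ w ∈ U', ρ g w ∈ U') → U' ≠ ⊥ → U' ≤ U → U' = U := by
    intro U' h1 h3 h4
    apply Submodule.eq_of_le_of_finrank_le h4
    rw [hUd]
    exact Nat.find_min' hex ⟨U', h1, h3, h4.trans hUR, rfl⟩
  let σ : L →* Module.End F U :=
    { toFun := fun g => (ρ g).restrict (hUi g g.2)
      map_one' := by
        refine LinearMap.ext fun w => Subtype.ext ?_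
        show ρ ((1 : L) : Y) w = w
        rw [Subgroup.coe_one, map_one]
        rfl
      map_mul' := fun g h => by
        refine LinearMap.ext fun w => Subtype.ext ?_
        show ρ ((g * h : L) : Y) w = ρ g (ρ h w)
        rw [Subgroup.coe_mul, map_mul]
        rfl }
  have hσ : ∀ (g : L) (w : U), ((σ g w : U) : V) = ρ g w := fun g w => rfl
  haveI : Nontrivial U := (Submodule.nontrivial_iff_ne_bot).2 hU0
  have hirr : ∀ U' : Submodule F U, (∀ g, ∀ u ∈ U', σ g u ∈ U') → U' = ⊥ ∨ U' = ⊤ := by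
    intro U' hU'
    by_cases h0 : U' = ⊥
    · exact Or.inl h0
    right
    have h1 : U'.map U.subtype = U := by
      apply hmin
      · rintro g hg _ ⟨u, hu, rfl⟩
        exact ⟨σ ⟨g, hg⟩ u, hU' ⟨g, hg⟩ u hu, rfl⟩
      · intro h
        apply h0
        rw [eq_bot_iff]
        intro u hu
        have h3 : (u : V) ∈ U'.map U.subtype := ⟨u, hu, rfl⟩
        rw [h, Submodule.mem_bot] at h3
        exact Subtype.ext h3
      · exact Submodule.map_subtype_le U U'
    rw [eq_top_iff]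
    intro u _
    have h3 : (u : V) ∈ U'.map U.subtype := by rw [h1]; exact u.2
    obtain ⟨u', hu', e⟩ := h3
    have h4 : u' = u := Subtype.ext e
    rwa [← h4]
  -- nonabelian
  have hna : ∃ g h, σ g * σ h ≠ σ h * σ g := by
    by_contra hab
    push Not at hab
    have h1 : ∀ d ∈ commutator L, σ d = 1 := by
      intro d hd
      have h3 : commutator L ≤ σ.ker := by
        rw [commutator_def, Subgroup.commutator_le]
        intro g _ h _
        rw [MonoidHom.mem_ker, commutatorElement_def]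
        have h4 : σ (g * h) = σ (h * g) := by rw [map_mul, map_mul, hab]
        have h5 : g * h * g⁻¹ * h⁻¹ = (g * h) * (h * g)⁻¹ := by group
        rw [h5, map_mul, h4, ← map_mul, mul_inv_cancel, map_one]
      exact h3 hd
    have h3 := h1 c hcL
    obtain ⟨w, hw⟩ := exists_ne (0 : U)
    apply hw
    apply Subtype.ext
    have h4 : ρ (c : Y) (w : V) = w := by
      rw [← hσ, h3]
      rfl
    exact eq_zero_of_fix htN hcN (hUR w.2) h4
  obtain ⟨k, i, hi, hk, hd, hdvd⟩ := Cfsg.Agent.H38.NP.exists_dim_irr (by omega) hL σ hirr hna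
  have h3 := hfield k hk hdvd
  have h4 : finrank F U ≤ 2 * (t - 1) := by
    refine le_trans (Submodule.finrank_mono ?_) hdim
    exact hUR.trans (range_le_CV ρ c.2)
  rw [hd] at h4
  have h6 : k * t ≤ k * t ^ i := Nat.mul_le_mul_left _ (Nat.le_self_pow (by omega) t)
  have h7 : k * t ≤ 2 * (t - 1) := h6.trans h4
  obtain ⟨t', rfl⟩ : ∃ t', t = t' + 5 := ⟨t - 5, by omega⟩
  have h8 : t' + 4 ≤ 2 * k := by omega
  have h9 : 2 * (k * (t' + 5)) ≤ 2 * (2 * (t' + 4)) := by
    have : t' + 5 - 1 = t' + 4 := rfl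
    rw [this] at h7
    omega
  have h10 : (t' + 4) * (t' + 5) ≤ 2 * k * (t' + 5) := Nat.mul_le_mul_right _ h8
  nlinarith only [h3, h4, h6, h8]

/-- two elements of order `t`, `t` the largest prime -/
theorem comm_top {e : ℕ → ℕ} (D : RowDat ρ e) {H : Subgroup Y} (hH : HC F H) {t : ℕ} (ht : t.Prime) (htF : (t : F) ≠ 0)
    (h5 : 5 ≤ t) (het : e t ≤ t - 1) (hmax : ∀ r : ℕ, r.Prime → r ∣ Nat.card H → r ≤ t ∧ 2 ≤ e r)
    (hfield : ∀ k, 1 ≤ k → t ∣ Nat.card F ^ k - 1 → t - 1 ≤ 2 * k) {x y : Y} (hx : IsZ ρ e t x) (hxH : x ∈ H)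
    (hy : IsZ ρ e t y) (hyH : y ∈ H) : x * y = y * x := by
  have := Fact.mk ht
  have hodd : Odd t := ht.odd_of_ne_two (by omega)
  set L : Subgroup Y := Subgroup.closure {x, y} with hL
  have hxL : x ∈ L := Subgroup.subset_closure (by simp)
  have hyL : y ∈ L := Subgroup.subset_closure (by simp)
  have hLH : L ≤ H := by
    rw [hL, Subgroup.closure_le]
    intro a ha
    simp only [Set.mem_insert_iff, Set.mem_singleton_iff] at ha
    rcases ha with rfl | rfl
    · exact hxH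
    · exact hyH
  have hLc := hH.mono hLH
  have hdim : finrank F (CV ρ L) ≤ 2 * (t - 1) := by
    have h1 : CV ρ L ≤ Rg ρ x ⊔ Rg ρ y := by
      rw [hL]
      refine CV_closure_le ?_
      intro a ha
      simp only [Set.mem_insert_iff, Set.mem_singleton_iff] at ha
      rcases ha with rfl | rfl
      · exact le_sup_left
      · exact le_sup_right
    have h2 := (Submodule.finrank_mono h1).trans (Submodule.finrank_add_le_finrank_add_finrank _ _)
    rw [finrank_Rg, finrank_Rg, hx.2, hy.2] at h2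
    omega
  have hC : CenH t L := by
    intro y' hy' r hrp hrt R hR hn
    by_cases hd : r ∣ Nat.card L
    · obtain ⟨h2, hrF⟩ := hLc.ok r hrp hd
      obtain ⟨h6, h7⟩ := hmax r hrp (hd.trans (Subgroup.card_dvd_of_le hLH))
      have h1 := cen_below D ht hrp (hrp.odd_of_ne_two h2) (lt_of_le_of_ne h6 hrt) hrF h7
        (Cfsg.Agent.H170.HL.Rows.beta_all D.inj t ht hodd htF) L hdim (y := y') (by
        obtain ⟨k, hk⟩ := hy'
        exact ⟨k, congrArg Subtype.val hk⟩) (R := R.map L.subtype) (Subgroup.map_subtype_le _) (by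
        rintro _ ⟨x, hx, rfl⟩
        obtain ⟨k, hk⟩ := hR ⟨x, hx⟩
        exact ⟨k, congrArg (fun z : R => ((z : L) : Y)) hk⟩) (by
        rintro _ ⟨x, hx, rfl⟩
        exact ⟨_, hn x hx, rfl⟩)
      intro d hd
      exact Subtype.ext (h1 d ⟨d, hd, rfl⟩)
    · intro d hdR
      obtain ⟨k, hk⟩ := hR ⟨d, hdR⟩
      have h1 : d ^ r ^ k = 1 := congrArg Subtype.val hk
      have h5 : Nat.Coprime (r ^ k) (Nat.card L) := Nat.Coprime.pow_left _ ((Nat.Prime.coprime_iff_not_dvd hrp).mpr hd)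
      have h6 : orderOf d ∣ 1 := by
        rw [← h5]
        exact Nat.dvd_gcd (orderOf_dvd_of_pow_eq_one h1) (orderOf_dvd_natCard d)
      rw [orderOf_eq_one_iff.mp (Nat.dvd_one.mp h6), mul_one, one_mul]
  have hgen : Subgroup.closure {x : L | ∃ k : ℕ, x ^ t ^ k = 1} = ⊤ := by
    rw [eq_top_iff, ← Subgroup.closure_closure_coe_preimage (k := ({x, y} : Set Y))]
    apply Subgroup.closure_mono
    rintro ⟨a, ha⟩ ham
    have h' : a = x ∨ a = y := by
      rcases ham with h | h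
      · exact Or.inl h
      · exact Or.inr h
    rcases h' with rfl | rfl
    · exact ⟨1, Subtype.ext (by rw [pow_one]; exact hx.1)⟩
    · exact ⟨1, Subtype.ext (by rw [pow_one]; exact hy.1)⟩
  have hLp : IsPGroup t L := isPGroup_of_cenH hLc.sol hC hgen
  exact comm_of_tgroup D.inj ht htF h5 hfield hLp hdim x hxL y hyL

end

section

variable {F : Type*} [Field F] {V : Type*} [AddCommGroup V] [Module F V] {Y : Type*} [Group Y]
  {ρ : Representation F Y V} [FiniteDimensional F V] [Finite Y]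

/-- frames permuted by `H` -/
theorem exists_fm {e : ℕ → ℕ} {X H : Subgroup Y} (D : LinDat ρ e X) {t : ℕ} (ht : t.Prime)
    (hodd : Odd t) (htF : (t : F) ≠ 0) (htH : t ∣ Nat.card H) (hidx : ¬ t ∣ H.index)
    (hcomm : ∀ x ∈ H, ∀ y ∈ H, IsZ ρ e t x → IsZ ρ e t y → x * y = y * x) :
    ∃ (a : ℕ) (z : Fin a → Y), Fm ρ e H t a z ∧ ∀ h ∈ H, ∀ i, ∃ j, (Rg ρ (z i)).map (ρ h) = Rg ρ (z j) := by
  obtain ⟨a, z, hz⟩ := exists_frame D ht hodd htF (htH.trans (Subgroup.card_subgroup_dvd_card H)) hidx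
  refine ⟨a, z, hz, fun h hh i => ?_⟩
  have h1 : h * z i * h⁻¹ ∈ H := H.mul_mem (H.mul_mem hh (hz.mem i)) (H.inv_mem hh)
  have h2 : IsZ ρ e t (h * z i * h⁻¹) := (hz.isZ i).conj h
  by_contra hcon
  push Not at hcon
  have h3 : ∀ j, ∀ w ∈ Rg ρ (h * z i * h⁻¹), ρ (z j) w = w := by
    intro j
    rcases atom_or D ht hodd htF h2 (hz.isZ j) (hcomm _ h1 _ (hz.mem j) h2 (hz.isZ j)) with h4 | h4
    · exfalso
      apply hcon j
      rw [← Rg_conj, h4]
    · exact h4
  have h4 := hz.max (Rg ρ (h * z i * h⁻¹)) h3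
  rw [finrank_Rg, h2.2] at h4
  exact lt_irrefl _ h4

end

/-- **Task D: the choice of the prime.** -/
theorem exists_Fr {F : Type} [Field F] [Fintype F] {n q : ℕ} {π : Set ℕ} (hF : Fintype.card F = q ^ 2) (hn : 3 ≤ n)
    (h2 : 2 ∉ π) (hp : ∀ r ∈ π, r.Prime → (r : F) ≠ 0) {H : Subgroup (GU n F q)} (hH : IsPiHall π H)
    (hnn : ¬ Group.IsNilpotent H) :
    ∃ (t a : ℕ) (z : Fin a → GU n F q), Fr q H t a z ∧ (n = 3 → eU q t = 1 → 5 ≤ t) ∧
      (eU q t = 1 → ∀ s : ℕ, s.Prime → s ∣ Nat.card H → eU q s = 1 ∨ eU q s = s - 1) := by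
  classical
  have D := linDat_GU (F := F) (q := q) hF n
  have hodd : Odd (Nat.card H) := Cfsg.Agent.H380.RV.odd_of_piN h2 hH.1
  have hHC : HC F H := ⟨S0205.result hodd, fun r hr hd => ⟨by
    rintro rfl
    exact h2 (hH.1 2 hr hd), hp r (hH.1 r hr hd) hr⟩⟩
  have hpr : ∀ r : ℕ, r.Prime → r ∣ Nat.card H → Odd r ∧ (r : F) ≠ 0 ∧ ¬ r ∣ H.index := fun r hr hd =>
    ⟨hr.odd_of_ne_two (hHC.ok r hr hd).1, (hHC.ok r hr hd).2, hH.2 r hr (hH.1 r hr hd)⟩
  have hedvd : ∀ r : ℕ, r.Prime → r ∣ Nat.card H → eU q r ∣ r - 1 := fun r hr hd =>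
    D.row.edvd r hr (hpr r hr hd).2.1
  have hdich : ∀ r : ℕ, r.Prime → r ∣ Nat.card H → 2 * eU q r < r ∨ eU q r = r - 1 := by
    intro r hr hd
    obtain ⟨k, hk⟩ := hedvd r hr hd
    have hr2 := hr.two_le
    rcases Nat.lt_or_ge k 2 with h | h
    · right
      have hk1 : k = 1 := by
        interval_cases k
        · omega
        · rfl
      rw [hk1, mul_one] at hk
      exact hk.symm
    · left
      have h3 : eU q r * 2 ≤ eU q r * k := Nat.mul_le_mul_left _ h
      omega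
  -- generic primes
  have hgen : ∀ t : ℕ, t.Prime → t ∣ Nat.card H → 2 * eU q t < t → ∃ (a : ℕ) (z : Fin a → GU n F q), Fr q H t a z := by
    intro t ht hd hg
    obtain ⟨ho, htF, hi⟩ := hpr t ht hd
    obtain ⟨a, z, hz, hst⟩ := exists_fm D ht ho htF hd hi (fun x hx y hy h3 h4 =>
      small_comm D.row.inj hHC ht htF (h3.sm hx hg) (h4.sm hy hg))
    exact ⟨a, z, ht, ho, htF, hd, hz, hst⟩
  by_cases h1 : ∃ t : ℕ, t.Prime ∧ t ∣ Nat.card H ∧ 2 * eU q t < t ∧ eU q t ≠ 1
  · obtain ⟨t, ht, hd, hg, he⟩ := h1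
    obtain ⟨a, z, hz⟩ := hgen t ht hd hg
    exact ⟨t, a, z, hz, fun _ h => absurd h he, fun h => absurd h he⟩
  push Not at h1
  have hall : ∀ s : ℕ, s.Prime → s ∣ Nat.card H → eU q s = 1 ∨ eU q s = s - 1 := by
    intro s hs hd
    rcases hdich s hs hd with h | h
    · exact Or.inl (h1 s hs hd h)
    · exact Or.inr h
  have hrk : ∀ s : ℕ, s.Prime → s ∣ Nat.card H → eU q s ≤ n := by
    intro s hs hd
    obtain ⟨ho, hsF, -⟩ := hpr s hs hd
    haveI := Fact.mk hs
    obtain ⟨x, hx⟩ := exists_prime_orderOf_dvd_card' s (hd.trans (Subgroup.card_subgroup_dvd_card H))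
    have h3 := le_rk_of_ne D.row hs ho hsF (y := x) (by rw [← hx]; exact pow_orderOf_eq_one x) (by
      rintro rfl
      rw [orderOf_one] at hx
      exact hs.one_lt.ne hx)
    refine h3.trans ?_
    rw [← finrank_Rg]
    refine (Submodule.finrank_le _).trans ?_
    rw [finrank_fin_fun]
  -- not a prime power
  have htwo : ∀ t : ℕ, t.Prime → ∃ s : ℕ, s.Prime ∧ s ∣ Nat.card H ∧ s ≠ t := by
    intro t ht
    by_contra hcon
    push Not at hcon
    haveI := Fact.mk ht
    apply hnn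
    have h3 : IsPGroup t H := IsPGroup.of_card (Nat.eq_prime_pow_of_unique_prime_dvd Nat.card_pos.ne'
      fun {d} hd hdd => hcon d hd hdd)
    exact h3.isNilpotent
  by_cases h3 : ∃ t : ℕ, t.Prime ∧ t ∣ Nat.card H ∧ 2 * eU q t < t ∧ (n = 3 → 5 ≤ t)
  · obtain ⟨t, ht, hd, hg, he⟩ := h3
    obtain ⟨a, z, hz⟩ := hgen t ht hd hg
    exact ⟨t, a, z, hz, fun h _ => he h, fun _ => hall⟩
  push Not at h3
  -- the largest prime
  have hngen : ∀ t : ℕ, t.Prime → t ∣ Nat.card H → eU q t = t - 1 ∧ 2 ≤ eU q t := by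
    intro t ht hd
    rcases hdich t ht hd with h | h
    · exfalso
      obtain ⟨hn3, ht5⟩ := h3 t ht hd h
      have hg5 : ∀ s : ℕ, s.Prime → s ∣ Nat.card H → s = 3 := by
        intro s hs hsd
        have hs2 := hs.two_le
        have hso := (hpr s hs hsd).1
        have hs5 : s < 5 := by
          rcases hdich s hs hsd with h4 | h4
          · exact (h3 s hs hsd h4).2
          · have h6 := hrk s hs hsd
            omega
        obtain ⟨m, hm⟩ := hso
        omega
      obtain ⟨s, hs, hsd, hst⟩ := htwo 3 Nat.prime_three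
      exact hst (hg5 s hs hsd)
    · refine ⟨h, ?_⟩
      rw [h]
      have ht2 := ht.two_le
      obtain ⟨m, hm⟩ := (hpr t ht hd).1
      omega
  have hne : (Nat.card H).primeFactors.Nonempty := by
    obtain ⟨s, hs, hsd, -⟩ := htwo 2 Nat.prime_two
    exact ⟨s, Nat.mem_primeFactors.2 ⟨hs, hsd, Nat.card_pos.ne'⟩⟩
  obtain ⟨t, htm, htmax⟩ := (Nat.card H).primeFactors.exists_max_image id hne
  obtain ⟨ht, hd, -⟩ := Nat.mem_primeFactors.1 htm
  obtain ⟨het, he2⟩ := hngen t ht hd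
  obtain ⟨ho, htF, hi⟩ := hpr t ht hd
  have hmax : ∀ r : ℕ, r.Prime → r ∣ Nat.card H → r ≤ t ∧ 2 ≤ eU q r := fun r hr hrd =>
    ⟨htmax r (Nat.mem_primeFactors.2 ⟨hr, hrd, Nat.card_pos.ne'⟩), (hngen r hr hrd).2⟩
  have h5 : 5 ≤ t := by
    by_contra h6
    have ht3 : t = 3 := by
      obtain ⟨m, hm⟩ := ho
      have := ht.two_le
      omega
    obtain ⟨s, hs, hsd, hst⟩ := htwo 3 Nat.prime_three
    have h7 := (hmax s hs hsd).1
    obtain ⟨m, hm⟩ := (hpr s hs hsd).1
    have := hs.two_le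
    omega
  have hfield : ∀ k, 1 ≤ k → t ∣ Nat.card F ^ k - 1 → t - 1 ≤ 2 * k := by
    intro k hk hdk
    have h6 : ((Nat.card F : ℕ) : ZMod t) ^ k = 1 := by
      have h7 : ((Nat.card F ^ k - 1 : ℕ) : ZMod t) = 0 := (ZMod.natCast_eq_zero_iff _ _).2 hdk
      have h8 : 1 ≤ Nat.card F ^ k := Nat.one_le_pow _ _ Nat.card_pos
      rw [Nat.cast_sub h8, Nat.cast_pow, Nat.cast_one, sub_eq_zero] at h7
      exact h7
    have h7 : (-(q : ZMod t)) ^ (2 * k) = 1 := by
      rw [pow_mul, neg_sq, ← h6, Nat.card_eq_fintype_card, hF, Nat.cast_pow]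
    have h8 : orderOf (-(q : ZMod t)) ∣ 2 * k := orderOf_dvd_of_pow_eq_one h7
    have h9 := Nat.le_of_dvd (by omega) h8
    have h10 : orderOf (-(q : ZMod t)) = t - 1 := het
    omega
  obtain ⟨a, z, hz, hst⟩ := exists_fm D ht ho htF hd hi (fun x hx y hy h6 h7 =>
    comm_top D.row hHC ht htF h5 het.le hmax hfield h6 hx h7 hy)
  refine ⟨t, a, z, ⟨ht, ho, htF, hd, hz, hst⟩, fun _ _ => h5, fun h => ?_⟩
  exfalso
  have h6 : eU q t = 1 := h
  omega

end Cfsg.Agent.H38.DPU
end

-- part: H462/DPU/UpA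
section
/-!
# S4247, row PSU: the lift of a Hall subgroup of `PSU_n(q)` to `GU_n(q)` (helper462, task A)

`exists_up_of` : with the conjugacy of the Hall subgroups of `PSU_n(q)` as a hypothesis.
-/

set_option autoImplicit false

namespace Cfsg.Agent.H462.DPU

open Subgroup Cfsg Matrix Cfsg.Agent.H988.CPi Cfsg.Agent.H380.RV Cfsg.Agent.H715.DPU Cfsg.Agent.H808.RV
open Cfsg.Agent.ClassicalGeometry.PSUAutBasic (pr pr_surjective)
open scoped Pointwise

variable {F : Type*} [Field F] {n q : ℕ} {π : Set ℕ}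

theorem jU_injective : Function.Injective (jU n F q) := fun _ _ h =>
  Subtype.ext (Subtype.ext (congrArg (fun x : GU n F q => x.1.1) h))

theorem range_jU : (jU n F q).range = (dGU n F q).ker := by
  ext g
  rw [MonoidHom.mem_range, MonoidHom.mem_ker, Units.ext_iff]
  constructor
  · rintro ⟨x, rfl⟩
    exact x.1.2
  · intro h
    exact ⟨⟨⟨g.1.1, h⟩, fun u v => g.2 u v⟩, Subtype.ext (Units.ext rfl)⟩

/-- Hall subgroups of `SU`, from `GU` -/
theorem hall_comap [Finite F] {H : Subgroup (GU n F q)} (hH : IsPiHall π H) : IsPiHall π (H.comap (jU n F q)) := by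
  have : Finite (GU n F q) := inferInstance
  have hN : ((jU n F q).range).Normal := by rw [range_jU]; infer_instance
  refine ⟨PiN.of_dvd hH.1 (Subgroup.card_comap_dvd_of_injective _ _ jU_injective), ?_⟩
  refine PiN'.of_dvd hH.2 ?_
  rw [Subgroup.index_comap]
  exact ⟨_, (relIndex_mul_sup_index H _).symm⟩

/-- **The lift**, modulo conjugacy in `PSU`. -/
theorem exists_up_of [Finite F] (hO : ∀ H K : Subgroup (PSU n F q), IsPiHall π H → IsPiHall π K →
      ∃ g : PSU n F q, K = MulAut.conj g • H)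
    {P : Subgroup (PSU n F q)} (hP : IsPiHall π P) : ∃ H : Subgroup (GU n F q), Up π P H := by
  have : Finite (SU n F q) := inferInstance
  have : Finite (GU n F q) := inferInstance
  -- the class `C_π`
  have h1 : IsCPiGroup π (PSU n F q) := ⟨⟨P, hP⟩, fun H K hH hK => by
    obtain ⟨g, hg⟩ := hO H K hH hK
    exact ⟨g, by rw [hg, conj_eq]⟩⟩
  have h2 : IsCPiGroup π (SU n F q) := by
    refine cpi_extension (center (SU n F q)) (cpi_of_solvable ?_) h1
    exact Group.isSolvable_of_comm fun a b => Subtype.ext (mem_center_iff.1 b.2 a)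
  have h3 : IsCPiGroup π (dGU n F q).ker := by
    have e : SU n F q ≃* (dGU n F q).ker :=
      (MonoidHom.ofInjective jU_injective).trans (MulEquiv.subgroupCongr range_jU)
    exact cpi_congr e h2
  have h4 : IsCPiGroup π (GU n F q) := by
    refine cpi_extension (dGU n F q).ker h3 (cpi_of_solvable ?_)
    exact Group.isSolvable_of_comm fun a b => QuotientGroup.kerLift_injective (dGU n F q)
      (by rw [map_mul, map_mul, mul_comm])
  obtain ⟨H', hH'⟩ := h4.1
  -- its image in `PSU`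
  have h5 : IsPiHall π ((H'.comap (jU n F q)).map (pr n F q)) :=
    ⟨PiN.of_dvd (hall_comap hH').1 (card_map_dvd _ _),
      PiN'.of_dvd (hall_comap hH').2 (index_map_dvd _ pr_surjective)⟩
  obtain ⟨y, hy⟩ := hO _ _ h5 hP
  obtain ⟨g, rfl⟩ := pr_surjective y
  refine ⟨MulAut.conj (jU n F q g) • H', isPiHall_smul hH' _, fun x => ?_⟩
  rw [hy, Subgroup.mem_pointwise_smul_iff_inv_smul_mem]
  have h6 : (MulAut.conj (pr n F q g))⁻¹ • x = (pr n F q g)⁻¹ * x * pr n F q g := by
    rw [← map_inv, MulAut.smul_def, MulAut.conj_apply, inv_inv]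
  rw [h6]
  have h7 : ∀ s : SU n F q, (MulAut.conj (jU n F q g))⁻¹ • jU n F q s = jU n F q (g⁻¹ * s * g) := by
    intro s
    rw [← map_inv, MulAut.smul_def, MulAut.conj_apply, inv_inv, map_mul, map_mul, map_inv]
  constructor
  · rintro ⟨s, hs, hsx⟩
    refine ⟨g * s * g⁻¹, ?_, ?_⟩
    · rw [Subgroup.mem_pointwise_smul_iff_inv_smul_mem, h7]
      have h8 : g⁻¹ * (g * s * g⁻¹) * g = s := by group
      rw [h8]
      exact hs
    · rw [map_mul, map_mul, map_inv, hsx]
      group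
  · rintro ⟨s, hs, rfl⟩
    rw [Subgroup.mem_pointwise_smul_iff_inv_smul_mem, h7] at hs
    exact ⟨g⁻¹ * s * g, hs, by rw [map_mul, map_mul, map_inv]⟩

end Cfsg.Agent.H462.DPU
end

-- part: H680/DPU/NoSF
section
/-!
# S4247, row PSU, task J (helper680): `PSU_3(4)` has no subgroup of index 75
-/

set_option autoImplicit false

namespace Cfsg.Agent.H680.DPU

open Subgroup Cfsg Cfsg.Agent.H173.RU

theorem ty13 : Ty 4 13 3 := by
  refine ⟨by norm_num, ?_, by norm_num⟩
  have : Fact (Nat.Prime 3) := ⟨by norm_num⟩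
  refine orderOf_eq_prime ?_ ?_
  · decide
  · decide

/-- Task J: `PSU_3(4)`. -/
theorem no_75 {F : Type} [Field F] [Fintype F] (hF : Fintype.card F = 4 ^ 2) {B : Subgroup (PSU 3 F 4)}
    (hB : Nat.card B = 832) : False := by
  have : Fact (Nat.Prime 13) := ⟨by norm_num⟩
  have hfin : Finite B := Nat.finite_of_card_ne_zero (by rw [hB]; norm_num)
  obtain ⟨R⟩ : Nonempty (Sylow 13 B) := inferInstance
  have hR : Nat.card R = 13 := by
    rw [R.card_eq_multiplicity, hB]
    have : (832 : ℕ).factorization 13 = 1 := by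
      rw [show (832 : ℕ) = 2 ^ 6 * 13 by norm_num, Nat.factorization_mul (by norm_num) (by norm_num), Nat.factorization_pow]
      rw [Nat.Prime.factorization (show Nat.Prime 2 by norm_num), Nat.Prime.factorization (show Nat.Prime 13 by norm_num)]
      simp
    rw [this, pow_one]
  have hidx : (R : Subgroup B).index = 64 := by
    have h1 := Subgroup.card_mul_index (R : Subgroup B)
    have h2 : Nat.card (R : Subgroup B) = 13 := hR
    rw [h2, hB] at h1
    omega
  have h1 := card_sylow_modEq_one 13 B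
  have h2 : Nat.card (Sylow 13 B) ∣ 64 := by
    rw [← hidx]
    exact R.card_dvd_index
  have h3 : Nat.card (Sylow 13 B) = 1 := by
    have h4 : Nat.card (Sylow 13 B) ≤ 64 := Nat.le_of_dvd (by norm_num) h2
    unfold Nat.ModEq at h1
    generalize Nat.card (Sylow 13 B) = N at *
    interval_cases N <;> first | rfl | (exfalso; revert h1 h2; norm_num)
  have hsub : Subsingleton (Sylow 13 B) := (Nat.card_eq_one_iff_unique.1 h3).1
  have hnorm : (R : Subgroup B).Normal := Sylow.normal_of_subsingleton R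
  have hcyc : IsCyclic (R : Subgroup B) := isCyclic_of_prime_card (p := 13) hR
  obtain ⟨y, hy⟩ := (Subgroup.isCyclic_iff_exists_zpowers_eq_top _).1 hcyc
  have hyo : orderOf (y : PSU 3 F 4) = 13 := by
    rw [Subgroup.orderOf_coe, ← Nat.card_zpowers, hy]
    exact hR
  have h4 := Cfsg.Agent.H715.PDU.card_norm ty13 hF (le_refl 3) (Or.inl rfl) (le_refl 3) hyo
  have h5 : B ≤ normalizer ((zpowers (y : PSU 3 F 4) : Subgroup (PSU 3 F 4)) : Set (PSU 3 F 4)) := by
    have hmap : (zpowers (y : PSU 3 F 4) : Subgroup (PSU 3 F 4)) = (R : Subgroup B).map B.subtype := by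
      rw [← hy, MonoidHom.map_zpowers]
      rfl
    rw [hmap]
    have key : ∀ b ∈ B, ∀ h ∈ (R : Subgroup B).map B.subtype, b * h * b⁻¹ ∈ (R : Subgroup B).map B.subtype := by
      rintro b hb _ ⟨r, hr, rfl⟩
      exact ⟨⟨b, hb⟩ * r * ⟨b, hb⟩⁻¹, hnorm.conj_mem r hr ⟨b, hb⟩, rfl⟩
    intro b hb
    rw [mem_normalizer_iff]
    intro h
    refine ⟨key b hb h, fun hh => ?_⟩
    have h7 := key b⁻¹ (B.inv_mem hb) _ hh
    have h8 : b⁻¹ * (b * h * b⁻¹) * b⁻¹⁻¹ = h := by group
    rwa [h8] at h7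
  have h6 := (Subgroup.card_dvd_of_le h5).trans h4
  rw [hB, Cfsg.Agent.H715.PDU.tor] at h6
  revert h6
  norm_num

end Cfsg.Agent.H680.DPU
end

-- part: H715/DPU/RowOf
section
/-!
# S4247, row PSU: the row from its parts (helper715)
-/

set_option autoImplicit false

namespace Cfsg.Agent.H715.DPU

open Subgroup Cfsg Matrix Module Cfsg.Agent.H988.CPi Cfsg.Agent.H571.RV Cfsg.Agent.H817.DPi Cfsg.Agent.H380.RV
  Cfsg.Agent.H553.RV
open Cfsg.Agent.ClassicalGeometry.PSUAutBasic (pr)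
open Cfsg.Agent.ClassicalGeometry.PSUAutCount (gm toAut)

universe u

open scoped Pointwise

/-- statement E -/
def StE (π : Set ℕ) : Prop :=
  ∀ {F : Type} [Field F] [Fintype F] {n q a t : ℕ} (_ : Fintype.card F = q ^ 2) (_ : 3 ≤ n)
    (_ : ¬ (n = 3 ∧ q = 2)) {P : Subgroup (PSU n F q)} {K : Subgroup (MulAut (PSU n F q))}
    {H : Subgroup (GU n F q)} (_ : Up π P H) (_ : ∀ k ∈ K, ∀ x ∈ P, k x = x) {z : Fin a → GU n F q}
    (_ : Fr q H t a z) (_ : n = 3 → eU q t = 1 → 5 ≤ t) {A : GU n F q} {τ : F ≃+* F} (_ : toAut A τ ∈ K),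
    (∀ i, Sv A τ (Rg (rU n F q) (z i))) ∧ (τ = 1 → A ∈ Cz z) ∧ ((∀ x, τ x = x ^ q) → Even (eU q t))

/-- statement F -/
def StF : Prop :=
  ∀ {F : Type} [Field F] [Fintype F] {n q a t : ℕ} (_ : Fintype.card F = q ^ 2)
    {H : Subgroup (GU n F q)} {z : Fin a → GU n F q} (_ : Fr q H t a z) (_ : n = a * eU q t),
    (∀ x ∈ Cz z, ∀ y ∈ Cz z, x * y = y * x) ∧ Nat.card (Cz z) ∣ tU q (eU q t) ^ a

/-- conjugacy of odd Hall subgroups (S4350) for groups in `Type` -/
def OddConj (π : Set ℕ) : Prop :=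
  ∀ (G : Type) [Group G] [Finite G] (H K : Subgroup G), IsPiHall π H → IsPiHall π K → ∃ g : G, K = MulAut.conj g • H

theorem nilGU (π : Set ℕ) : NilGU π := fun _ _ _ _ _ hF h2 hp h => Cfsg.Agent.H38.NP.nil_gu hF h2 hp h

theorem row_main {π : Set ℕ} (hO : OddConj π) (hE : EX π) (hStE : StE π) (hStF : StF)
    {F : Type} [Field F] [Fintype F] {n q p : ℕ} (hF : Fintype.card F = q ^ 2) (hn : 3 ≤ n)
    (h32 : ¬ (n = 3 ∧ q = 2)) (hp : p.Prime) [CharP F p] (hpπ : p ∉ π) : Row π (PSU n F q) := by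
  intro P K B hc hI
  exfalso
  have h2 := hc.two
  have hpn : ∀ r ∈ π, r.Prime → (r : F) ≠ 0 := Cfsg.Agent.H380.RV.char_ne (p := p) hpπ
  have hfS : Finite (SU n F q) := inferInstance
  have hfP : Finite (PSU n F q) := Quotient.finite _
  obtain ⟨H, hU⟩ := Cfsg.Agent.H462.DPU.exists_up_of (fun H K hH hK' => hO (PSU n F q) H K hH hK') hc.hall
  have hnn : ¬ Group.IsNilpotent H := fun h => hc.nnil (hU.nil h)
  obtain ⟨t, a, z, hz, h5, -⟩ := Cfsg.Agent.H38.DPU.exists_Fr hF hn h2 hpn hU.hall hnn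
  refine Dt'.false (F := F) (n := n) (q := q) (a := a) (t := t) (π := π) (P := P) (K := K) (B := B) (H := H) (z := z)
    { hF := hF, hn := hn, h32 := h32, hpn := hpn, hc := hc, hU := hU, hz := hz, h5 := h5,
      hK := fun A τ hA => hStE hF hn h32 hU hc.fix hz h5 hA
      hb := fun W hW0 hW1 hnd hH hK =>
        Cfsg.Agent.H22.DPU.part_b hF hn h32 hp hpπ hE (nilGU π) hc hI hU hW0 hW1 hnd hH hK
      hCz := fun h0 => hStF hF hz h0 } ?_
  intro h4 B' hB'
  exact Cfsg.Agent.H680.DPU.no_75 h4 hB'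

theorem row_psu_of {π : Set ℕ} (hO : OddConj π) (hE : EX π) (hStE : StE π) (hStF : StF)
    {S : Type u} [Group S] {p : ℕ} (hp : p.Prime) (hpπ : p ∉ π) (h : IsPSUChar p S) : Row π S := by
  obtain ⟨F, _, _, _, n, q, hF, hn, h32, ⟨e⟩⟩ := h
  exact Cfsg.Agent.H640.DPU.row_congr e (row_main hO hE hStE hStF hF hn h32 hp hpπ)

end Cfsg.Agent.H715.DPU
end
end

-- part: H817/DPi/TInd
section
prune_inst 0x300000000000000000010000000000000
set_option linter.all false
open scoped Cfsg.Agent.FastGrp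

-- part: H817/DPi/Fac
section
/-!
# Non-abelian composition factors as simple quotients of subnormal subgroups (helper817, for S4247)

`AllCF Q G` : every simple non-abelian factor group of a subnormal subgroup of `G` satisfies `Q`.
-/

set_option autoImplicit false

namespace Cfsg.Agent.H817.DPi

open Subgroup

universe u

/-- every simple non-abelian factor group of a subnormal subgroup satisfies `Q` -/
def AllCF (Q : ∀ (X : Type u) [Group X], Prop) (G : Type u) [Group G] : Prop :=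
  ∀ M : Subgroup G, M.IsSubnormal → ∀ (X : Type u) [Group X] [Finite X] [IsSimpleGroup X], ¬ IsMulCommutative X →
    ∀ f : M →* X, Function.Surjective f → Q X

variable {Q : ∀ (X : Type u) [Group X], Prop}

namespace AllCF

/-- surjective images -/
theorem of_surj {G H : Type u} [Group G] [Group H] (h : AllCF Q G) (φ : G →* H) (hφ : Function.Surjective φ) :
    AllCF Q H := by
  intro M hM X _ _ _ hna f hf
  have hle : (M.comap φ).map φ ≤ M := map_comap_le φ M
  let g : M.comap φ →* M := φ.subgroupComap M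
  refine h (M.comap φ) (hM.comap φ) X hna (f.comp g) ?_
  intro x
  obtain ⟨⟨m, hm⟩, rfl⟩ := hf x
  obtain ⟨y, rfl⟩ := hφ m
  exact ⟨⟨y, hm⟩, rfl⟩

theorem of_equiv {G H : Type u} [Group G] [Group H] (h : AllCF Q G) (e : G ≃* H) : AllCF Q H :=
  h.of_surj e.toMonoidHom e.surjective

/-- subnormal subgroups -/
theorem of_subnormal {G : Type u} [Group G] (h : AllCF Q G) (N : Subgroup G) (hN : N.IsSubnormal) : AllCF Q N := by
  intro M hM X _ _ _ hna f hf
  let e : M ≃* M.map N.subtype := M.equivMapOfInjective N.subtype N.subtype_injective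
  refine h (M.map N.subtype) (hM.trans' hN) X hna (f.comp e.symm.toMonoidHom) ?_
  intro x
  obtain ⟨m, rfl⟩ := hf x
  exact ⟨e m, by simp⟩

/-- a simple subnormal subgroup -/
theorem apply {G : Type u} [Group G] (h : AllCF Q G) (M : Subgroup G) (hM : M.IsSubnormal) {X : Type u} [Group X]
    [Finite X] [IsSimpleGroup X] (hna : ¬ IsMulCommutative X) (e : M ≃* X) : Q X :=
  h M hM X hna e.toMonoidHom e.surjective

/-- simple groups -/
theorem of_simple {T : Type u} [Group T] [IsSimpleGroup T]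
    (hQ : ∀ (X : Type u) [Group X] [Finite X] [IsSimpleGroup X], ¬ IsMulCommutative X → ∀ _ : T ≃* X, Q X) :
    AllCF Q T := by
  intro M hM X _ _ _ hna f hf
  rcases hM.eq_bot_or_top_of_isSimpleGroup inferInstance with h | h
  · subst h
    exfalso
    have h1 : Subsingleton X := hf.subsingleton
    obtain ⟨x, hx⟩ := exists_ne (1 : X)
    exact hx (Subsingleton.elim _ _)
  · subst h
    let f' : T →* X := f.comp topEquiv.symm.toMonoidHom
    have hf' : Function.Surjective f' := by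
      intro x
      obtain ⟨m, rfl⟩ := hf x
      exact ⟨(m : T), rfl⟩
    have hinj : Function.Injective f' := by
      rw [← MonoidHom.ker_eq_bot_iff]
      rcases (inferInstance : f'.ker.Normal).eq_bot_or_eq_top with h | h
      · exact h
      · exfalso
        obtain ⟨x, hx⟩ := exists_ne (1 : X)
        obtain ⟨t, rfl⟩ := hf' x
        have : t ∈ f'.ker := by rw [h]; trivial
        exact hx this
    exact hQ X hna (MulEquiv.ofBijective f' ⟨hinj, hf'⟩)

/-- groups without non-commuting elements -/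
theorem of_comm {G : Type u} [Group G] (hG : ∀ x y : G, x * y = y * x) : AllCF Q G := by
  intro M hM X _ _ _ hna f hf
  exfalso
  apply hna
  refine ⟨⟨fun x y => ?_⟩⟩
  obtain ⟨a, rfl⟩ := hf x
  obtain ⟨b, rfl⟩ := hf y
  rw [← map_mul, ← map_mul]
  congr 1
  exact Subtype.ext (hG a b)

/-- extensions -/
theorem ext {G : Type u} [Group G] (N : Subgroup G) [N.Normal] (h1 : AllCF Q N) (h2 : AllCF Q (G ⧸ N)) :
    AllCF Q G := by
  intro M hM X _ _ _ hna f hf
  have hK : ((N.subgroupOf M).map f).Normal := Normal.map inferInstance f hf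
  rcases hK.eq_bot_or_eq_top with h | h
  · -- factors through `G / N`
    let q : G →* G ⧸ N := QuotientGroup.mk' N
    let g : M →* M.map q := q.subgroupMap M
    have hg : Function.Surjective g := q.subgroupMap_surjective M
    have hker : g.ker ≤ f.ker := by
      intro x hx
      have h3 : q x = 1 := congrArg Subtype.val hx
      have h4 : (x : G) ∈ N := (QuotientGroup.eq_one_iff (x : G)).1 h3
      have h5 : f x ∈ (N.subgroupOf M).map f := ⟨x, h4, rfl⟩
      rw [h] at h5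
      exact h5
    refine h2 (M.map q) (hM.map (QuotientGroup.mk'_surjective N)) X hna (g.liftOfSurjective hg ⟨f, hker⟩) ?_
    intro x
    obtain ⟨m, rfl⟩ := hf x
    exact ⟨g m, MonoidHom.liftOfRightInverse_comp_apply _ _ _ ⟨f, hker⟩ m⟩
  · let j : M.subgroupOf N →* N.subgroupOf M :=
      { toFun := fun x => ⟨⟨(x : N), x.2⟩, (x : N).2⟩
        map_one' := rfl
        map_mul' := fun _ _ => rfl }
    refine h1 (M.subgroupOf N) hM.subgroupOf X hna (f.comp ((N.subgroupOf M).subtype.comp j)) ?_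
    intro x
    have hx : x ∈ (N.subgroupOf M).map f := by rw [h]; trivial
    obtain ⟨y, hy, rfl⟩ := hx
    exact ⟨⟨⟨(y : G), hy⟩, y.2⟩, rfl⟩

/-- extensions, with a homomorphism -/
theorem ext_hom {G H : Type u} [Group G] [Group H] (φ : G →* H) (hφ : Function.Surjective φ) (h1 : AllCF Q φ.ker)
    (h2 : AllCF Q H) : AllCF Q G :=
  ext φ.ker h1 (h2.of_equiv (QuotientGroup.quotientKerEquivOfSurjective φ hφ).symm)

/-- direct products -/
theorem pi : ∀ {m : ℕ} (T : Fin m → Type u) [∀ i, Group (T i)] (_ : ∀ i, AllCF Q (T i)), AllCF Q (∀ i, T i) := by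
  intro m
  induction m with
  | zero =>
    intro T _ _
    exact of_comm fun x y => Subsingleton.elim _ _
  | succ m ih =>
    intro T _ h
    have h1 := ih (fun i => T i.succ) (fun i => h i.succ)
    let φ : (∀ i, T i) →* T 0 := Pi.evalMonoidHom T 0
    have hφ : Function.Surjective φ := by
      classical
      intro x
      exact ⟨Pi.mulSingle 0 x, Pi.mulSingle_eq_same 0 x⟩
    refine ext_hom φ hφ ?_ (h 0)
    let e : (∀ i : Fin m, T i.succ) ≃* φ.ker :=
      { toFun := fun x => ⟨Fin.cons 1 x, by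
          rw [MonoidHom.mem_ker]; rfl⟩
        invFun := fun y i => (y : ∀ i, T i) i.succ
        left_inv := fun x => by
          funext i
          rfl
        right_inv := fun y => by
          apply Subtype.ext
          funext i
          refine Fin.cases ?_ (fun j => rfl) i
          have : φ y = 1 := y.2
          exact this.symm
        map_mul' := fun x y => by
          apply Subtype.ext
          funext i
          refine Fin.cases ?_ (fun j => rfl) i
          show (1 : T 0) = 1 * 1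
          rw [one_mul] }
    exact h1.of_equiv e

end AllCF

end Cfsg.Agent.H817.DPi
end

-- part: H817/DPi/TInd
section
/-!
# Products of two π-decomposable groups: the composition factors (helper817, for S4247)

`all_cls` : `G = (LA × KA)(LB × KB)`, `2 ∉ π`: every non-abelian composition factor of `G` satisfies `Cls π`, from the
rows `DPi.Row π S` (and the rows of S4246).
-/

set_option autoImplicit false
set_option linter.unusedSectionVars false
set_option linter.unusedVariables false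

namespace Cfsg.Agent.H817.DPi

open Subgroup Cfsg Cfsg.Agent.H988.CPi Cfsg.Agent.H571.RV Cfsg.Agent.H803.S74 Cfsg.Agent.H817.PD

universe u

variable {π : Set ℕ}

theorem nilHall_of_pi' {X : Type u} [Group X] [Finite X] (h : PiN' π (Nat.card X)) : NilHall π X := by
  refine ⟨⊥, ⟨?_, ?_⟩, ?_⟩
  · have : PiN π (Nat.card (⊥ : Subgroup X)) := by rw [card_bot]; exact PiN.one
    exact this
  · have : PiN' π (⊥ : Subgroup X).index := by rw [index_bot]; exact h
    exact this
  · infer_instance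

theorem nilHall_of_equiv {X Y : Type u} [Group X] [Group Y] [Finite X] (e : X ≃* Y) (h : NilHall π X) : NilHall π Y := by
  obtain ⟨H, hH, hn⟩ := h
  refine ⟨H.map e.toMonoidHom, ⟨?_, ?_⟩, ?_⟩
  · have h1 : PiN π (Nat.card (H.map e.toMonoidHom)) := by
      rw [card_map_of_injective e.injective]; exact hH.1
    exact h1
  · have h1 : PiN' π (H.map e.toMonoidHom).index := PiN'.of_dvd hH.2 (index_map_dvd _ e.surjective)
    exact h1
  · exact Group.nilpotent_of_mulEquiv (H.equivMapOfInjective e.toMonoidHom e.injective)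

theorem two_of_equiv {r s : ℕ} {X Y : Type u} [Group X] [Group Y] (e : X ≃* Y) (h : Two π r s X) : Two π r s Y := by
  intro l hl hlp hd
  rw [← Nat.card_congr e.toEquiv] at hd
  exact h l hl hlp hd

theorem rankOne_of_equiv {p : ℕ} {X Y : Type u} [Group X] [Group Y] (e : X ≃* Y) (h : RankOne p X) : RankOne p Y := by
  rcases h with ⟨F, i1, i2, i3, h1, ⟨f⟩⟩ | ⟨F, i1, i2, i3, q, h1, h2, ⟨f⟩⟩ | ⟨hp, h1⟩
  · exact Or.inl ⟨F, i1, i2, i3, h1, ⟨e.symm.trans f⟩⟩
  · exact Or.inr (Or.inl ⟨F, i1, i2, i3, q, h1, h2, ⟨e.symm.trans f⟩⟩)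
  · refine Or.inr (Or.inr ⟨hp, ?_⟩)
    obtain ⟨K, i1, i2, m, h2, h3, ⟨f⟩⟩ := h1
    exact ⟨K, i1, i2, m, h2, h3, ⟨e.symm.trans f⟩⟩

theorem lx_of_equiv {X Y : Type u} [Group X] [Group Y] (e : X ≃* Y) (h : LX π X) : LX π Y := by
  rcases h with ⟨p, hp, hpp, h1⟩ | ⟨⟨f⟩⟩ | ⟨⟨f⟩, h1⟩ | ⟨⟨f⟩, h1⟩ | ⟨⟨f⟩, h1⟩
  · exact Or.inl ⟨p, hp, hpp, rankOne_of_equiv e h1⟩
  · exact Or.inr (Or.inl ⟨e.symm.trans f⟩)
  · exact Or.inr (Or.inr (Or.inl ⟨⟨e.symm.trans f⟩, two_of_equiv e h1⟩))
  · exact Or.inr (Or.inr (Or.inr (Or.inl ⟨⟨e.symm.trans f⟩, two_of_equiv e h1⟩)))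
  · exact Or.inr (Or.inr (Or.inr (Or.inr ⟨⟨e.symm.trans f⟩, two_of_equiv e h1⟩)))

theorem cls_of_equiv {X Y : Type u} [Group X] [Group Y] [Finite X] (e : X ≃* Y) (h : Cls π X) : Cls π Y :=
  h.elim (fun h => Or.inl (nilHall_of_equiv e h)) fun h => Or.inr (lx_of_equiv e h)

/-- the non-abelian composition factors, for all factorisations -/
def CF (π : Set ℕ) (n : ℕ) : Prop :=
  ∀ (X : Type u) [Group X] [Finite X], Nat.card X < n → ∀ LA KA LB KB : Subgroup X, PD π LA KA LB KB →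
    AllCF.{u} (Cls π) X

variable {G : Type u} [Group G] [Finite G] {LA KA LB KB : Subgroup G}

theorem sup_sub {Z : Subgroup G} (h : PD π LA KA LB KB) (ih : CF.{u} π (Nat.card G)) (hZ : Z ≠ ⊤) (h1 : LA ≤ Z)
    (h2 : KA ≤ Z) : AllCF.{u} (Cls π) Z :=
  ih Z (card_lt_of_ne_top hZ) _ _ _ _ (h.sub h1 h2)

/-- equality of the decompositions modulo `N` -/
theorem quot_eq2 (h : PD π LA KA LB KB) {N : Subgroup G} [N.Normal] (h1 : LB ⊔ KB ⊔ N = ⊤) :
    LA ≤ LB ⊔ N ∧ KA ≤ KB ⊔ N := by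
  have hq := h.quot N
  set q := QuotientGroup.mk' N with hqd
  set la := LA.map q
  set ka := KA.map q
  set lb := LB.map q
  set kb := KB.map q
  have hker : ∀ X : Subgroup G, (X.map q).comap q = X ⊔ N := by
    intro X
    rw [comap_map_eq, hqd, QuotientGroup.ker_mk']
  have hmapN : N.map q = ⊥ := by
    rw [Subgroup.map_eq_bot_iff, hqd, QuotientGroup.ker_mk']
  have e1 : lb ⊔ kb = ⊤ := by
    have := congrArg (Subgroup.map q) h1
    rw [Subgroup.map_sup, Subgroup.map_sup, hmapN, sup_bot_eq,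
      map_top_of_surjective q (QuotientGroup.mk'_surjective N)] at this
    exact this
  have key : ∀ x : G ⧸ N, (∃ c ∈ lb, ∃ d ∈ kb, x = c * d ∧ orderOf c ∣ orderOf x ∧ orderOf d ∣ orderOf x) := by
    intro x
    have hx : x ∈ lb ⊔ kb := by rw [e1]; exact mem_top x
    obtain ⟨c, hc, d, hd, rfl⟩ := (mem_sup_comm hq.cb).1 hx
    obtain ⟨h2, h3⟩ := split hq.lb hq.kb hq.cb hc hd
    exact ⟨c, hc, d, hd, rfl, orderOf_dvd_of_mem_zpowers h2, orderOf_dvd_of_mem_zpowers h3⟩
  have e2 : la ≤ lb := by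
    intro x hx
    obtain ⟨c, hc, d, hd, hx', h2, h3⟩ := key x
    have h4 : orderOf d = 1 := by
      apply eq_one_of_both (π := π)
      · exact hq.la.of_dvd (h3.trans (Subgroup.orderOf_dvd_natCard la hx))
      · exact hq.kb.of_dvd (Subgroup.orderOf_dvd_natCard kb hd)
    rw [orderOf_eq_one_iff] at h4
    rw [hx', h4, mul_one]
    exact hc
  have e3 : ka ≤ kb := by
    intro x hx
    obtain ⟨c, hc, d, hd, hx', h2, h3⟩ := key x
    have h4 : orderOf c = 1 := by
      apply eq_one_of_both (π := π)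
      · exact hq.lb.of_dvd (Subgroup.orderOf_dvd_natCard lb hc)
      · exact hq.ka.of_dvd (h2.trans (Subgroup.orderOf_dvd_natCard ka hx))
    rw [orderOf_eq_one_iff] at h4
    rw [hx', h4, one_mul]
    exact hd
  refine ⟨?_, ?_⟩
  · rw [← hker LB]
    exact (le_comap_map q LA).trans (comap_mono e2)
  · rw [← hker KB]
    exact (le_comap_map q KA).trans (comap_mono e3)

/-- the configuration of S4246, if both `LA` and `LB` are non-trivial -/
theorem minCex (h : PD π LA KA LB KB) {N : Subgroup G} [hN : N.Normal]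
    (hmin : ∀ M : Subgroup G, M.Normal → M ≤ N → M = ⊥ ∨ M = N)
    (hna : ¬ ∀ x ∈ N, ∀ y ∈ N, Commute x y) (hpi : ¬ PiN' π (Nat.card N))
    (hcent : Subgroup.centralizer (N : Set G) = ⊥) (hA : LA ⊔ KA ⊔ N = ⊤) (hB : LB ⊔ KB ⊔ N = ⊤)
    (hLA : LA ≠ ⊥) (hLB : LB ≠ ⊥) : MinCex π LA KA LB KB N := by
  obtain ⟨a1, a2⟩ := quot_eq2 h hB
  obtain ⟨b1, b2⟩ := quot_eq2 h.symm hA
  refine ⟨h, hLA, hLB, hN, hmin, hna, hpi, hcent, hB, a1, ?_, ?_⟩
  · exact le_antisymm (sup_le a2 le_sup_right) (sup_le b2 le_sup_right)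
  · intro Y hY h1 h2
    rcases hmin (Y ⊓ N) inferInstance inf_le_right with h3 | h3
    · exfalso
      apply hLA
      rw [eq_bot_iff, ← hcent]
      refine h1.trans ?_
      intro y hy
      rw [mem_centralizer_iff]
      intro n hn
      have h4 : n * y * n⁻¹ * y⁻¹ ∈ Y ⊓ N := by
        refine ⟨Y.mul_mem (hY.conj_mem y hy n) (Y.inv_mem hy), ?_⟩
        have h5 := N.mul_mem hn (hN.conj_mem _ (N.inv_mem hn) y)
        have e : n * y * n⁻¹ * y⁻¹ = n * (y * n⁻¹ * y⁻¹) := by group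
        rw [e]; exact h5
      rw [h3, mem_bot] at h4
      have h5 : n * y * n⁻¹ * y⁻¹ * y * n = y * n := by rw [h4, one_mul]
      have e : n * y * n⁻¹ * y⁻¹ * y * n = n * y := by group
      rw [e] at h5
      exact h5
    · have h4 : N ≤ Y := by rw [← h3]; exact inf_le_left
      rw [eq_top_iff, ← hA]
      exact sup_le (sup_le h1 h2) h4

/-- **The configuration on a simple normal subgroup.** -/
theorem cls_simple (h2 : 2 ∉ π) (h : PD π LA KA ⊥ KB) (ih : CF.{u} π (Nat.card G)) {N : Subgroup G} [hN : N.Normal]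
    (hs : IsSimpleGroup N) (hna : ¬ IsMulCommutative N) (hcent : Subgroup.centralizer (N : Set G) = ⊥)
    (hLA : LA ≤ N) (hA : KA ⊔ N = ⊤) (hB : KB ⊔ N = ⊤)
    (hrow : Row π N) : Cls π N := by
  -- the Hall subgroup
  have hHall : IsPiHall π LA := by
    have h3 := h.hall (by rw [sup_bot_eq]; exact h.la)
    rwa [sup_bot_eq] at h3
  have hHN : IsPiHall π (LA.subgroupOf N) := isPiHall_subgroupOf hHall N
  by_cases hnil : Group.IsNilpotent (LA.subgroupOf N)
  · exact Or.inl ⟨_, hHN, hnil⟩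
  right
  let Φ : G →* MulAut N := MulAut.conjNormal
  have hΦ : ∀ (g : G) (x : N), ((Φ g x : N) : G) = g * x * g⁻¹ := fun g x => MulAut.conjNormal_apply g x
  have hinn : N.map Φ = inn N := by
    ext α
    constructor
    · rintro ⟨n, hn, rfl⟩
      refine ⟨⟨n, hn⟩, ?_⟩
      ext x
      rw [hΦ, MulAut.conj_apply]
      rfl
    · rintro ⟨n, rfl⟩
      refine ⟨n, n.2, ?_⟩
      ext x
      rw [hΦ, MulAut.conj_apply]
      rfl
  have eA : KA.map Φ ⊔ inn N = Φ.range := by
    rw [← hinn, ← Subgroup.map_sup, hA, MonoidHom.range_eq_map]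
  have eB : KB.map Φ ⊔ inn N = Φ.range := by
    rw [← hinn, ← Subgroup.map_sup, hB, MonoidHom.range_eq_map]
  have hcfg : Cfg π (LA.subgroupOf N) (KA.map Φ) (KB.map Φ) := by
    refine ⟨h2, hHN, hnil, h.ka.of_dvd (card_map_dvd _ _), h.kb.of_dvd (card_map_dvd _ _), ?_, ?_, ?_⟩
    · rintro _ ⟨k, hk, rfl⟩ x hx
      apply Subtype.ext
      rw [hΦ, ← h.ca x hx k hk, mul_inv_cancel_right]
    · rw [eA, eB]
    · intro g hg
      rw [eB] at hg
      obtain ⟨g, rfl⟩ := hg
      obtain ⟨a, ha, b, hb, c, hc, d, hd, rfl⟩ := h.prod g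
      rw [mem_bot] at hc
      subst hc
      refine ⟨⟨a, hLA ha⟩, ha, Φ b, ⟨b, hb, rfl⟩, Φ d, ⟨d, hd, rfl⟩, ?_⟩
      rw [one_mul, map_mul, map_mul]
      congr 2
      ext x
      rw [hΦ, MulAut.conj_apply]
      rfl
  refine hrow _ _ _ hcfg ?_
  intro H hH hPH hKH X _ _ _ hX f hf
  set H' : Subgroup G := H.map N.subtype with hH'
  have hH'N : H' ≤ N := map_subtype_le H
  set M : Subgroup G := normalizer (H' : Set G) with hM
  have hnt : H ≠ ⊥ := by
    rintro rfl
    have h1 : Subsingleton X := hf.subsingleton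
    obtain ⟨x, hx⟩ := exists_ne (1 : X)
    exact hx (Subsingleton.elim _ _)
  have hMtop : M ≠ ⊤ := by
    intro htop
    have hn : H'.Normal := normalizer_eq_top_iff.1 htop
    have h3 : (H'.subgroupOf N).Normal := inferInstance
    have h4 : H'.subgroupOf N = H := comap_map_eq_self_of_injective N.subtype_injective H
    rw [h4] at h3
    rcases h3.eq_bot_or_eq_top with h5 | h5
    · exact hnt h5
    · exact hH h5
  have hLM : LA ≤ M := by
    intro a ha
    have h3 : (⟨a, hLA ha⟩ : N) ∈ normalizer (H : Set N) := hPH ha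
    rw [hM, mem_normalizer_iff]
    intro y
    rw [mem_normalizer_iff] at h3
    constructor
    · rintro ⟨y, hy, rfl⟩
      exact ⟨_, (h3 y).1 hy, rfl⟩
    · rintro ⟨z, hz, hzy⟩
      have hyN : y ∈ N := by
        have h6 : (z : G) ∈ N := z.2
        have h7 : a * y * a⁻¹ ∈ N := by rw [← hzy]; exact h6
        have h8 := hN.conj_mem _ h7 a⁻¹
        have e : a⁻¹ * (a * y * a⁻¹) * a⁻¹⁻¹ = y := by group
        rwa [e] at h8
      refine ⟨⟨y, hyN⟩, (h3 ⟨y, hyN⟩).2 ?_, rfl⟩
      have : (⟨a, hLA ha⟩ : N) * ⟨y, hyN⟩ * (⟨a, hLA ha⟩ : N)⁻¹ = z := Subtype.ext hzy.symm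
      rw [this]; exact hz
  have hKM : KA ≤ M := by
    intro k hk
    have h3 : Φ k ∈ stab H := hKH ⟨k, hk, rfl⟩
    rw [mem_stab] at h3
    rw [hM, mem_normalizer_iff_map_conj_eq, hH']
    conv_rhs => rw [← h3]
    rw [map_map, map_map]
    congr 1
  have hHM : H' ≤ M := le_normalizer
  have hAll := sup_sub h ih hMtop hLM hKM
  have hsub : (H'.subgroupOf M).IsSubnormal := by
    apply Normal.isSubnormal
    exact (normal_subgroupOf_iff_le_normalizer hHM).2 le_rfl
  let e1 : H'.subgroupOf M ≃* H' := subgroupOfEquivOfLe hHM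
  let e2 : H ≃* H' := H.equivMapOfInjective N.subtype N.subtype_injective
  refine hAll _ hsub X hX ((f.comp e2.symm.toMonoidHom).comp e1.toMonoidHom) ?_
  intro x
  obtain ⟨m, rfl⟩ := hf x
  refine ⟨e1.symm (e2 m), ?_⟩
  show f (e2.symm (e1 (e1.symm (e2 m)))) = f m
  rw [MulEquiv.apply_symm_apply, MulEquiv.symm_apply_apply]

section one

variable {N : Subgroup G} [hN : N.Normal] {m : ℕ} {T : Fin m → Subgroup G} {e : N ≃* ∀ i, T i}

/-- `LB = 1` -/
theorem cls_bot (h2 : 2 ∉ π) (h : PD π LA KA ⊥ KB) (ih : CF.{u} π (Nat.card G))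
    (hmin : ∀ M : Subgroup G, M.Normal → M ≤ N → M = ⊥ ∨ M = N) (hs : Sys N T e)
    (hcent : Subgroup.centralizer (N : Set G) = ⊥) (hA : LA ⊔ KA ⊔ N = ⊤) (hB : ⊥ ⊔ KB ⊔ N = ⊤)
    (hrow : ∀ (S : Type u) [Group S] [Finite S] [IsSimpleGroup S], ¬ IsMulCommutative S → Row π S) (i : Fin m) :
    Cls π (T i) := by
  have hsi := hs.simple i
  have hnai : ¬ IsMulCommutative (T i) := by
    intro hc
    obtain ⟨a, b, hab⟩ := hs.nab i
    exact hab (mul_comm' a b)
  rw [bot_sup_eq] at hB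
  have hLA : LA ≤ N := by
    obtain ⟨h3, -⟩ := quot_eq2 h (by rw [bot_sup_eq]; exact hB)
    rwa [bot_sup_eq] at h3
  have hA' : KA ⊔ N = ⊤ := by
    rw [eq_top_iff, ← hA]
    exact sup_le (sup_le (hLA.trans le_sup_right) le_sup_left) le_sup_right
  have hHall : IsPiHall π LA := by
    have h3 := h.hall (by rw [sup_bot_eq]; exact h.la)
    rwa [sup_bot_eq] at h3
  by_cases hT : LA ⊓ T i = ⊥
  · -- `T i` is a `π'`-group
    left
    apply nilHall_of_pi'
    have h3 : IsPiHall π (LA.subgroupOf N) := isPiHall_subgroupOf hHall N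
    have hTn : ((T i).subgroupOf N).Normal := (normal_subgroupOf_iff_le_normalizer (hs.le i)).2 (hs.norm i)
    have h4 := (isPiHall_subgroupOf h3 ((T i).subgroupOf N)).2
    have h5 : PiN' π ((LA.subgroupOf N).relIndex ((T i).subgroupOf N)) := h4
    rw [relIndex_subgroupOf (hs.le i), ← inf_relIndex_right, hT, relIndex_bot_left] at h5
    exact h5
  · obtain ⟨σ, hσ⟩ := hs.exists_sigma
    obtain ⟨x, hx, hx1⟩ : ∃ x : G, x ∈ LA ⊓ T i ∧ x ≠ 1 := by
      obtain ⟨x, hx⟩ := Subgroup.ne_bot_iff_exists_ne_one.1 hT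
      exact ⟨x, x.2, fun h0 => hx (Subtype.ext h0)⟩
    have hKA : ∀ k ∈ KA, σ k i = i := by
      intro k hk
      by_contra hne
      have h3 : x ∈ T (σ k i) := by
        have h4 := Sys.mem_sigma hσ (g := k) hx.2
        rwa [← h.ca x hx.1 k hk, mul_inv_cancel_right] at h4
      have h4 := hs.disj hne h3 hx.2
      exact hx1 h4
    have hall : ∀ g : G, σ g i = i := by
      intro g
      have hg : g ∈ KA ⊔ N := by rw [hA']; trivial
      obtain ⟨k, hk, n, hn, rfl⟩ := mem_sup_of_normal_right.1 hg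
      rw [map_mul, Equiv.Perm.mul_apply, Sys.sigma_of_mem hs hσ hn, hKA k hk]
    have hTn : (T i).Normal := by
      refine ⟨fun y hy g => ?_⟩
      exact (Sys.sigma_eq_iff hs hσ).1 (hall g) y hy
    have hTN : T i = N := by
      rcases hmin (T i) hTn (hs.le i) with h3 | h3
      · exfalso
        have : Subsingleton (T i) := by rw [h3]; infer_instance
        obtain ⟨y, hy⟩ := exists_ne (1 : T i)
        exact hy (Subsingleton.elim _ _)
      · exact h3
    have hT2 : ∀ Z : Subgroup G, Z = N → ∀ _ : Finite Z, ∀ _ : IsSimpleGroup Z, ¬ IsMulCommutative Z → Cls π Z := by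
      rintro Z rfl _ hsZ hnaZ
      exact cls_simple h2 h ih hsZ hnaZ hcent hLA hA' hB (hrow _ hnaZ)
    exact hT2 (T i) hTN inferInstance hsi hnai

end one

/-- **The composition factors.** -/
theorem all_cls (h2 : 2 ∉ π)
    (hRow : ∀ (S : Type u) [Group S] [Finite S] [IsSimpleGroup S], ¬ IsMulCommutative S → H160.PD.Row S)
    (hOut : ∀ (S : Type u) [Group S] [Finite S] [IsSimpleGroup S], ¬ IsMulCommutative S → OutTwo S)
    (hrow : ∀ (S : Type u) [Group S] [Finite S] [IsSimpleGroup S], ¬ IsMulCommutative S → Row π S) :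
    ∀ n : ℕ, CF.{u} π n := by
  intro n
  induction n with
  | zero => intro X _ _ hX; omega
  | succ n ih =>
    intro G _ _ hX LA KA LB KB h
    have ih' : CF.{u} π (Nat.card G) := by
      intro Y _ _ hY
      exact ih Y (by omega)
    by_cases htop : (⊤ : Subgroup G) = ⊥
    · refine AllCF.of_comm fun x y => ?_
      have hx : ∀ z : G, z = 1 := fun z => by
        have : z ∈ (⊤ : Subgroup G) := mem_top z
        rwa [htop, mem_bot] at this
      rw [hx x, hx y]
    obtain ⟨N, hN, hN1, -, hmin⟩ := exists_minimal_normal (⊤ : Subgroup G) htop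
    have hQ : ∀ M : Subgroup G, ∀ _ : M.Normal, M ≠ ⊥ → AllCF.{u} (Cls π) (G ⧸ M) := fun M hM hM1 =>
      ih' (G ⧸ M) (card_quot_lt hM1) _ _ _ _ (h.quot M)
    refine AllCF.ext N ?_ (hQ N hN hN1)
    by_cases hab : ∀ x ∈ N, ∀ y ∈ N, Commute x y
    · exact AllCF.of_comm fun x y => Subtype.ext (hab x x.2 y y.2)
    obtain ⟨m, T, e, hm0, hs⟩ := exists_sys N hmin hab
    refine AllCF.of_equiv ?_ e.symm
    refine AllCF.pi _ fun i => ?_
    have hsi := hs.simple i
    have hnai : ¬ IsMulCommutative (T i) := by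
      intro hc
      obtain ⟨a, b, hab⟩ := hs.nab i
      exact hab (mul_comm' a b)
    have hsub := hs.subnormal i
    -- the centraliser
    by_cases hcent : Subgroup.centralizer (N : Set G) = ⊥
    swap
    · let C := Subgroup.centralizer (N : Set G)
      let q : G →* G ⧸ C := QuotientGroup.mk' C
      have h3 := (hQ C inferInstance hcent).of_subnormal ((T i).map q)
        (hsub.map (QuotientGroup.mk'_surjective C))
      have hinj : Function.Injective (q.subgroupMap (T i)) := by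
        rw [injective_iff_map_eq_one]
        intro x hx
        have h4 : q x = 1 := congrArg Subtype.val hx
        have h5 : (x : G) ∈ C := (QuotientGroup.eq_one_iff (x : G)).1 h4
        have h6 : x ∈ center (T i) := by
          rw [mem_center_iff]
          intro y
          exact Subtype.ext (mem_centralizer_iff.1 h5 y (hs.le i y.2))
        have h7 : center (T i) = ⊥ := by
          rcases (inferInstance : (center (T i)).Normal).eq_bot_or_eq_top with h8 | h8
          · exact h8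
          · exfalso
            obtain ⟨a, b, hab⟩ := hs.nab i
            have : b ∈ center (T i) := by rw [h8]; trivial
            exact hab (mem_center_iff.1 this a)
        rw [h7, mem_bot] at h6
        exact h6
      exact h3.of_equiv (MulEquiv.ofBijective _ ⟨hinj, q.subgroupMap_surjective (T i)⟩).symm
    -- proper subgroups
    have hproper : ∀ Z : Subgroup G, N ≤ Z → AllCF.{u} (Cls π) Z → AllCF.{u} (Cls π) (T i) := by
      intro Z hNZ hZ
      exact (hZ.of_subnormal ((T i).subgroupOf Z) hsub.subgroupOf).of_equiv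
        (subgroupOfEquivOfLe ((hs.le i).trans hNZ))
    by_cases hA : LA ⊔ KA ⊔ N = ⊤
    swap
    · exact hproper _ le_sup_right (sup_sub h ih' hA (le_sup_left.trans le_sup_left) (le_sup_right.trans le_sup_left))
    by_cases hB : LB ⊔ KB ⊔ N = ⊤
    swap
    · exact hproper _ le_sup_right
        (sup_sub h.symm ih' hB (le_sup_left.trans le_sup_left) (le_sup_right.trans le_sup_left))
    refine AllCF.of_simple fun X _ _ _ hX e' => cls_of_equiv e' ?_
    by_cases hpi : PiN' π (Nat.card N)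
    · left
      exact nilHall_of_pi' (hpi.of_dvd (card_dvd_of_le (hs.le i)))
    by_cases hLB : LB = ⊥
    · subst hLB
      exact cls_bot h2 h ih' hmin hs hcent hA hB hrow i
    by_cases hLA : LA = ⊥
    · subst hLA
      exact cls_bot h2 h.symm ih' hmin hs hcent hB hA hrow i
    · exfalso
      have hm := minCex h hmin hab hpi hcent hA hB hLA hLB
      exact hRow (T i) hnai _ _ _ _ _ (hm.cfg h2 hs i (hOut (T i) hnai))

end Cfsg.Agent.H817.DPi
end
end

-- part: H817/DPi/Asm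
section
prune_inst 0x352039440140000000008092d1003c06ce000190002b8c01cda30b460680ef220d02a760ad801101480a230400310028120000f00000000000200000010101a0902810043100a00426009f801084610200000000300000000000000000010004000000000
set_option linter.all false
open scoped Cfsg.Agent.FastGrp

-- part: H817/DPi/Main
section
/-!
# Products of two π-decomposable groups satisfy `D_π`: the reduction (helper817, for S4247)

* `rowE_of_nilHall` : a simple group with a nilpotent Hall `π`-subgroup satisfies `RowE π` (`2 ∉ π`);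
* `dom_all` : `D_π` for `G = (LA × KA)(LB × KB)` from the rows;
* `S4247_of` : S4247 from the rows.
-/

set_option autoImplicit false
set_option linter.unusedSectionVars false
set_option linter.unusedVariables false

namespace Cfsg.Agent.H817.DPi

open Subgroup Cfsg Cfsg.Agent.H988.CPi Cfsg.Agent.H571.RV Cfsg.Agent.H571.DExt Cfsg.Agent.H817.PD
open Cfsg.Agent.Lib.MinNormalNonabelian
open scoped Pointwise

universe u

variable {π : Set ℕ}

theorem odd_of_pi (h2 : 2 ∉ π) {n : ℕ} (h : PiN π n) : Odd n := by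
  rw [← Nat.not_even_iff_odd]
  intro he
  exact h2 (h 2 Nat.prime_two he.two_dvd)

/-- **NilHall**: `RowE`. -/
theorem rowE_of_nilHall {X : Type u} [Group X] [Finite X] (h2 : 2 ∉ π) (hc : Subgroup.center X = ⊥)
    (h : NilHall π X) : RowE π X := by
  intro hD P₀ hP₀
  obtain ⟨H, hH, hn⟩ := h
  obtain ⟨P, hle, hP⟩ := Finite.exists_le_maximal (p := IsPiSubgroup π) (a := P₀) hP₀
  have hinj : Function.Injective (MulAut.conj : X →* MulAut X) := _root_.Cfsg.Agent.H571.RV.conj_injective hc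
  let e : X ≃* inn X := MonoidHom.ofInjective hinj
  have hH' : IsPiHall π (H.map e.toMonoidHom) := by
    refine ⟨?_, ?_⟩
    · have h1 : PiN π (Nat.card (H.map e.toMonoidHom)) :=
        PiN.of_dvd (π := π) (show PiN π (Nat.card H) from hH.1) (card_map_dvd _ _)
      exact h1
    · have h1 : PiN' π (H.map e.toMonoidHom).index := PiN'.of_dvd hH.2 (index_map_dvd _ e.surjective)
      exact h1
  have hn' : Group.IsNilpotent (H.map e.toMonoidHom) :=
    Group.nilpotent_of_mulEquiv (H.equivMapOfInjective e.toMonoidHom e.injective)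
  have hsol : Group.IsSolvable (P.map (QuotientGroup.mk' (inn X))) := by
    apply Cfsg.Agent.S0205.result
    exact odd_of_pi h2 (PiN.of_dvd hP.1 (card_map_dvd _ _))
  exact exists_stab hc hP.1 hle (inter_hall_of_nilpotent (inn X) hH' hn' hP hsol)

theorem dom_of_nilHall {X : Type u} [Group X] [Finite X] (h : NilHall π X) : Dom π X := by
  obtain ⟨H, hH, hn⟩ := h
  exact dom_of_nilpotent hH hn

theorem center_eq_bot {X : Type u} [Group X] [IsSimpleGroup X] (hna : ¬ IsMulCommutative X) :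
    Subgroup.center X = ⊥ := by
  rcases (inferInstance : (center X).Normal).eq_bot_or_eq_top with h | h
  · exact h
  · exfalso
    apply hna
    refine ⟨⟨fun a b => ?_⟩⟩
    have : b ∈ center X := by rw [h]; trivial
    exact mem_center_iff.1 this a

theorem subnormal_of_minSet {G : Type u} [Group G] {N T : Subgroup G} [N.Normal] (hT : T ∈ minSet N) :
    T.IsSubnormal := by
  refine .step T N hT.1 ?_ ?_
  · exact (inferInstance : N.Normal).isSubnormal
  · exact (normal_subgroupOf_iff_le_normalizer hT.1).2 hT.2.2.1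

/-- Hall subgroups of subnormal subgroups -/
theorem hall_of_subnormal {G : Type u} [Group G] [Finite G] {T : Subgroup G} (hT : T.IsSubnormal)
    {H : Subgroup G} (hH : IsPiHall π H) : IsPiHall π (H.subgroupOf T) := by
  induction hT with
  | top =>
    exact isPiHall_subgroupOf hH ⊤
  | step T K hTK hK hN ih =>
    have h1 := isPiHall_subgroupOf ih (T.subgroupOf K)
    have h2 : PiN' π ((H.subgroupOf K).relIndex (T.subgroupOf K)) := h1.2
    rw [relIndex_subgroupOf hTK] at h2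
    refine ⟨?_, h2⟩
    have h3 : PiN π (Nat.card (H.subgroupOf T)) := by
      refine PiN.of_dvd (π := π) (show PiN π (Nat.card H) from hH.1) ?_
      exact card_comap_dvd_of_injective H T.subtype T.subtype_injective
    exact h3

/-- **The reduction of `D_π`.** -/
theorem dom_all (h2 : 2 ∉ π) (hGr : Gross.{u} π)
    (hRow : ∀ (S : Type u) [Group S] [Finite S] [IsSimpleGroup S], ¬ IsMulCommutative S → H160.PD.Row S)
    (hOut : ∀ (S : Type u) [Group S] [Finite S] [IsSimpleGroup S], ¬ IsMulCommutative S → OutTwo S)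
    (hrow : ∀ (S : Type u) [Group S] [Finite S] [IsSimpleGroup S], ¬ IsMulCommutative S → Row π S)
    (hdom : ∀ (X : Type u) [Group X] [Finite X] [IsSimpleGroup X], ¬ IsMulCommutative X → LX π X →
      (∃ H : Subgroup X, IsPiHall π H) → Dom π X ∧ RowE π X) :
    ∀ n : ℕ, ∀ (G : Type u) [Group G] [Finite G], Nat.card G < n → ∀ LA KA LB KB : Subgroup G,
      PD π LA KA LB KB → Dom π G := by
  intro n
  induction n with
  | zero => intro X _ _ hX; omega
  | succ n ih =>
    intro G _ _ hX LA KA LB KB h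
    have hCF := all_cls h2 hRow hOut hrow (n + 1) G hX _ _ _ _ h
    have hgood := (h.good h2 hGr hRow hOut).2
    have hcls : ∀ T : Subgroup G, T.IsSubnormal → IsSimpleGroup T → ¬ IsMulCommutative T → Dom π T ∧ RowE π T := by
      intro T hT hs hna
      rcases hCF.apply T hT hna (MulEquiv.refl T) with h3 | h3
      · exact ⟨dom_of_nilHall h3, rowE_of_nilHall h2 (center_eq_bot hna) h3⟩
      · exact hdom T hna h3 ⟨_, hall_of_subnormal hT hgood⟩
    by_cases htop : (⊤ : Subgroup G) = ⊥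
    · refine ⟨⊥, ⟨?_, ?_⟩, fun K _ => ⟨1, ?_⟩⟩
      · have : PiN π (Nat.card (⊥ : Subgroup G)) := by rw [card_bot]; exact PiN.one
        exact this
      · have : PiN' π (⊥ : Subgroup G).index := by
          rw [← htop, index_top]; exact PiN'.one
        exact this
      · have hK : K ≤ ⊥ := by rw [← htop]; exact le_top
        exact hK.trans bot_le
    obtain ⟨N, hN, hN1, -, hmin⟩ := exists_minimal_normal (⊤ : Subgroup G) htop
    have hQ : Dom π (G ⧸ N) := ih (G ⧸ N) (lt_of_lt_of_le (card_quot_lt hN1) (Nat.lt_succ_iff.1 hX)) _ _ _ _ (h.quot N)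
    by_cases hab : ∀ x ∈ N, ∀ y ∈ N, Commute x y
    · obtain ⟨p, hp, hpN⟩ := isPGroup_of_min_abelian hN1 hmin hab
      exact H207.RV.dom_ext_pgroup N hp hpN hQ
    · obtain ⟨s1, s2, s3, s4, s5, s6⟩ := nonabelian_structure N hmin hab
      have hna : ∀ T ∈ minSet N, ¬ IsMulCommutative T := by
        intro T hT hc
        apply hT.2.1
        rw [eq_bot_iff]
        intro z hz
        exact s5 T hT z hz fun t ht => congrArg Subtype.val (mul_comm' (⟨z, hz⟩ : T) ⟨t, ht⟩)
      refine H207.RV.dom_ext_min N hmin hab ?_ hQ ?_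
      · refine H207.RV.dom_min_of_factors N hN1 hmin fun T hs _ hT => ?_
        exact (hcls T (subnormal_of_minSet hT) hs (hna T hT)).1
      · intro T hT
        exact (hcls T (subnormal_of_minSet hT) (s4 T hT) (hna T hT)).2

/-- **S4247** from the rows -/
theorem S4247_of {G : Type u} [Group G] [Finite G] (π : Set ℕ) (hπ : ∀ p ∈ π, p.Prime ∧ p ≠ 2)
    (hGr : Gross.{u} π)
    (hRow : ∀ (S : Type u) [Group S] [Finite S] [IsSimpleGroup S], ¬ IsMulCommutative S → H160.PD.Row S)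
    (hOut : ∀ (S : Type u) [Group S] [Finite S] [IsSimpleGroup S], ¬ IsMulCommutative S → OutTwo S)
    (hrow : ∀ (S : Type u) [Group S] [Finite S] [IsSimpleGroup S], ¬ IsMulCommutative S → Row π S)
    (hdom : ∀ (X : Type u) [Group X] [Finite X] [IsSimpleGroup X], ¬ IsMulCommutative X → LX π X →
      (∃ H : Subgroup X, IsPiHall π H) → Dom π X ∧ RowE π X)
    (A B Aπ Aπ' Bπ Bπ' : Subgroup G) (hG : (A : Set G) * (B : Set G) = Set.univ)
    (hA3 : Aπ ⊔ Aπ' = A)
    (hA4 : ∀ a ∈ Aπ, ∀ b ∈ Aπ', a * b = b * a) (hA5 : Cfsg.IsPiSubgroup π Aπ)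
    (hA6 : Cfsg.IsPiSubgroup {p | p.Prime ∧ p ∉ π} Aπ')
    (hB3 : Bπ ⊔ Bπ' = B)
    (hB4 : ∀ a ∈ Bπ, ∀ b ∈ Bπ', a * b = b * a) (hB5 : Cfsg.IsPiSubgroup π Bπ)
    (hB6 : Cfsg.IsPiSubgroup {p | p.Prime ∧ p ∉ π} Bπ') :
    Cfsg.IsDPiGroup π G := by
  have h2 : 2 ∉ π := fun h => (hπ 2 h).2 rfl
  have h := pd_of π A B Aπ Aπ' Bπ Bπ' hG hA3 hA4 hA5 hA6 hB3 hB4 hB5 hB6
  exact dom_iff.2 (dom_all h2 hGr hRow hOut hrow hdom (Nat.card G + 1) G (Nat.lt_succ_self _) _ _ _ _ h)

end Cfsg.Agent.H817.DPi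
end

-- part: H581/DPi/Alt
section
/-!
# S4247, row ALT (helper581, task 5883): alternating groups have no non-nilpotent Hall subgroups of odd order
-/

set_option autoImplicit false

namespace Cfsg.Agent.H581.DPi

open Subgroup Cfsg Cfsg.Agent.H988.CPi Cfsg.Agent.H571.RV Cfsg.Agent.H817.DPi

universe u

variable {π : Set ℕ}

/-- a Hall `π`-subgroup of an alternating group of degree at least 5 is nilpotent if `2 ∉ π` -/
theorem nilpotent_of_alt {S : Type u} [Group S] [Finite S] (h : IsAlternating S) (h2 : 2 ∉ π) {P : Subgroup S}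
    (hP : IsPiHall π P) : Group.IsNilpotent P := by
  obtain ⟨n, hn, ⟨e⟩⟩ := h
  have hP' : IsPiHall π (P.map e.toMonoidHom) := by
    refine ⟨fun p hp hd => hP.1 p hp ?_, fun p hp hpπ hd => hP.2 p hp hpπ ?_⟩
    · rwa [Nat.card_congr (P.equivMapOfInjective e.toMonoidHom e.injective).toEquiv]
    · rwa [← Subgroup.index_map_equiv P e]
  have hE : IsEPiGroup π (Equiv.Perm (Fin n)) := (Cfsg.Agent.S2535.result n π).2.1.2 ⟨_, hP'⟩
  have hpr : ∀ p : ℕ, p.Prime → p ∣ Nat.card P → p ∈ π ∧ p ≤ n := by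
    intro p hp hd
    refine ⟨hP.1 p hp hd, (Nat.Prime.dvd_factorial hp).1 ?_⟩
    have h1 : Nat.card P ∣ Nat.card (alternatingGroup (Fin n)) := by
      rw [← Nat.card_congr e.toEquiv]
      exact Subgroup.card_subgroup_dvd_card P
    have h3 : Nat.card (alternatingGroup (Fin n)) ∣ n.factorial := by
      have h4 := Subgroup.card_subgroup_dvd_card (alternatingGroup (Fin n))
      rwa [Nat.card_perm, Nat.card_fin] at h4
    exact (hd.trans h1).trans h3
  by_cases h3 : ∃ r s : ℕ, r.Prime ∧ s.Prime ∧ r ≠ s ∧ r ∈ π ∧ s ∈ π ∧ r ≤ n ∧ s ≤ n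
  · exfalso
    rcases (Cfsg.Agent.S2536.result n π h3 ⟨2, Nat.prime_two, by omega, h2⟩).1 hE with ⟨-, h⟩ | ⟨-, h⟩
    · exact h2 ((h 2 Nat.prime_two (by omega)).2 (by omega))
    · exact h2 ((h 2 Nat.prime_two (by omega)).2 (Or.inl rfl))
  · by_cases h1 : Nat.card P = 1
    · have := (Nat.card_eq_one_iff_unique.1 h1).1
      infer_instance
    · obtain ⟨r, hr, hrP⟩ := Nat.exists_prime_and_dvd h1
      have : Fact r.Prime := ⟨hr⟩
      have h4 : ∀ s : ℕ, s.Prime → s ∣ Nat.card P → s = r := by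
        intro s hs hsP
        by_contra hne
        exact h3 ⟨s, r, hs, hr, hne, (hpr s hs hsP).1, (hpr r hr hrP).1, (hpr s hs hsP).2, (hpr r hr hrP).2⟩
      have h5 : Nat.card P = r ^ (Nat.card P).primeFactorsList.length :=
        Nat.eq_prime_pow_of_unique_prime_dvd Nat.card_pos.ne' (fun {d} hd hdP => h4 d hd hdP)
      exact (IsPGroup.of_card h5).isNilpotent

/-- Task Alt -/
theorem row_alt {S : Type u} [Group S] [Finite S] [IsSimpleGroup S] (h : IsAlternating S) : Row π S :=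
  fun _ _ _ hc _ => absurd (nilpotent_of_alt h hc.two hc.hall) hc.nnil

end Cfsg.Agent.H581.DPi
end

-- part: H191/DPi/Small
section
/-!
# S4247 [DS]: `Dom π` for `PSL_3(2)`, `PSL_5(2)`, `M11`, `M23` (helper191)

* `dom_two` : if all `π`-subgroups have order dividing `s * r`, `s < r` primes, then a Hall `π`-subgroup contains a
  conjugate of every `π`-subgroup;
* `dom_small`.
-/

set_option autoImplicit false

namespace Cfsg.Agent.H191.DPi

open Subgroup Cfsg Cfsg.Agent.H988.CPi Cfsg.Agent.H571.RV Cfsg.Agent.H571.DExt Cfsg.Agent.H817.DPi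
open scoped Pointwise

universe u

variable {π : Set ℕ} {X : Type u} [Group X] [Finite X]

/-- subgroups of prime order `q`, `q ^ 2` not dividing the order of the group, are conjugate -/
theorem conj_prime {q : ℕ} (hq : q.Prime) (h : ¬ q ^ 2 ∣ Nat.card X) {A B : Subgroup X} (hA : Nat.card A = q)
    (hB : Nat.card B = q) : ∃ g : X, A = MulAut.conj g • B := by
  have := Fact.mk hq
  have hf : (Nat.card X).factorization q = 1 := by
    have h1 : q ∣ Nat.card X := hA ▸ card_subgroup_dvd_card A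
    have h2 := (hq.dvd_iff_one_le_factorization Nat.card_pos.ne').1 h1
    have h3 : ¬ 2 ≤ (Nat.card X).factorization q := fun h4 =>
      h ((hq.pow_dvd_iff_le_factorization Nat.card_pos.ne').2 h4)
    omega
  let P : Sylow q X := Sylow.ofCard A (by rw [hA, hf, pow_one])
  let Q : Sylow q X := Sylow.ofCard B (by rw [hB, hf, pow_one])
  obtain ⟨g, hg⟩ := MulAction.exists_smul_eq X Q P
  exact ⟨g, (congrArg (fun T : Sylow q X => (T : Subgroup X)) hg).symm⟩

/-- a group of order `s * r`, `s < r`, has a normal subgroup of order `r` -/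
theorem exists_norm {s r : ℕ} (hs : s.Prime) (hr : r.Prime) (hsr : s < r) {K : Subgroup X}
    (hK : Nat.card K = s * r) : ∃ R S : Subgroup X, Nat.card R = r ∧ Nat.card S = s ∧ R ≤ K ∧ S ≤ K ∧
      K ≤ normalizer (R : Set X) := by
  have := Fact.mk hr
  have := Fact.mk hs
  have hr2 : (Nat.card K).factorization r = 1 := by
    rw [hK, Nat.factorization_mul hs.ne_zero hr.ne_zero, Finsupp.add_apply, hr.factorization_self,
      Nat.factorization_eq_zero_of_not_dvd (fun h => hsr.ne' ((Nat.prime_dvd_prime_iff_eq hr hs).1 h))]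
  let P : Sylow r K := default
  have hP : Nat.card P = r := by
    rw [P.card_eq_multiplicity, hr2, pow_one]
  have hPi : (P : Subgroup K).index = s := by
    have h1 := (P : Subgroup K).card_mul_index
    rw [hK] at h1
    have h2 : Nat.card (P : Subgroup K) = r := hP
    rw [h2, mul_comm] at h1
    exact Nat.eq_of_mul_eq_mul_right hr.pos h1
  have h1 : Nat.card (Sylow r K) ∣ s := hPi ▸ P.card_dvd_index
  have h2 : Nat.card (Sylow r K) ≡ 1 [MOD r] := card_sylow_modEq_one r K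
  have h3 : Nat.card (Sylow r K) = 1 := by
    rcases (Nat.dvd_prime hs).1 h1 with h | h
    · exact h
    · rw [h] at h2
      have h4 := Nat.ModEq.eq_of_lt_of_lt h2 hsr (hs.one_lt.trans hsr)
      exact absurd h4 hs.one_lt.ne'
  have hn : (P : Subgroup K).Normal := by
    have : Subsingleton (Sylow r K) := (Nat.card_eq_one_iff_unique.1 h3).1
    exact Sylow.normal_of_subsingleton P
  obtain ⟨x, hx⟩ := exists_prime_orderOf_dvd_card' (G := K) s (hK ▸ dvd_mul_right s r)
  refine ⟨(P : Subgroup K).map K.subtype, zpowers (x : X), ?_, ?_, map_subtype_le _, ?_, ?_⟩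
  · rw [card_map_of_injective K.subtype_injective]
    exact hP
  · rw [Nat.card_zpowers, Subgroup.orderOf_coe, hx]
  · rw [zpowers_le]
    exact x.2
  · intro k hk
    rw [mem_normalizer_iff]
    have key : ∀ k ∈ K, ∀ g ∈ (P : Subgroup K).map K.subtype, k * g * k⁻¹ ∈ (P : Subgroup K).map K.subtype := by
      rintro k hk _ ⟨g, hg, rfl⟩
      exact ⟨(⟨k, hk⟩ * g * ⟨k, hk⟩⁻¹ :), hn.conj_mem g hg ⟨k, hk⟩, rfl⟩
    refine fun g => ⟨key k hk g, fun hg => ?_⟩
    have h5 := key k⁻¹ (inv_mem hk) _ hg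
    have e : k⁻¹ * (k * g * k⁻¹) * k⁻¹⁻¹ = g := by group
    rwa [e] at h5

theorem smul_card (g : X) (K : Subgroup X) : Nat.card ↥(MulAut.conj g • K) = Nat.card K := by
  rw [← conj_eq]
  exact card_map_of_injective (MulAut.conj g).injective

theorem eq_sup {s r : ℕ} (hs : s.Prime) (hr : r.Prime) (hsr : s ≠ r) {K R S : Subgroup X} (hK : Nat.card K = s * r)
    (hR : Nat.card R = r) (hS : Nat.card S = s) (hRK : R ≤ K) (hSK : S ≤ K) : K = R ⊔ S := by
  symm
  apply Subgroup.eq_of_le_of_card_ge (sup_le hRK hSK)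
  rw [hK]
  apply Nat.le_of_dvd Nat.card_pos
  refine Nat.Coprime.mul_dvd_of_dvd_of_dvd ((Nat.coprime_primes hs hr).2 hsr) ?_ ?_
  · exact hS ▸ card_dvd_of_le le_sup_right
  · exact hR ▸ card_dvd_of_le le_sup_left

/-- **Two primes.** -/
theorem dom_two {s r : ℕ} (hs : s.Prime) (hr : r.Prime) (hsr : s < r)
    (hX : ∀ K : Subgroup X, PiN π (Nat.card K) → Nat.card K ∣ s * r) {H : Subgroup X} (hH : IsPiHall π H) :
    Dom π X := by
  refine ⟨H, hH, fun K hK => ?_⟩
  have hKH : Nat.card K ∣ Nat.card H := by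
    have h1 : Nat.card K ∣ Nat.card H * H.index := by
      rw [card_mul_index]
      exact card_subgroup_dvd_card K
    exact (hK.coprime hH.2).dvd_of_dvd_mul_right h1
  -- the primes in `π`
  have hsq : ∀ q : ℕ, q.Prime → q ∈ π → ¬ q ^ 2 ∣ Nat.card X := by
    intro q hq hqπ h
    have := Fact.mk hq
    obtain ⟨Q, hQ⟩ := Sylow.exists_subgroup_card_pow_prime q h
    have h1 : q ^ 2 ∣ s * r := by
      rw [← hQ]
      refine hX Q fun l hl hd => ?_
      rw [hQ] at hd
      rwa [(Nat.prime_dvd_prime_iff_eq hl hq).1 (hl.dvd_of_dvd_pow hd)]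
    have h2 : q ∣ s * r := (dvd_pow_self q (by norm_num)).trans h1
    rcases hq.dvd_mul.1 h2 with h3 | h3
    · have h4 := (Nat.prime_dvd_prime_iff_eq hq hs).1 h3
      subst h4
      rw [pow_two] at h1
      have h5 := Nat.dvd_of_mul_dvd_mul_left hq.pos h1
      exact hsr.ne ((Nat.prime_dvd_prime_iff_eq hq hr).1 h5)
    · have h4 := (Nat.prime_dvd_prime_iff_eq hq hr).1 h3
      subst h4
      rw [pow_two, mul_comm s] at h1
      have h5 := Nat.dvd_of_mul_dvd_mul_left hq.pos h1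
      exact hsr.ne' ((Nat.prime_dvd_prime_iff_eq hq hs).1 h5)
  -- prime order
  have hprime : ∀ q : ℕ, q.Prime → Nat.card K = q → ∃ g : X, K ≤ MulAut.conj g • H := by
    intro q hq hKq
    have := Fact.mk hq
    obtain ⟨x, hx⟩ := exists_prime_orderOf_dvd_card' (G := H) q (hKq ▸ hKH)
    have hqπ : q ∈ π := hK q hq (by rw [hKq])
    obtain ⟨g, hg⟩ := conj_prime hq (hsq q hq hqπ) hKq
      (B := zpowers (x : X)) (by rw [Nat.card_zpowers, Subgroup.orderOf_coe, hx])
    refine ⟨g, ?_⟩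
    rw [hg]
    exact pointwise_smul_le_pointwise_smul_iff.2 (by rw [zpowers_le]; exact x.2)
  by_cases h1 : Nat.card K = 1
  · exact ⟨1, by rw [(card_eq_one.1 h1)]; exact bot_le⟩
  by_cases h2 : Nat.card K = s
  · exact hprime s hs h2
  by_cases h3 : Nat.card K = r
  · exact hprime r hr h3
  have h4 : Nat.card K = s * r := by
    obtain ⟨a, b, ha, hb, hab⟩ := (Nat.dvd_mul).1 (hX K hK)
    rcases (Nat.dvd_prime hs).1 ha with rfl | rfl <;> rcases (Nat.dvd_prime hr).1 hb with rfl | rfl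
    · exact absurd (by rw [← hab]) h1
    · exact absurd (by rw [← hab, one_mul]) h3
    · exact absurd (by rw [← hab, mul_one]) h2
    · exact hab.symm
  have h5 : Nat.card H = s * r := Nat.dvd_antisymm (hX H hH.1) (h4 ▸ hKH)
  have hrπ : r ∈ π := hK r hr (h4 ▸ dvd_mul_left r s)
  have hsπ : s ∈ π := hK s hs (h4 ▸ dvd_mul_right s r)
  obtain ⟨R₁, S₁, a1, a2, a3, a4, a5⟩ := exists_norm hs hr hsr h4
  obtain ⟨R₂, S₂, b1, b2, b3, b4, b5⟩ := exists_norm hs hr hsr h5
  obtain ⟨g, hg⟩ := conj_prime hr (hsq r hr hrπ) a1 b1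
  -- `H' := H ^ g`
  have c5 : MulAut.conj g • H ≤ normalizer (R₁ : Set X) := by
    rw [hg]
    intro y hy
    rw [Subgroup.mem_smul_pointwise_iff_exists] at hy
    obtain ⟨h, hh, rfl⟩ := hy
    have hn := mem_normalizer_iff.1 (b5 hh)
    rw [mem_normalizer_iff]
    intro w
    have e0 : ∀ v : X, v ∈ MulAut.conj g • R₂ ↔ g⁻¹ * v * g ∈ R₂ := by
      intro v
      rw [Subgroup.mem_pointwise_smul_iff_inv_smul_mem]
      simp
    rw [e0, e0, hn]
    have e : h * (g⁻¹ * w * g) * h⁻¹ = g⁻¹ * (MulAut.conj g • h * w * (MulAut.conj g • h)⁻¹) * g := by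
      simp only [MulAut.smul_def, MulAut.conj_apply]
      group
    rw [e]
  set H' : Subgroup X := MulAut.conj g • H with hH'
  set S' : Subgroup X := MulAut.conj g • S₂ with hS'
  have c2 : Nat.card S' = s := by rw [hS', smul_card, b2]
  have c4 : S' ≤ H' := pointwise_smul_le_pointwise_smul_iff.2 b4
  have c3 : R₁ ≤ H' := by
    rw [hg]
    exact pointwise_smul_le_pointwise_smul_iff.2 b3
  have c1 : Nat.card H' = s * r := by rw [hH', smul_card, h5]
  -- Sylow `s`-subgroups of the normalizer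
  let N : Subgroup X := normalizer (R₁ : Set X)
  have d0 : ¬ s ^ 2 ∣ Nat.card N := fun h => hsq s hs hsπ (h.trans (card_subgroup_dvd_card N))
  have d1 : Nat.card (S₁.subgroupOf N) = s := by
    rw [← card_map_of_injective N.subtype_injective, subgroupOf_map_subtype, inf_eq_left.2 (a4.trans a5), a2]
  have d2 : Nat.card (S'.subgroupOf N) = s := by
    rw [← card_map_of_injective N.subtype_injective, subgroupOf_map_subtype, inf_eq_left.2 (c4.trans c5), c2]
  obtain ⟨n, hn⟩ := conj_prime hs d0 d1 d2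
  have d3 : S₁ = MulAut.conj (n : X) • S' := by
    have e1 : (S₁.subgroupOf N).map N.subtype = (MulAut.conj n • S'.subgroupOf N).map N.subtype :=
      congrArg (fun T : Subgroup N => T.map N.subtype) hn
    rw [subgroupOf_map_subtype, inf_eq_left.2 (a4.trans a5), ← conj_eq, Subgroup.map_map] at e1
    rw [e1, ← conj_eq]
    have e2 : N.subtype.comp (MulAut.conj n).toMonoidHom = ((MulAut.conj (n : X)).toMonoidHom).comp N.subtype := by
      ext v
      rfl
    rw [e2, ← Subgroup.map_map, subgroupOf_map_subtype, inf_eq_left.2 (c4.trans c5)]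
  have d4 : MulAut.conj (n : X) • R₁ = R₁ := by
    ext v
    rw [Subgroup.mem_pointwise_smul_iff_inv_smul_mem]
    have e3 := mem_normalizer_iff.1 (inv_mem n.2) v
    rw [e3]
    have e4 : (MulAut.conj (n : X))⁻¹ • v = (n : X)⁻¹ * v * (n : X)⁻¹⁻¹ := by simp
    rw [e4]
  refine ⟨n * g, ?_⟩
  rw [map_mul, mul_smul, ← hH', eq_sup hs hr hsr.ne h4 a1 a2 a3 a4, eq_sup hs hr hsr.ne c1 a1 c2 c3 c4,
    smul_sup, d4, ← d3]

theorem dom_of_card {s r m : ℕ} (hs : s.Prime) (hr : r.Prime) (hsr : s < r) (hn : Nat.card X = s * r * m)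
    (hm : ∀ l : ℕ, l.Prime → l ∈ π → ¬ l ∣ m) (hE : ∃ H : Subgroup X, IsPiHall π H) : Dom π X := by
  obtain ⟨H, hH⟩ := hE
  refine dom_two hs hr hsr (fun K hK => ?_) hH
  have h1 : Nat.card K ∣ s * r * m := hn ▸ card_subgroup_dvd_card K
  exact (hK.coprime fun l hl hlπ => hm l hl hlπ).dvd_of_dvd_mul_right h1

theorem dom_of_two {s r m : ℕ} (hs : s.Prime) (hr : r.Prime) (hsr : s < r) (hn : Nat.card X = s * r * m)
    (hsm : ¬ s ∣ m) (hrm : ¬ r ∣ m) (h : Two π s r X) (hE : ∃ H : Subgroup X, IsPiHall π H) : Dom π X := by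
  refine dom_of_card hs hr hsr hn (fun l hl hlπ hd => ?_) hE
  rcases h l hlπ hl (hn ▸ hd.trans (dvd_mul_left m _)) with rfl | rfl
  · exact hsm hd
  · exact hrm hd

theorem card_psl {n c : ℕ} (hn : 2 ≤ n) (hc : ∏ i : Fin n, ((2 : ℕ) ^ n - 2 ^ (i : ℕ)) = c) :
    Nat.card (Matrix.ProjectiveSpecialLinearGroup (Fin n) (ZMod 2)) = c := by
  have h := S0243.result (F := ZMod 2) (q := 2) (ZMod.card 2) n hn
  rw [hc] at h
  rw [← h]
  have e : Nat.gcd n (2 - 1) = 1 := Nat.gcd_one_right n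
  rw [e, one_mul]
  exact (one_mul _).symm

theorem card_psl_three : Nat.card (Matrix.ProjectiveSpecialLinearGroup (Fin 3) (ZMod 2)) = 168 := by
  apply card_psl (by norm_num)
  rw [Fin.prod_univ_three]
  rfl

theorem card_psl_five : Nat.card (Matrix.ProjectiveSpecialLinearGroup (Fin 5) (ZMod 2)) = 9999360 := by
  apply card_psl (by norm_num)
  rw [Fin.prod_univ_five]
  rfl

/-- **[DS]** -/
theorem dom_small (h2 : 2 ∉ π) (hE : ∃ H : Subgroup X, IsPiHall π H)
    (h : Nonempty (X ≃* Matrix.ProjectiveSpecialLinearGroup (Fin 3) (ZMod 2)) ∨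
      (Nonempty (X ≃* Matrix.ProjectiveSpecialLinearGroup (Fin 5) (ZMod 2)) ∧ Two π 5 31 X) ∨
      (Spor.IsoM11 X ∧ Two π 5 11 X) ∨ (Spor.IsoM23 X ∧ Two π 11 23 X)) :
    Dom π X := by
  rcases h with ⟨⟨e⟩⟩ | ⟨⟨e⟩, h⟩ | ⟨⟨e⟩, h⟩ | ⟨⟨e⟩, h⟩
  · have hc : Nat.card X = 3 * 7 * 8 := by rw [Nat.card_congr e.toEquiv, card_psl_three]
    refine dom_of_card (by norm_num) (by norm_num) (by norm_num) hc (fun l hl hlπ hd => ?_) hE
    have h3 : l = 2 := (Nat.prime_dvd_prime_iff_eq hl Nat.prime_two).1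
      (hl.dvd_of_dvd_pow (show l ∣ 2 ^ 3 by norm_num; exact hd))
    exact h2 (h3 ▸ hlπ)
  · have hc : Nat.card X = 5 * 31 * 64512 := by rw [Nat.card_congr e.toEquiv, card_psl_five]
    exact dom_of_two (by norm_num) (by norm_num) (by norm_num) hc (by norm_num) (by norm_num) h hE
  · have hc : Nat.card X = 5 * 11 * 144 := by rw [Nat.card_congr e.toEquiv, Cit.TypeDet.card_M11']
    exact dom_of_two (by norm_num) (by norm_num) (by norm_num) hc (by norm_num) (by norm_num) h hE
  · have hc : Nat.card X = 11 * 23 * 40320 := by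
      rw [Nat.card_congr e.toEquiv, SporadicA.MathieuRecog.card_M23]
    exact dom_of_two (by norm_num) (by norm_num) (by norm_num) hc (by norm_num) (by norm_num) h hE

end Cfsg.Agent.H191.DPi
end

-- part: H807/DPi/RowE
section
/-!
# S4247, task RS (helper807): `RowE π X` for `PSL_3(2)`, `PSL_5(2)`, `M11`, `M23`

* `rowE_of_index` : `RowE π X` for a non-abelian simple group with `|Out X| ≤ 2`, `2 ∉ π`.
-/

set_option autoImplicit false

namespace Cfsg.Agent.H807.DPi

open Subgroup Cfsg Cfsg.Agent.H988.CPi Cfsg.Agent.H571.RV Cfsg.Agent.H817.DPi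

universe u

variable {π : Set ℕ}

theorem conj_injective {X : Type*} [Group X] [IsSimpleGroup X] (hna : ¬ IsMulCommutative X) :
    Function.Injective (MulAut.conj : X →* MulAut X) := by
  rw [← MonoidHom.ker_eq_bot_iff]
  rcases IsSimpleGroup.eq_bot_or_eq_top_of_normal (MulAut.conj : X →* MulAut X).ker inferInstance with h | h
  · exact h
  · exfalso
    apply hna
    refine ⟨⟨fun a b => ?_⟩⟩
    have h1 : a ∈ (MulAut.conj : X →* MulAut X).ker := by rw [h]; exact Subgroup.mem_top _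
    have h2 := DFunLike.congr_fun ((MonoidHom.mem_ker).1 h1) b
    rw [MulAut.conj_apply, MulAut.one_apply] at h2
    exact mul_inv_eq_iff_eq_mul.1 h2

/-- `RowE π X` if `|Out X| ≤ 2` and `2 ∉ π` -/
theorem rowE_of_index {X : Type*} [Group X] [Finite X] [IsSimpleGroup X] (hna : ¬ IsMulCommutative X) (h2 : 2 ∉ π)
    (hO : (inn X).index ≤ 2) : RowE π X := by
  intro hD P hP
  have hinj := conj_injective hna
  -- `P ≤ Inn X`
  have hle : P ≤ inn X := by
    rw [← Subgroup.relIndex_eq_one]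
    have h1 : (inn X).relIndex P ∣ (inn X).index := Subgroup.relIndex_dvd_index_of_normal _ _
    have h3 : (inn X).relIndex P ∣ Nat.card P := Subgroup.relIndex_dvd_card _ _
    have h4 : (inn X).index ≠ 0 := Subgroup.index_ne_zero_of_finite
    have h5 : (inn X).relIndex P ≤ 2 := (Nat.le_of_dvd (Nat.pos_of_ne_zero h4) h1).trans hO
    have h6 : (inn X).relIndex P ≠ 0 := by
      intro h
      rw [h] at h1
      exact h4 (Nat.eq_zero_of_zero_dvd h1)
    have h7 : (inn X).relIndex P ≠ 2 := fun h => h2 (hP 2 Nat.prime_two (h ▸ h3))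
    omega
  have hK : PiN π (Nat.card (P.comap (MulAut.conj : X →* MulAut X))) := by
    have h1 : Nat.card (P.comap (MulAut.conj : X →* MulAut X)) ∣ Nat.card P := by
      have h3 : Nat.card ((P.comap (MulAut.conj : X →* MulAut X)).map (MulAut.conj : X →* MulAut X)) =
          Nat.card (P.comap (MulAut.conj : X →* MulAut X)) := Nat.card_congr (Equiv.ofBijective _
            (by
              refine ⟨?_, ?_⟩
              rotate_left
              · exact ((P.comap (MulAut.conj : X →* MulAut X)).equivMapOfInjective _ hinj).symm.surjective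
              · exact ((P.comap (MulAut.conj : X →* MulAut X)).equivMapOfInjective _ hinj).symm.injective))
      rw [← h3]
      exact Subgroup.card_dvd_of_le (Subgroup.map_comap_le _ _)
    exact hP.of_dvd h1
  obtain ⟨H, hH, hKH⟩ := Cfsg.Agent.H571.RV.Dom.pi_le hD _ hK
  refine ⟨H, hH, fun α hα => ?_⟩
  obtain ⟨g, rfl⟩ := hle hα
  have hg : g ∈ H := hKH hα
  rw [mem_stab]
  ext x
  constructor
  · rintro ⟨y, hy, rfl⟩
    exact mul_mem (mul_mem hg hy) (inv_mem hg)
  · intro hx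
    refine ⟨g⁻¹ * x * g, mul_mem (mul_mem (inv_mem hg) hx) hg, ?_⟩
    show g * (g⁻¹ * x * g) * g⁻¹ = x
    group

theorem index_inn {X : Type u} [Group X] [Finite X] {n : ℕ} (h : Nat.card (Cfsg.Out X) = n) : (inn X).index = n := by
  rw [← h]
  rfl

theorem RowE_congr {X Y : Type*} [Group X] [Group Y] (e : X ≃* Y) (h : (inn Y).index ≤ 2) : (inn X).index ≤ 2 := by
  refine le_of_eq_of_le ?_ h
  have h1 : (inn X).map (MulAut.congr e).toMonoidHom = inn Y := by
    ext α
    constructor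
    · rintro ⟨β, ⟨x, rfl⟩, rfl⟩
      refine ⟨e x, ?_⟩
      ext y
      simp only [MulAut.congr, _root_.MulAut.conj_apply, _root_.MulEquiv.toMonoidHom_eq_coe, _root_.MonoidHom.coe_coe, _root_.MulEquiv.coe_mk, _root_.Equiv.coe_fn_mk, _root_.MulEquiv.trans_apply, _root_.map_mul, _root_.MulEquiv.apply_symm_apply, _root_.map_inv]
    · rintro ⟨y, rfl⟩
      refine ⟨MulAut.conj (e.symm y), ⟨e.symm y, rfl⟩, ?_⟩
      ext z
      simp only [MulAut.congr, _root_.MulEquiv.toMonoidHom_eq_coe, _root_.MonoidHom.coe_coe, _root_.MulEquiv.coe_mk, _root_.Equiv.coe_fn_mk, _root_.MulEquiv.trans_apply, _root_.MulAut.conj_apply, _root_.map_mul, _root_.MulEquiv.apply_symm_apply, _root_.map_inv]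
  rw [← h1]
  exact (Subgroup.index_map_equiv (inn X) (MulAut.congr e)).symm

theorem card_pgl {F : Type} [Field F] [Fintype F] {n : ℕ} (hn : 2 ≤ n) : Nat.card (Matrix.ProjGenLinGroup (Fin n) F) =
    Nat.gcd n (Fintype.card F - 1) * Nat.card (Matrix.ProjectiveSpecialLinearGroup (Fin n) F) := by
  classical
  haveI : NeZero n := ⟨by omega⟩
  have h1 := Cfsg.Agent.S0243.result (F := F) rfl n hn
  have h2 : Nat.card (Matrix.ProjGenLinGroup (Fin n) F) * (Fintype.card F - 1) = Nat.card (Matrix.GeneralLinearGroup (Fin n) F) :=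
    Cfsg.Agent.ClassicalGeometry.PSL2Basic.card_PGL_mul (Fin n) F
  rw [Matrix.card_GL_field, ← h1] at h2
  have h3 : 0 < Fintype.card F - 1 := by
    have := Fintype.one_lt_card (α := F)
    omega
  have h4 : Nat.card (Matrix.ProjGenLinGroup (Fin n) F) * (Fintype.card F - 1) =
    (Nat.gcd n (Fintype.card F - 1) * Nat.card (Matrix.ProjectiveSpecialLinearGroup (Fin n) F)) *
      (Fintype.card F - 1) := by
    rw [h2]; ring
  exact Nat.eq_of_mul_eq_mul_right h3 h4

theorem not_comm_of_ne_prime {X : Type*} [Group X] [Finite X] [IsSimpleGroup X] (h : ¬ (Nat.card X).Prime) :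
    ¬ IsMulCommutative X := by
  intro hc
  apply h
  let _ : CommGroup X := { (inferInstance : Group X) with mul_comm := fun a b => hc.is_comm.comm a b }
  have : IsSimpleGroup X := inferInstance
  exact IsSimpleGroup.prime_card

theorem card_three : Nat.card (Matrix.ProjectiveSpecialLinearGroup (Fin 3) (ZMod 2)) = 168 := by
  have h2 := Cfsg.Agent.S0243.result (F := ZMod 2) (ZMod.card 2) 3 (by omega)
  rw [Fin.prod_univ_three] at h2
  generalize Nat.card (Matrix.ProjectiveSpecialLinearGroup (Fin 3) (ZMod 2)) = n at h2 ⊢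
  norm_num at h2
  exact h2

theorem card_five : Nat.card (Matrix.ProjectiveSpecialLinearGroup (Fin 5) (ZMod 2)) = 9999360 := by
  have h2 := Cfsg.Agent.S0243.result (F := ZMod 2) (ZMod.card 2) 5 (by omega)
  rw [Fin.prod_univ_five] at h2
  generalize Nat.card (Matrix.ProjectiveSpecialLinearGroup (Fin 5) (ZMod 2)) = n at h2 ⊢
  norm_num at h2
  exact h2

theorem index_psl {n : ℕ} (hn : 3 ≤ n)
    (hna : ¬ IsMulCommutative (Matrix.ProjectiveSpecialLinearGroup (Fin n) (ZMod 2))) :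
    (inn (Matrix.ProjectiveSpecialLinearGroup (Fin n) (ZMod 2))).index ≤ 2 := by
  have h0 : IsSimpleGroup (Matrix.ProjectiveSpecialLinearGroup (Fin n) (ZMod 2)) := Cfsg.Agent.S0249.result n hn
  have h1 := Cfsg.Agent.S0813.result 2 1 le_rfl (ZMod.card 2) n (by omega) (by omega)
  rw [card_pgl (by omega), if_neg (by omega), ZMod.card, Nat.gcd_one_right, one_mul, mul_one] at h1
  exact (index_inn (H934.OutB.card_out_of_aut hna h1)).le

theorem rowE_of_equiv {X Y : Type*} [Group X] [Finite X] [Group Y] (e : X ≃* Y) (hs : IsSimpleGroup Y)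
    (hp : ¬ (Nat.card Y).Prime) (h2 : 2 ∉ π) (h : (inn Y).index ≤ 2) : RowE π X := by
  have h1 : IsSimpleGroup X := (MulEquiv.isSimpleGroup_congr e).2 hs
  exact rowE_of_index (not_comm_of_ne_prime (by rwa [Nat.card_congr e.toEquiv])) h2 (RowE_congr e h)

/-- **Task RS.** -/
theorem rowE_small {X : Type u} [Group X] [Finite X] (h2 : 2 ∉ π)
    (h : Nonempty (X ≃* Matrix.ProjectiveSpecialLinearGroup (Fin 3) (ZMod 2)) ∨
      Nonempty (X ≃* Matrix.ProjectiveSpecialLinearGroup (Fin 5) (ZMod 2)) ∨ Spor.IsoM11 X ∨ Spor.IsoM23 X) :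
    RowE π X := by
  rcases h with ⟨⟨e⟩⟩ | ⟨⟨e⟩⟩ | ⟨⟨e⟩⟩ | ⟨⟨e⟩⟩
  · have hs : IsSimpleGroup (Matrix.ProjectiveSpecialLinearGroup (Fin 3) (ZMod 2)) := Cfsg.Agent.S0249.result 3 le_rfl
    have hp : ¬ (Nat.card (Matrix.ProjectiveSpecialLinearGroup (Fin 3) (ZMod 2))).Prime := by rw [card_three]; norm_num
    exact rowE_of_equiv e hs hp h2 (index_psl le_rfl (not_comm_of_ne_prime hp))
  · have hs : IsSimpleGroup (Matrix.ProjectiveSpecialLinearGroup (Fin 5) (ZMod 2)) := Cfsg.Agent.S0249.result 5 (by omega)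
    have hp : ¬ (Nat.card (Matrix.ProjectiveSpecialLinearGroup (Fin 5) (ZMod 2))).Prime := by rw [card_five]; norm_num
    exact rowE_of_equiv e hs hp h2 (index_psl (by omega) (not_comm_of_ne_prime hp))
  · have hf : Finite Spor.M11 := Finite.of_equiv X e.toEquiv
    refine rowE_of_equiv e H807.El.simple_M11 (by rw [H807.El.card_M11]; norm_num) h2 ?_
    rw [index_inn Cfsg.Agent.S2060.result]
    norm_num
  · have hf : Finite Spor.M23 := Finite.of_equiv X e.toEquiv
    refine rowE_of_equiv e H729.PairMathieu.simple_M23 (by rw [SporadicA.MathieuRecog.card_M23]; norm_num) h2 ?_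
    rw [index_inn Cfsg.Agent.S2063.result]
    norm_num

end Cfsg.Agent.H807.DPi
end

-- part: H14/DP/RankOne
section
/-!
# S4247: groups of rank one in characteristic `p ∈ π`, `2 ∉ π`: `E_π` implies `D_π` (helper14)
-/

set_option autoImplicit false

namespace Cfsg.Agent.H14.DP

open Subgroup Cfsg Cfsg.Agent.H988.CPi Cfsg.Agent.H571.DExt Cfsg.Agent.H565.OddBorel
open scoped Pointwise

/-- a nontrivial finite solvable group has a nontrivial normal `r`-subgroup for some prime `r` -/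
theorem exists_pCore_ne {G : Type*} [Group G] [Finite G] [Nontrivial G] (hs : Group.IsSolvable G) :
    ∃ r : ℕ, r.Prime ∧ pCore r G ≠ ⊥ := by
  by_contra hcon
  push Not at hcon
  have h1 : fittingSubgroup G = ⊥ := by
    rw [Cfsg.Agent.Lib.Cores.fittingSubgroup_eq_iSup_pCore, eq_bot_iff]
    exact iSup_le fun p => (hcon p p.2).le
  have h2 := Cfsg.Agent.S0044.result (G := G)
  rw [h1] at h2
  have h3 : (⊤ : Subgroup G) ≤ ⊥ := by
    intro x _
    refine h2 (Subgroup.mem_centralizer_iff.mpr ?_)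
    intro y hy
    rw [SetLike.mem_coe, Subgroup.mem_bot] at hy
    rw [hy, one_mul, mul_one]
  exact bot_ne_top (le_antisymm bot_le h3)

/-- a nontrivial solvable subgroup normalises a nontrivial `r`-subgroup of itself -/
theorem exists_normal_r {G : Type*} [Group G] [Finite G] {Y : Subgroup G} (hs : Group.IsSolvable Y) (hY : Y ≠ ⊥) :
    ∃ r : ℕ, r.Prime ∧ ∃ R : Subgroup G, R ≤ Y ∧ R ≠ ⊥ ∧ IsPGroup r R ∧ ∀ y ∈ Y, ∀ x ∈ R, y * x * y⁻¹ ∈ R := by
  have hnt : Nontrivial Y := (Subgroup.nontrivial_iff_ne_bot Y).2 hY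
  obtain ⟨r, hr, hne⟩ := exists_pCore_ne hs
  have := Fact.mk hr
  refine ⟨r, hr, (pCore r Y).map Y.subtype, ?_, ?_, ?_, ?_⟩
  · rintro _ ⟨y, -, rfl⟩
    exact y.2
  · intro h
    exact hne ((Subgroup.map_eq_bot_iff_of_injective _ Y.subtype_injective).1 h)
  · exact (Cfsg.Agent.Lib.Cores.pCore_isPGroup r).map _
  · rintro y hy _ ⟨x, hx, rfl⟩
    have hn : (pCore r Y).Normal := inferInstance
    exact ⟨(⟨y, hy⟩ * x * ⟨y, hy⟩⁻¹ :), hn.conj_mem x hx _, rfl⟩

/-- an element of odd order is in every subgroup which contains its square -/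
theorem mem_of_sq {G : Type*} [Group G] [Finite G] {K : Subgroup G} {y : G} (hodd : Odd (orderOf y)) (h : y * y ∈ K) :
    y ∈ K := by
  obtain ⟨k, hk⟩ := hodd
  have h1 : y = (y * y) ^ (k + 1) := by
    rw [← pow_two, ← pow_mul, show 2 * (k + 1) = (2 * k + 1) + 1 by ring, pow_succ, ← hk, pow_orderOf_eq_one, one_mul]
  rw [h1]
  exact K.pow_mem h _

section Abs

variable {G : Type*} [Group G] [Finite G] {p : ℕ} [hp : Fact p.Prime]

/-- the facts which are used -/
structure RO (p : ℕ) (G : Type*) [Group G] : Prop where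
  ti : H794.TI p G
  dvd : p ∣ Nat.card G
  card : ∀ S : Sylow p G, Nat.card (Sylow p G) = Nat.card S + 1
  odd : OddLe p G
  solv : BorelSolv p G
  cent : ∀ (S : Sylow p G) (z x : G) (r : ℕ), r.Prime → r ≠ 2 → r ≠ p → orderOf z = r → orderOf x = p → z * x = x * z →
    r ∣ Nat.card S + 1

theorem eq_of_mem_of_mem (h : H794.TI p G) {S S' : Sylow p G} {x : G} (hx1 : x ≠ 1) (hx : x ∈ (S : Subgroup G))
    (hx' : x ∈ (S' : Subgroup G)) : S = S' := by
  by_contra hne
  have h1 := H394.SqPsu3.inf_of_ti h S S' hne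
  have h2 : x ∈ (S : Subgroup G) ⊓ (S' : Subgroup G) := ⟨hx, hx'⟩
  rw [h1, Subgroup.mem_bot] at h2
  exact hx1 h2

/-- an element of `S` which fixes another Sylow subgroup is trivial -/
theorem eq_one_of_fix (h : H794.TI p G) {S S' : Sylow p G} (hne : S ≠ S') {u : G} (hu : u ∈ (S : Subgroup G))
    (hf : u • S' = S') : u = 1 := by
  by_contra hu1
  refine hne (eq_of_mem_of_mem h hu1 hu ?_)
  rw [Sylow.smul_eq_iff_mem_normalizer] at hf
  have h1 : IsPGroup p (zpowers u) := by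
    have h2 := S.isPGroup'.to_le (zpowers_le.2 hu)
    exact h2
  have h3 : IsPGroup p ↥(zpowers u ⊔ (S' : Subgroup G)) :=
    h1.to_sup_of_normal_right' S'.isPGroup' (zpowers_le.2 hf)
  have h4 := S'.is_maximal' h3 le_sup_right
  rw [← h4]
  exact Subgroup.mem_sup_left (mem_zpowers u)

/-- `S` is transitive on the other Sylow subgroups -/
theorem exists_smul_eq_of_ne (H : RO p G) {S S' S'' : Sylow p G} (h1 : S ≠ S') (h2 : S ≠ S'') :
    ∃ u ∈ (S : Subgroup G), u • S' = S'' := by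
  classical
  have hfin : Finite (Sylow p G) := inferInstance
  let f : S → {T : Sylow p G // T ≠ S} := fun u => ⟨(u : G) • S', by
    intro h
    apply h1
    have h3 : (u : G)⁻¹ • S = S := by
      rw [Sylow.smul_eq_iff_mem_normalizer]
      exact Subgroup.le_normalizer (inv_mem u.2)
    have h6 : (u : G)⁻¹ • ((u : G) • S') = (u : G)⁻¹ • S := congrArg (fun T => (u : G)⁻¹ • T) h
    rw [inv_smul_smul] at h6
    exact (h6.trans h3).symm⟩
  have hf : Function.Injective f := by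
    intro u v huv
    have h3 : (u : G) • S' = (v : G) • S' := congrArg Subtype.val huv
    have h4 : ((v : G)⁻¹ * u) • S' = S' := by rw [mul_smul, h3, inv_smul_smul]
    have h5 := eq_one_of_fix H.ti h1 (mul_mem (inv_mem v.2) u.2) h4
    exact Subtype.ext (inv_mul_eq_one.1 h5).symm
  have hcard : Nat.card {T : Sylow p G // T ≠ S} = Nat.card S := by
    have h3 := H.card S
    have h4 : Nat.card {T : Sylow p G // T ≠ S} + 1 = Nat.card (Sylow p G) := by
      have := Fintype.ofFinite (Sylow p G)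
      rw [Nat.card_eq_fintype_card, Nat.card_eq_fintype_card, Fintype.card_subtype_compl, Fintype.card_subtype_eq]
      have : 0 < Fintype.card (Sylow p G) := Fintype.card_pos
      omega
    omega
  have hs := (Nat.bijective_iff_injective_and_card f).2 ⟨hf, hcard.symm⟩
  obtain ⟨u, hu⟩ := hs.2 ⟨S'', h2.symm⟩
  exact ⟨u, u.2, congrArg Subtype.val hu⟩

/-- an element of prime order `r` fixes at most two Sylow subgroups -/
theorem eq_or_eq_of_fix (H : RO p G) {r : ℕ} (hr : r.Prime) (hr2 : r ≠ 2) (hrp : r ≠ p)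
    (hd : ¬ r ∣ Nat.card (Sylow p G)) {z : G} (hz : orderOf z = r) {S S' S'' : Sylow p G} (h1 : z • S = S)
    (h2 : z • S' = S') (h3 : z • S'' = S'') : S = S' ∨ S = S'' ∨ S' = S'' := by
  by_contra hcon
  push Not at hcon
  obtain ⟨u, hu, huS⟩ := exists_smul_eq_of_ne H hcon.1 hcon.2.1
  have hzn := Sylow.smul_eq_iff_mem_normalizer.1 h1
  have h4 : z * u * z⁻¹ ∈ (S : Subgroup G) := (mem_normalizer_iff.1 hzn u).1 hu
  have h5 : (z * u * z⁻¹) • S' = u • S' := by
    rw [mul_smul, mul_smul, show z⁻¹ • S' = S' by rw [inv_smul_eq_iff, h2], huS, h3]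
  have h6 : (u⁻¹ * (z * u * z⁻¹)) • S' = S' := by rw [mul_smul, h5, inv_smul_smul]
  have h7 := eq_one_of_fix H.ti hcon.1 (mul_mem (inv_mem hu) h4) h6
  have h8 : u = z * u * z⁻¹ := inv_mul_eq_one.1 h7
  have h9 : z * u = u * z := (eq_mul_inv_iff_mul_eq.1 h8).symm
  have hu1 : u ≠ 1 := by
    rintro rfl
    exact hcon.2.2 (by rw [← huS, one_smul])
  -- a power of order `p`
  have hup : IsPGroup p (zpowers u) := S.isPGroup'.to_le (zpowers_le.2 hu)
  obtain ⟨k, hk⟩ := IsPGroup.iff_card.1 hup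
  rw [Nat.card_zpowers] at hk
  have hk0 : k ≠ 0 := by
    rintro rfl
    rw [pow_zero, orderOf_eq_one_iff] at hk
    exact hu1 hk
  have hx : orderOf (u ^ p ^ (k - 1)) = p := by
    rw [orderOf_pow, hk, Nat.gcd_eq_right (pow_dvd_pow p (Nat.sub_le k 1)), Nat.pow_div (Nat.sub_le k 1) hp.out.pos]
    rw [show k - (k - 1) = 1 by omega, pow_one]
  apply hd
  rw [H.card S]
  refine H.cent S z _ r hr hr2 hrp hz hx ?_
  exact (Commute.pow_right (show Commute z u from h9) _).eq

/-- **Main lemma**: a `π`-subgroup normalises a Sylow `p`-subgroup. -/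
theorem exists_normalizes (H : RO p G) {π : Set ℕ} (h2 : 2 ∉ π) (hΩ : PiN' π (Nat.card (Sylow p G)))
    {Y : Subgroup G} (hY : PiN π (Nat.card Y)) :
    ∃ S : Sylow p G, Y ≤ normalizer ((S : Subgroup G) : Set G) := by
  have hodd : Odd (Nat.card Y) := by
    rw [← Nat.not_even_iff_odd, even_iff_two_dvd]
    exact fun h => h2 (hY 2 Nat.prime_two h)
  by_cases hY1 : Y = ⊥
  · obtain ⟨S⟩ : Nonempty (Sylow p G) := inferInstance
    exact ⟨S, by rw [hY1]; exact bot_le⟩
  have hsol : Group.IsSolvable Y := S0205.result hodd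
  obtain ⟨r, hr, R, hRY, hR1, hR, hn⟩ := exists_normal_r hsol hY1
  have hrF := Fact.mk hr
  obtain ⟨x, hx, hx1⟩ := R.bot_or_exists_ne_one.resolve_left hR1
  by_cases hrp : r = p
  · subst hrp
    obtain ⟨S, hS⟩ := hR.exists_le_sylow
    exact ⟨S, fun y hy => H.ti S x (hS hx) hx1 y (hS (hn y hy x hx))⟩
  -- `r ∈ π`
  have hrd : r ∣ Nat.card R := by
    obtain ⟨k, hk⟩ := IsPGroup.iff_card.1 hR
    have hk0 : k ≠ 0 := by
      rintro rfl
      rw [pow_zero] at hk
      exact hR1 (Subgroup.card_eq_one.1 hk)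
    rw [hk]
    exact dvd_pow_self r hk0
  have hrπ : r ∈ π := hY r hr (hrd.trans (Subgroup.card_dvd_of_le hRY))
  have hr2 : r ≠ 2 := by rintro rfl; exact h2 hrπ
  have hrΩ := hΩ r hr hrπ
  obtain ⟨z', hz'⟩ := exists_prime_orderOf_dvd_card' (G := R) r hrd
  obtain ⟨z, hz⟩ : ∃ z, z = (z' : G) := ⟨_, rfl⟩
  have hzo : orderOf z = r := by rw [hz, Subgroup.orderOf_coe, hz']
  have hzR : z ∈ R := by rw [hz]; exact z'.2
  obtain ⟨S, hS⟩ := hR.nonempty_fixed_point_of_prime_not_dvd_card (Sylow p G) hrΩ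
  have hSR : ∀ y ∈ R, y • S = S := fun y hy => hS ⟨y, hy⟩
  -- the elements of `Y` permute the fixed points of `R`
  have hfix : ∀ T : Sylow p G, (∀ y ∈ R, y • T = T) → ∀ g ∈ Y, ∀ y ∈ R, y • (g • T) = g • T := by
    intro T hT g hg y hy
    have h3 : g⁻¹ * y * g ∈ R := by
      have := hn g⁻¹ (inv_mem hg) y hy
      rwa [inv_inv] at this
    have h4 := hT _ h3
    calc y • (g • T) = g • ((g⁻¹ * y * g) • T) := by
          rw [smul_smul, smul_smul]
          congr 1
          group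
      _ = g • T := by rw [h4]
  refine ⟨S, fun g hg => ?_⟩
  refine Sylow.smul_eq_iff_mem_normalizer.1 ?_
  by_contra hne
  have h3 := hfix S hSR g hg
  have h4 := hfix _ h3 g hg
  have hgo : Odd (orderOf g) := by
    refine Odd.of_dvd_nat hodd ?_
    have := _root_.orderOf_dvd_natCard (⟨g, hg⟩ : Y)
    rwa [← Subgroup.orderOf_coe] at this
  rcases eq_or_eq_of_fix H hr hr2 hrp hrΩ hzo (hSR z hzR) (h3 z hzR) (h4 z hzR) with h5 | h5 | h5
  · exact hne h5.symm
  · rw [smul_smul] at h5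
    have h6 : g * g ∈ normalizer ((S : Subgroup G) : Set G) := Sylow.smul_eq_iff_mem_normalizer.1 h5.symm
    exact hne (Sylow.smul_eq_iff_mem_normalizer.2 (mem_of_sq hgo h6))
  · exact hne (smul_left_cancel g h5).symm

/-- **`E_π` implies `D_π`.** -/
theorem RO.dom (H : RO p G) {π : Set ℕ} (h2 : 2 ∉ π) (hpπ : p ∈ π) (hE : IsEPiGroup π G) : Dom π G := by
  obtain ⟨L, hL⟩ := hE
  obtain ⟨S⟩ : Nonempty (Sylow p G) := inferInstance
  obtain ⟨a, ha⟩ := exists_conj_le hpπ hL S
  have hL' := H164.hall_map_conj hL a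
  have hLN := H.odd S _ ha (odd_card_of_hall h2 hL')
  obtain ⟨L', hLd⟩ : ∃ L', L' = L.map (MulAut.conj a).toMonoidHom := ⟨_, rfl⟩
  rw [← hLd] at hL' hLN
  obtain ⟨N, hN⟩ : ∃ N, N = normalizer ((S : Subgroup G) : Set G) := ⟨_, rfl⟩
  rw [← hN] at hLN
  have hNs : Group.IsSolvable N := by rw [hN]; exact H.solv S
  have hΩ : PiN' π (Nat.card (Sylow p G)) := by
    intro l hl hlπ hd
    have hi : Nat.card (Sylow p G) = N.index := by rw [hN]; exact Sylow.card_eq_index_normalizer S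
    rw [hi] at hd
    exact hL'.2 l hl hlπ (hd.trans (Subgroup.index_dvd_of_le hLN))
  refine ⟨L', hL', fun K hK => ?_⟩
  obtain ⟨S', hS'⟩ := exists_normalizes H h2 hΩ hK
  obtain ⟨g, hg⟩ := MulAction.exists_smul_eq G S' S
  -- `K^g ≤ N`
  have hKN : MulAut.conj g • K ≤ N := by
    rw [hN]
    rintro _ ⟨y, hy, rfl⟩
    exact (mem_normalizer_conj_iff hg y).1 (hS' hy)
  have hcard : Nat.card N = Nat.card L' * L'.relIndex N := by
    rw [← Subgroup.card_mul_index (L'.subgroupOf N)]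
    congr 1
    exact Nat.card_congr (Subgroup.subgroupOfEquivOfLe hLN).toEquiv
  have hrel : PiN' π (L'.relIndex N) := fun l hl hlπ hd =>
    hL'.2 l hl hlπ (hd.trans (Subgroup.relIndex_dvd_index_of_le hLN))
  have hcop : (Nat.card L').Coprime (L'.relIndex N) := PiN.coprime (π := π) hL'.1 hrel
  obtain ⟨M, hM, hKM⟩ := S0005.result (G := N) _ _ hcard hcop ((MulAut.conj g • K).subgroupOf N) (by
    have h3 : Nat.card ((MulAut.conj g • K).subgroupOf N) = Nat.card K := by
      rw [Nat.card_congr (Subgroup.subgroupOfEquivOfLe hKN).toEquiv]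
      exact Nat.card_congr (Subgroup.equivSMul (MulAut.conj g) K).toEquiv.symm
    rw [h3]
    exact PiN.coprime (π := π) hK hrel)
  obtain ⟨n, hn⟩ := S0004.result (G := N) _ _ hcard hcop (L'.subgroupOf N) M
    (Nat.card_congr (Subgroup.subgroupOfEquivOfLe hLN).toEquiv) hM
  refine ⟨g⁻¹ * n, fun x hx => ?_⟩
  have h3 : g * x * g⁻¹ ∈ MulAut.conj g • K := ⟨x, hx, rfl⟩
  have h4 : (⟨g * x * g⁻¹, hKN h3⟩ : N) ∈ M := hKM (Subgroup.mem_subgroupOf.2 h3)
  rw [← hn] at h4
  obtain ⟨y, hy, e⟩ := h4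
  have h5 : (n : G) * y * (n : G)⁻¹ = g * x * g⁻¹ := congrArg Subtype.val e
  refine ⟨y, Subgroup.mem_subgroupOf.1 hy, ?_⟩
  change (g⁻¹ * (n : G)) * (y : G) * (g⁻¹ * (n : G))⁻¹ = x
  have : (g⁻¹ * (n : G)) * (y : G) * (g⁻¹ * (n : G))⁻¹ = g⁻¹ * ((n : G) * y * (n : G)⁻¹) * g := by group
  rw [this, h5]
  group

/-! ### the number of Sylow subgroups -/

theorem card_dvd_of_free {H α : Type*} [Group H] [MulAction H α] [Finite H] [Finite α]
    (h : ∀ (g : H) (a : α), g • a = a → g = 1) : Nat.card H ∣ Nat.card α := by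
  classical
  have : Fintype H := Fintype.ofFinite H
  have : Fintype α := Fintype.ofFinite α
  have h1 := MulAction.card_eq_sum_card_group_div_card_stabilizer H α
  rw [Nat.card_eq_fintype_card (α := α), h1]
  refine Finset.dvd_sum fun ω _ => ?_
  have h2 : MulAction.stabilizer H (Quotient.out ω : α) = ⊥ := by
    rw [eq_bot_iff]
    intro g hg
    exact h g _ (MulAction.mem_stabilizer_iff.1 hg)
  have h3 : Fintype.card (MulAction.stabilizer H (Quotient.out ω : α)) = 1 := by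
    rw [← Nat.card_eq_fintype_card, h2, Subgroup.card_bot]
  rw [h3, Nat.div_one, Nat.card_eq_fintype_card]

/-- `S` acts on the other Sylow subgroups -/
@[reducible] noncomputable def actOther (S : Sylow p G) : MulAction (S : Subgroup G) {T : Sylow p G // T ≠ S} where
  smul x T := ⟨(x : G) • T.1, fun h => T.2 (by
    have h1 : (x : G)⁻¹ • S = S := Sylow.smul_eq_iff_mem_normalizer.2 (inv_mem (le_normalizer x.2))
    have h2 : (x : G)⁻¹ • ((x : G) • T.1) = (x : G)⁻¹ • S := by rw [h]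
    rwa [inv_smul_smul, h1] at h2)⟩
  one_smul T := Subtype.ext (one_smul G T.1)
  mul_smul x y T := Subtype.ext (mul_smul (x : G) (y : G) T.1)

theorem card_dvd_sub_one (hTI : H794.TI p G) (S : Sylow p G) : Nat.card S ∣ Nat.card (Sylow p G) - 1 := by
  classical
  have h1 : Nat.card {T : Sylow p G // T ≠ S} = Nat.card (Sylow p G) - 1 := by
    have : Fintype (Sylow p G) := Fintype.ofFinite _
    rw [Nat.card_eq_fintype_card, Fintype.card_subtype_compl, Fintype.card_subtype_eq, Nat.card_eq_fintype_card]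
  rw [← h1]
  let _ := actOther S
  refine card_dvd_of_free fun x T h => ?_
  exact Subtype.ext (eq_one_of_fix hTI (Ne.symm T.2) x.2 (congrArg Subtype.val h))

theorem arith {Q M d t k : ℕ} (hM : M < Q) (hM0 : M ≠ 0) (hk : k ≠ 0) (h : t * (1 + k * Q) * d = M * (Q + 1)) :
    k = 1 := by
  have h1 : t * d ≤ M := by
    by_contra hlt
    push Not at hlt
    have h2 : M * (Q + 1) < t * d * (Q + 1) := Nat.mul_lt_mul_of_pos_right hlt (Nat.succ_pos _)
    have h3 : t * d * (Q + 1) ≤ t * d * (1 + k * Q) := by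
      apply Nat.mul_le_mul_left
      have : 1 * Q ≤ k * Q := Nat.mul_le_mul_right _ (Nat.one_le_iff_ne_zero.2 hk)
      omega
    have h4 : t * d * (1 + k * Q) = t * (1 + k * Q) * d := by ring
    omega
  have h2 : t * d % Q = M % Q := by
    have h3 : (t * d + Q * (k * (t * d))) % Q = (M + Q * M) % Q := by
      congr 1
      calc t * d + Q * (k * (t * d)) = t * (1 + k * Q) * d := by ring
        _ = M + Q * M := by rw [h]; ring
    rwa [Nat.add_mul_mod_self_left, Nat.add_mul_mod_self_left] at h3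
  rw [Nat.mod_eq_of_lt hM, Nat.mod_eq_of_lt (lt_of_le_of_lt h1 hM)] at h2
  have h3 : M * (1 + k * Q) = M * (Q + 1) := by
    rw [← h, ← h2]
    ring
  have h4 := Nat.eq_of_mul_eq_mul_left (Nat.pos_of_ne_zero hM0) h3
  have h5 : k * Q = 1 * Q := by omega
  exact Nat.eq_of_mul_eq_mul_right (by omega) h5

theorem RO.of_card [IsSimpleGroup G] {n M d : ℕ} (hTI : H794.TI p G) (hO : OddLe p G) (hB : BorelSolv p G)
    (hn : n ≠ 0) (hM : M < p ^ n) (hpM : ¬ p ∣ M) (hpd : ¬ p ∣ d) (hev : ¬ Odd (Nat.card G)) (hp2 : p ≠ 2)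
    (hcard : Nat.card G * d = p ^ n * M * (p ^ n + 1))
    (hcent : ∀ (z x : G) (r : ℕ), r.Prime → r ≠ 2 → r ≠ p → orderOf z = r → orderOf x = p → z * x = x * z →
      r ∣ p ^ n + 1) : RO p G := by
  have hM0 : M ≠ 0 := by rintro rfl; exact hpM (dvd_zero p)
  have hd0 : d ≠ 0 := by rintro rfl; exact hpd (dvd_zero p)
  have hG0 : Nat.card G ≠ 0 := Nat.card_pos.ne'
  have hpn : p ∣ p ^ n := dvd_pow_self p hn
  have hpn1 : ¬ p ∣ p ^ n + 1 := by
    intro h
    exact hp.out.one_lt.ne' (Nat.dvd_one.1 ((Nat.dvd_add_right hpn).1 h))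
  have hfac : (Nat.card G).factorization p = n := by
    have h1 : (Nat.card G * d).factorization p = (p ^ n * M * (p ^ n + 1)).factorization p := by rw [hcard]
    have hQ0 : p ^ n ≠ 0 := (pow_pos hp.out.pos n).ne'
    rw [Nat.factorization_mul hG0 hd0, Nat.factorization_mul (mul_ne_zero hQ0 hM0) (by omega),
      Nat.factorization_mul hQ0 hM0, hp.out.factorization_pow] at h1
    simp only [Finsupp.add_apply, Finsupp.single_eq_same] at h1
    rw [Nat.factorization_eq_zero_of_not_dvd hpM, Nat.factorization_eq_zero_of_not_dvd hpn1,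
      Nat.factorization_eq_zero_of_not_dvd hpd] at h1
    omega
  have hS : ∀ S : Sylow p G, Nat.card S = p ^ n := fun S => by rw [S.card_eq_multiplicity, hfac]
  have hdvd : p ∣ Nat.card G := by
    by_contra h
    rw [Nat.factorization_eq_zero_of_not_dvd h] at hfac
    exact hn hfac.symm
  refine ⟨hTI, hdvd, fun S => ?_, hO, hB, fun S z x r h1 h2 h3 h4 h5 h6 => by
    rw [hS S]; exact hcent z x r h1 h2 h3 h4 h5 h6⟩
  rw [hS S]
  obtain ⟨k, hk⟩ := card_dvd_sub_one hTI S
  rw [hS S] at hk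
  have hpos : 0 < Nat.card (Sylow p G) := Nat.card_pos
  have hk' : Nat.card (Sylow p G) = 1 + k * p ^ n := by
    rw [mul_comm k]
    omega
  have hi : Nat.card (Sylow p G) = (normalizer ((S : Subgroup G) : Set G)).index := Sylow.card_eq_index_normalizer S
  have hk0 : k ≠ 0 := by
    rintro rfl
    rw [zero_mul, add_zero, hi, Subgroup.index_eq_one, normalizer_eq_top_iff] at hk'
    rcases hk'.eq_bot_or_eq_top with h1 | h1
    · have h2 := hS S
      rw [h1, Subgroup.card_bot] at h2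
      exact (Nat.one_lt_pow hn hp.out.one_lt).ne h2
    · apply hev
      have h2 := hS S
      rw [h1, Subgroup.card_top] at h2
      rw [h2]
      exact (hp.out.odd_of_ne_two hp2).pow
  obtain ⟨t, ht⟩ : ∃ t, Nat.card (normalizer ((S : Subgroup G) : Set G)) = p ^ n * t := by
    have h1 : Nat.card S ∣ Nat.card (normalizer ((S : Subgroup G) : Set G)) := Subgroup.card_dvd_of_le le_normalizer
    rw [hS S] at h1
    exact h1
  have hGc : Nat.card G = p ^ n * t * (1 + k * p ^ n) := by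
    rw [← Subgroup.card_mul_index (normalizer ((S : Subgroup G) : Set G)), ht, ← hi, hk']
  have hk1 : k = 1 := by
    refine arith (Q := p ^ n) (M := M) (d := d) (t := t) hM hM0 hk0 ?_
    rw [hGc] at hcard
    have hpos : 0 < p ^ n := pow_pos hp.out.pos n
    refine Nat.eq_of_mul_eq_mul_left hpos ?_
    calc p ^ n * (t * (1 + k * p ^ n) * d) = p ^ n * t * (1 + k * p ^ n) * d := by ring
      _ = p ^ n * M * (p ^ n + 1) := hcard
      _ = _ := by ring
  rw [hk', hk1]
  omega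

end Abs

section Inst

universe u

variable {X : Type u} [Group X] [Finite X] [IsSimpleGroup X] {p : ℕ} [hp : Fact p.Prime]

theorem order_mul {G : Type*} [Group G] {z x : G} {r : ℕ} (hr : r.Prime) (hrp : r ≠ p) (hz : orderOf z = r)
    (hx : orderOf x = p) (h : z * x = x * z) : orderOf (z * x) = r * p := by
  rw [(show Commute z x from h).orderOf_mul_eq_mul_orderOf_of_coprime, hz, hx]
  rw [hz, hx]
  exact (Nat.coprime_primes hr hp.out).2 hrp

/-- **`PSL_2(q)`** -/
theorem ro_psl2 (hp2 : p ≠ 2) {F : Type} [Field F] [Fintype F] [CharP F p] (h4 : 4 ≤ Fintype.card F)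
    (e : X ≃* Matrix.ProjectiveSpecialLinearGroup (Fin 2) F) : RO p X := by
  obtain ⟨⟨f, hf⟩, -, hcard⟩ := FiniteField.card F p
  change Fintype.card F = p ^ f at hcard
  have hLie : IsLieTypeChar p X := Or.inl ⟨F, inferInstance, inferInstance, inferInstance, 2, le_rfl, fun _ => h4, ⟨e⟩⟩
  have hodd : Odd (Fintype.card F) := by rw [hcard]; exact (hp.out.odd_of_ne_two hp2).pow
  have hfin : Finite (Matrix.ProjectiveSpecialLinearGroup (Fin 2) F) := Finite.of_equiv X e.toEquiv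
  have hTI : H794.TI p (Matrix.ProjectiveSpecialLinearGroup (Fin 2) F) := by
    intro S x hx hx1 g hg
    refine Sylow.smul_eq_iff_mem_normalizer.1 ?_
    refine ClassicalGeometry.PSL2ElemOrder.sylow_eq_of_mem p (g • S) S (g * x * g⁻¹) ?_ ?_ hg
    · intro h
      exact hx1 (conj_eq_one_iff.1 h)
    · rw [Sylow.coe_subgroup_smul]
      exact ⟨x, hx, rfl⟩
  have hpq : p ∣ Fintype.card F := by rw [hcard]; exact dvd_pow_self p hf.ne'
  have hq1 : 1 < Fintype.card F := by omega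
  have hp1 : ¬ p ∣ 1 := fun h => hp.out.one_lt.ne' (Nat.dvd_one.1 h)
  have hpm : ¬ p ∣ Fintype.card F - 1 := by
    intro h
    have h1 := Nat.dvd_sub hpq h
    rw [Nat.sub_sub_self hq1.le] at h1
    exact hp1 h1
  have hpp : ¬ p ∣ Fintype.card F + 1 := fun h => hp1 ((Nat.dvd_add_right hpq).1 h)
  refine RO.of_card (n := f) (M := Fintype.card F - 1) (d := 2)
    (H794.DefClosed.TI.congr e.symm hTI) (oddLe_of_lie hp2 hLie) (borelSolv_of_lie hp2 hLie) hf.ne' ?_ hpm ?_
    (not_odd_of_lie hp2 hLie) hp2 ?_ ?_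
  · rw [← hcard]
    omega
  · intro h
    exact hp2 ((Nat.prime_dvd_prime_iff_eq hp.out Nat.prime_two).1 h)
  · have h1 := SmallSimple.PSLTwoPart.card_psl_two_odd hodd
    rw [Nat.card_congr e.toEquiv, mul_comm, h1, ← hcard]
    have h2 : Fintype.card F ^ 2 - 1 = (Fintype.card F - 1) * (Fintype.card F + 1) := by
      rw [mul_comm, ← Nat.sq_sub_sq, one_pow]
    rw [h2, mul_assoc]
  · intro z x r hr hr2 hrp hz hx hzx
    exfalso
    have h1 := order_mul (p := p) hr hrp hz hx hzx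
    rw [← MulEquiv.orderOf_eq e] at h1
    rcases H160.PSLTwo.orderOf_dvd p hodd (e (z * x)) with h2 | h2 | h2
    · rw [h1] at h2
      have h3 : r ∣ p := (dvd_mul_right r p).trans h2
      exact hrp ((Nat.prime_dvd_prime_iff_eq hr hp.out).1 h3)
    · rw [h1] at h2
      obtain ⟨k, hk⟩ := hodd
      exact hpm (((dvd_mul_left p r).trans h2).trans (Nat.div_dvd_of_dvd (by omega)))
    · rw [h1] at h2
      obtain ⟨k, hk⟩ := hodd
      exact hpp (((dvd_mul_left p r).trans h2).trans (Nat.div_dvd_of_dvd (by omega)))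

/-- **`PSU_3(q)`** -/
theorem ro_psu3 (hp2 : p ≠ 2) {F : Type} [Field F] [Fintype F] [CharP F p] {q : ℕ} (hF : Fintype.card F = q ^ 2)
    (hq2 : q ≠ 2) (e : X ≃* PSU 3 F q) : RO p X := by
  have hLie : IsLieTypeChar p X := Or.inr (Or.inr (Or.inl ⟨F, inferInstance, inferInstance, inferInstance, 3, q, hF,
    le_rfl, fun h => hq2 h.2, ⟨e⟩⟩))
  obtain ⟨⟨f', hf'⟩, -, hcard⟩ := FiniteField.card F p
  change Fintype.card F = p ^ f' at hcard
  obtain ⟨f, hf⟩ : ∃ f, q = p ^ f := by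
    have h1 : q ∣ p ^ f' := by rw [← hcard, hF]; exact dvd_pow_self q two_ne_zero
    obtain ⟨f, -, hf⟩ := (Nat.dvd_prime_pow hp.out).1 h1
    exact ⟨f, hf⟩
  have hf0 : f ≠ 0 := by
    rintro rfl
    rw [pow_zero] at hf
    rw [hf, one_pow] at hF
    have := Fintype.one_lt_card (α := F)
    omega
  have hpq : p ∣ q := by rw [hf]; exact dvd_pow_self p hf0
  have hqpos : 1 < q := by rw [hf]; exact Nat.one_lt_pow hf0 hp.out.one_lt
  have hp1 : ¬ p ∣ 1 := fun h => hp.out.one_lt.ne' (Nat.dvd_one.1 h)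
  have hfin : Finite (PSU 3 F q) := Finite.of_equiv X e.toEquiv
  have hTI : H794.TI p (PSU 3 F q) := H394.SqPsu3.ti_psu3 hF
  have hpp : ¬ p ∣ q + 1 := fun h => hp1 ((Nat.dvd_add_right hpq).1 h)
  have hq21 : 1 ≤ q ^ 2 := Nat.one_le_pow _ _ (by omega)
  have hpm : ¬ p ∣ q ^ 2 - 1 := by
    intro h
    have h1 := Nat.dvd_sub (hpq.trans (dvd_pow_self q two_ne_zero)) h
    rw [Nat.sub_sub_self hq21] at h1
    exact hp1 h1
  have hQ : p ^ (3 * f) = q ^ 3 := by rw [hf, ← pow_mul, mul_comm]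
  refine RO.of_card (n := 3 * f) (M := q ^ 2 - 1) (d := Nat.gcd 3 (q + 1))
    (H794.DefClosed.TI.congr e.symm hTI) (oddLe_of_lie hp2 hLie) (borelSolv_of_lie hp2 hLie) (by omega) ?_ hpm ?_
    (not_odd_of_lie hp2 hLie) hp2 ?_ ?_
  · rw [hQ]
    have : q ^ 2 ≤ q ^ 3 := Nat.pow_le_pow_right (by omega) (by norm_num)
    omega
  · intro h
    exact hpp (h.trans (Nat.gcd_dvd_right _ _))
  · have h1 := S0280.result hF 3 (by norm_num)
    simp only [Finset.prod_range_succ, Finset.prod_range_zero] at h1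
    norm_num only [_root_.pow_one, _root_.ite_true, _root_.one_mul, _root_.ite_false] at h1
    rw [hQ, Nat.card_congr e.toEquiv]
    have h2 : 0 < q + 1 := Nat.succ_pos _
    refine Nat.eq_of_mul_eq_mul_left h2 ?_
    calc (q + 1) * (Nat.card (PSU 3 F q) * Nat.gcd 3 (q + 1)) = _ := by ring
      _ = _ := h1
      _ = _ := by ring
  · intro z x r hr hr2 hrp hz hx hzx
    have h1 := order_mul (p := p) hr hrp hz hx hzx
    rw [← MulEquiv.orderOf_eq e] at h1
    rw [hQ]
    have hq3 : q + 1 ∣ q ^ 3 + 1 := by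
      have : q ^ 3 + 1 = (q + 1) * (q ^ 2 - q + 1) := by
        have h5 : q ≤ q ^ 2 := Nat.le_self_pow two_ne_zero q
        zify [h5]
        ring
      rw [this]
      exact dvd_mul_right _ _
    obtain ⟨g, hg⟩ := QuotientGroup.mk_surjective (e (z * x))
    rcases H127.PSUThree.order_dvd p hp2 q hF g with h2 | h2 | h2 | h2
    · rw [hg, h1] at h2
      exact absurd ((dvd_mul_left p r).trans h2) hpp
    · rw [hg, h1] at h2
      have h3 : r * p ∣ p * (q + 1) := h2.trans (Nat.div_dvd_of_dvd ((Nat.gcd_dvd_right _ _).trans (dvd_mul_left _ _)))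
      rw [mul_comm p] at h3
      exact (Nat.dvd_of_mul_dvd_mul_right hp.out.pos h3).trans hq3
    · rw [hg, h1] at h2
      refine absurd (((dvd_mul_left p r).trans h2).trans (Nat.div_dvd_of_dvd ?_)) hpm
      refine (Nat.gcd_dvd_right 3 (q + 1)).trans ?_
      have : q ^ 2 - 1 = (q + 1) * (q - 1) := by
        rw [← Nat.sq_sub_sq, one_pow]
      rw [this]
      exact dvd_mul_right _ _
    · rw [hg, h1] at h2
      exfalso
      have h3 : p ∣ (q ^ 2 - q + 1) := by
        refine ((dvd_mul_left p r).trans h2).trans (Nat.div_dvd_of_dvd ?_)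
        -- `gcd (3, q + 1) ∣ q ^ 2 - q + 1`
        have h5 : q ≤ q ^ 2 := Nat.le_self_pow two_ne_zero q
        have h6 : q ^ 2 - q + 1 + 3 * q = (q + 1) * (q + 1) := by
          zify [h5]
          ring
        have h7 : Nat.gcd 3 (q + 1) ∣ q ^ 2 - q + 1 + 3 * q := by
          rw [h6]
          exact (Nat.gcd_dvd_right _ _).mul_right _
        exact (Nat.dvd_add_left ((Nat.gcd_dvd_left _ _).mul_right q)).1 h7
      have h4 : p ∣ q ^ 2 - q := Nat.dvd_sub (hpq.trans (dvd_pow_self q two_ne_zero)) hpq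
      exact hp1 ((Nat.dvd_add_right h4).1 h3)

omit [IsSimpleGroup X] hp in
/-- **`²G₂(q)`** -/
theorem ro_ree [IsSimpleGroup X] (h : Lie.IsoRee X) : RO 3 X := by
  have hp3 : Fact (Nat.Prime 3) := ⟨Nat.prime_three⟩
  have hLie : IsLieTypeChar 3 X := by
    iterate 10 refine Or.inr ?_
    exact ⟨rfl, h⟩
  have hTI := H794.DefClosed.ti_ree h
  obtain ⟨K, _, _, m, hm, hK, ⟨e⟩⟩ := h
  have hfin : Finite ↥(Lie.twistedG2 K (3 ^ m)) := Finite.of_equiv X e.toEquiv
  obtain ⟨q, hq⟩ : ∃ q, q = 3 ^ (2 * m + 1) := ⟨_, rfl⟩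
  have h3q : 3 ∣ q := by rw [hq]; exact dvd_pow_self 3 (by omega)
  have hqpos : 1 < q := by rw [hq]; exact Nat.one_lt_pow (by omega) (by norm_num)
  have hQ : 3 ^ (3 * (2 * m + 1)) = q ^ 3 := by rw [hq, ← pow_mul, mul_comm]
  refine RO.of_card (n := 3 * (2 * m + 1)) (M := q - 1) (d := 1) hTI
    (oddLe_of_lie (by norm_num) hLie) (borelSolv_of_lie (by norm_num) hLie) (by omega) ?_ (by omega) (by norm_num)
    (not_odd_of_lie (by norm_num) hLie) (by norm_num) ?_ ?_
  · rw [hQ]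
    have : q ≤ q ^ 3 := Nat.le_self_pow (by norm_num) q
    omega
  · rw [hQ, mul_one, Nat.card_congr e.toEquiv, S1069.result hK, ← hq]
  · intro z x r hr hr2 hrp hz hx hzx
    exfalso
    have h1 := order_mul (p := 3) hr hrp hz hx hzx
    rw [← MulEquiv.orderOf_eq e] at h1
    have h3 : 3 ∣ r * 3 := dvd_mul_left 3 r
    rcases (S1159.result hm hK (r * 3)).1 ⟨e (z * x), h1⟩ with h2 | h2 | h2 | h2 | h2 | h2
    · have h4 : r ∣ 2 := by
        have h5 : r * 3 ∣ 2 * 3 := h2
        exact Nat.dvd_of_mul_dvd_mul_right (by norm_num) h5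
      exact hr2 ((Nat.prime_dvd_prime_iff_eq hr Nat.prime_two).1 h4)
    · have h4 : r ∣ 3 := by
        have h5 : r * 3 ∣ 3 * 3 := h2
        exact Nat.dvd_of_mul_dvd_mul_right (by norm_num) h5
      exact hrp ((Nat.prime_dvd_prime_iff_eq hr Nat.prime_three).1 h4)
    · have h4 := h3.trans h2
      rw [← hq] at h4
      omega
    · have h4 := h3.trans h2
      rw [← hq] at h4
      have h5 : q % 2 = 1 := by rw [hq, Nat.pow_mod]; norm_num
      have h6 := h4.trans (Nat.div_dvd_of_dvd (show 2 ∣ q + 1 by (clear * - h5; omega)))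
      (clear * - hq h4 h5; omega)
    · have h4 := h3.trans h2
      have h5 : 3 ^ (m + 1) ≤ 3 ^ (2 * m + 1) := Nat.pow_le_pow_right (by norm_num) (by omega)
      have h6 : 3 ∣ 3 ^ (m + 1) := dvd_pow_self 3 (by omega)
      rw [← hq] at h4 h5
      (clear * - hq h4; omega)
    · have h4 := h3.trans h2
      have h6 : 3 ∣ 3 ^ (m + 1) := dvd_pow_self 3 (by omega)
      rw [← hq] at h4
      omega

/-- **Groups of rank one in characteristic `p ∈ π`, `2 ∉ π`.** -/
theorem dom_rankOne {π : Set ℕ} (h2 : 2 ∉ π) {X : Type u} [Group X] [Finite X] [IsSimpleGroup X] {p : ℕ}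
    (hp : p.Prime) (hpπ : p ∈ π) (hX : Cfsg.Agent.H817.DPi.RankOne p X) (hE : IsEPiGroup π X) : Dom π X := by
  have := Fact.mk hp
  have hp2 : p ≠ 2 := by rintro rfl; exact h2 hpπ
  rcases hX with ⟨F, iF, iT, hc, h4, ⟨e⟩⟩ | ⟨F, iF, iT, hc, q, hF, hq, ⟨e⟩⟩ | ⟨rfl, h⟩
  · exact (ro_psl2 hp2 h4 e).dom h2 hpπ hE
  · exact (ro_psu3 hp2 hF hq e).dom h2 hpπ hE
  · exact (ro_ree h).dom h2 hpπ hE

end Inst

end Cfsg.Agent.H14.DP
end

-- part: H817/DPi/Asm
section
/-!
# Products of two π-decomposable groups satisfy `D_π`: assembly (helper817, for S4247)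

* `dom_lx` : `Dom` and `RowE` for the simple groups of the list `LX`;
* `Boxes π` : the rows which remain;
* `row_all` : the rows for all known simple groups.
-/

set_option autoImplicit false

namespace Cfsg.Agent.H817.DPi

open Subgroup Cfsg Cfsg.Agent.H988.CPi Cfsg.Agent.H571.RV Cfsg.Agent.H571.DExt Cfsg.Agent.H817.PD

universe u

variable {π : Set ℕ}

theorem isLie_of_rankOne {p : ℕ} {X : Type u} [Group X] (h : RankOne p X) : IsLieTypeChar p X := by
  rcases h with ⟨F, i1, i2, i3, h1, f⟩ | ⟨F, i1, i2, i3, q, h1, h2, f⟩ | ⟨hp, h1⟩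
  · exact Or.inl ⟨F, i1, i2, i3, 2, le_rfl, fun _ => h1, f⟩
  · exact Or.inr (Or.inr (Or.inl ⟨F, i1, i2, i3, 3, q, h1, le_rfl, fun h => h2 h.2, f⟩))
  · exact Or.inr (Or.inr (Or.inr (Or.inr (Or.inr (Or.inr (Or.inr (Or.inr (Or.inr (Or.inr ⟨hp, h1⟩)))))))))

/-- the groups of the list -/
theorem dom_lx (h2 : 2 ∉ π) {X : Type u} [Group X] [Finite X] [IsSimpleGroup X] (h : LX π X)
    (hE : ∃ H : Subgroup X, IsPiHall π H) : Dom π X ∧ RowE π X := by
  rcases h with ⟨p, hpπ, hp, h⟩ | h | h | h | h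
  · exact ⟨H14.DP.dom_rankOne h2 hp hpπ h hE, H537.RV.rowE_own h2 hp hpπ (isLie_of_rankOne h)⟩
  · exact ⟨H191.DPi.dom_small h2 hE (Or.inl h), H807.DPi.rowE_small h2 (Or.inl h)⟩
  · exact ⟨H191.DPi.dom_small h2 hE (Or.inr (Or.inl h)), H807.DPi.rowE_small h2 (Or.inr (Or.inl h.1))⟩
  · exact ⟨H191.DPi.dom_small h2 hE (Or.inr (Or.inr (Or.inl h))), H807.DPi.rowE_small h2 (Or.inr (Or.inr (Or.inl h.1)))⟩
  · exact ⟨H191.DPi.dom_small h2 hE (Or.inr (Or.inr (Or.inr h))),
      H807.DPi.rowE_small h2 (Or.inr (Or.inr (Or.inr h.1)))⟩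

/-- the remaining rows -/
structure Boxes (π : Set ℕ) : Prop where
  /-- `p ∈ π` (helper160) -/
  own : ∀ (S : Type u) [Group S] [Finite S] [IsSimpleGroup S] (p : ℕ), p.Prime → p ∈ π → IsLieTypeChar p S → Row π S
  /-- `p ∉ π` -/
  psl : ∀ (S : Type u) [Group S] [Finite S] [IsSimpleGroup S] (p : ℕ), p.Prime → p ∉ π → IsPSLChar p S → Row π S
  psp : ∀ (S : Type u) [Group S] [Finite S] [IsSimpleGroup S] (p : ℕ), p.Prime → p ∉ π → IsPSpChar p S → Row π S
  psu : ∀ (S : Type u) [Group S] [Finite S] [IsSimpleGroup S] (p : ℕ), p.Prime → p ∉ π → IsPSUChar p S → Row π S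
  om : ∀ (S : Type u) [Group S] [Finite S] [IsSimpleGroup S] (p : ℕ), p.Prime → p ∉ π →
    (IsPOmegaOddChar p S ∨ IsPOmegaPlusChar p S ∨ IsPOmegaMinusChar p S) → Row π S
  exc : ∀ (S : Type u) [Group S] [Finite S] [IsSimpleGroup S] (p : ℕ), p.Prime → p ∉ π →
    (IsExceptionalChevChar p S ∨ IsTwistedE6D4Char p S ∨ (p = 2 ∧ Lie.IsoSuzuki S) ∨ (p = 2 ∧ Lie.Iso2F4 S) ∨
      (p = 3 ∧ Lie.IsoRee S)) → Row π S
  spor : ∀ (S : Type u) [Group S] [Finite S] [IsSimpleGroup S], (IsSporadicGroup S ∨ Lie.IsoTits S) → Row π S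

/-- **All rows.** -/
theorem row_all (R : Boxes.{u} π) (S : Type u) [Group S] [Finite S] [IsSimpleGroup S] (hna : ¬ IsMulCommutative S)
    (h : IsKnownSimple' S) : Row π S := by
  rcases Cfsg.Agent.OddHalf.Known.classify' hna h with h | ⟨p, hp, h⟩ | h | h
  · exact H581.DPi.row_alt h
  · by_cases hpπ : p ∈ π
    · exact R.own S p hp hpπ h
    · rcases h with h | h | h | h | h | h | h | h | h | h | h
      · exact R.psl S p hp hpπ h
      · exact R.psp S p hp hpπ h
      · exact R.psu S p hp hpπ h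
      · exact R.om S p hp hpπ (Or.inl h)
      · exact R.om S p hp hpπ (Or.inr (Or.inl h))
      · exact R.om S p hp hpπ (Or.inr (Or.inr h))
      · exact R.exc S p hp hpπ (Or.inl h)
      · exact R.exc S p hp hpπ (Or.inr (Or.inl h))
      · exact R.exc S p hp hpπ (Or.inr (Or.inr (Or.inl h)))
      · exact R.exc S p hp hpπ (Or.inr (Or.inr (Or.inr (Or.inl h))))
      · exact R.exc S p hp hpπ (Or.inr (Or.inr (Or.inr (Or.inr h))))
  · exact R.spor S (Or.inr h)
  · exact R.spor S (Or.inl h)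

end Cfsg.Agent.H817.DPi
end
end
end
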